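import Cfsg.Agent.Lib.Phan.Extend
import Cfsg.Agent.Lib.SUCover.LPart

/-!
Lifting windows to `SU 4` over the field with nine elements.
-/

set_option autoImplicit false
set_option linter.unusedSectionVars false

namespace CfsgLib.Phan

open Matrix CfsgLib.UnitaryTransvection CfsgLib.UnitarySimple CfsgLib.SUCover CfsgLib.SUShort
open scoped commutatorElement

universe u v

variable {F : Type u} [Field F] [Fintype F] {q : ℕ} (hF : Fintype.card F = q ^ 2)

include hF in
theorem su2_hom_trivial (hq : q = 3) {Z : Type*} [Group Z] (hZ : ∀ z : Z, z ^ 4 = 1)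
    (f : Cfsg.SU 2 F q →* Z) : f = 1 := by
  classical
  obtain ⟨K, _, _, hK⟩ := exists_K hF
  obtain ⟨φ, B, -, Φ, -⟩ := exists_sl_model hF hK
  obtain ⟨p, hp⟩ := CharP.exists K
  have h3 : (3 : K) = 0 := by
    haveI := hp
    obtain ⟨d, hpp, hd⟩ := FiniteField.card K p
    rw [hK, hq] at hd
    obtain rfl : p = 3 := (Nat.prime_dvd_prime_iff_eq hpp Nat.prime_three).1
      (by rw [hd]; exact dvd_pow_self p d.pos.ne')
    exact_mod_cast CharP.cast_eq_zero K 3
  have key : ∀ A : Matrix.SpecialLinearGroup (Fin 2) K, A * A * A = 1 → f (Φ A) = 1 := fun A hA => by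
    have e3 : f (Φ A) ^ 3 = 1 := by
      rw [pow_succ, pow_two, ← map_mul, ← map_mul, ← map_mul, ← map_mul, hA, map_one, map_one]
    calc f (Φ A) = f (Φ A) ^ 4 * (f (Φ A) ^ 3)⁻¹ := by group
      _ = 1 := by rw [hZ, e3, inv_one, one_mul]
  have htop := Homogeneous.SD.sl_gen (f.comp Φ.toMonoidHom).ker
    (fun t => key _ (by
      rw [Homogeneous.SD.uSL_add, Homogeneous.SD.uSL_add, show t + t + t = 0 by linear_combination t * h3]
      exact Subtype.ext (by rw [PSL2.coe_uSL]; exact Matrix.one_fin_two.symm)))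
    (fun t => key _ (by
      rw [Homogeneous.SD.vSL_add, Homogeneous.SD.vSL_add, show t + t + t = 0 by linear_combination t * h3]
      exact Subtype.ext (by rw [PSL2.coe_vSL]; exact Matrix.one_fin_two.symm)))
  refine MonoidHom.ext fun x => ?_
  obtain ⟨A, rfl⟩ := Φ.surjective x
  exact MonoidHom.mem_ker.1 (htop ▸ Subgroup.mem_top A : A ∈ (f.comp Φ.toMonoidHom).ker)

include hF in
theorem center_three (hq : q = 3) : Subgroup.center (Cfsg.SU 3 F q) = ⊥ :=
  Subgroup.eq_bot_of_card_eq _ (by rw [(center_cyclic hF le_rfl).2, hq]; decide)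

include hF in
theorem center_four_pow (hq : q = 3) (z : Subgroup.center (Cfsg.SU 4 F q)) : z ^ 4 = 1 := by
  have h := pow_card_eq_one' (x := z)
  subst hq
  rwa [(center_cyclic hF (n := 4) (by omega)).2, show Nat.gcd 4 (3 + 1) = 4 by decide] at h

variable {G : Type v} [Group G]

include hF in
/-- A nontrivial homomorphism of `SU 4` has central kernel. -/
theorem ker_le_center (g : Cfsg.SU 4 F q →* G) (hg : g ≠ 1) : g.ker ≤ Subgroup.center (Cfsg.SU 4 F q) := by
  by_contra hle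
  haveI := UnitarySimple.simple hF (n := 4) (by omega) (by omega)
  have hn : (g.ker.map (QuotientGroup.mk' (Subgroup.center (Cfsg.SU 4 F q)))).Normal :=
    g.normal_ker.map _ (QuotientGroup.mk'_surjective _)
  rcases hn.eq_bot_or_eq_top with h | h
  · exact hle (fun x hx => (QuotientGroup.eq_one_iff x).1 (Subgroup.mem_bot.1 (h ▸ Subgroup.mem_map_of_mem _ hx)))
  refine hg (MonoidHom.ker_eq_top_iff.1 (top_le_iff.1 ?_))
  rw [← UnitarySimple.perfect hF (n := 4) (by omega) (by omega), commutator_def, Subgroup.commutator_le]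
  intro a _ b _
  obtain ⟨a', ha', ea⟩ := (h ▸ Subgroup.mem_top (QuotientGroup.mk' (Subgroup.center (Cfsg.SU 4 F q)) a) :
    QuotientGroup.mk' (Subgroup.center (Cfsg.SU 4 F q)) a ∈ g.ker.map (QuotientGroup.mk' _))
  obtain ⟨b', hb', eb⟩ := (h ▸ Subgroup.mem_top (QuotientGroup.mk' (Subgroup.center (Cfsg.SU 4 F q)) b) :
    QuotientGroup.mk' (Subgroup.center (Cfsg.SU 4 F q)) b ∈ g.ker.map (QuotientGroup.mk' _))
  have za := (QuotientGroup.eq.1 ea)
  have zb := (QuotientGroup.eq.1 eb)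
  rw [MonoidHom.mem_ker, map_commutatorElement, commutatorElement_eq_one_iff_mul_comm]
  have ga : g (a'⁻¹ * a) = g a := by rw [map_mul, map_inv, MonoidHom.mem_ker.1 ha', inv_one, one_mul]
  rw [← ga, ← map_mul, ← map_mul, ← Subgroup.mem_center_iff.1 za b]

include hF in
/-- Windows lift through a homomorphism of `SU 4`. -/
theorem exists_lift_window (hq : q = 3) (g : Cfsg.SU 4 F q →* G) (hg : g.ker ≤ Subgroup.center (Cfsg.SU 4 F q))
    (ψ : Cfsg.SU 3 F q →* G) (hψ : ψ.range ≤ g.range) : ∃ a : Cfsg.SU 3 F q →* Cfsg.SU 4 F q, g.comp a = ψ := by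
  classical
  let E : Subgroup (Cfsg.SU 3 F q × Cfsg.SU 4 F q) :=
    (ψ.comp (MonoidHom.fst _ _)).eqLocus (g.comp (MonoidHom.snd _ _))
  let σ : E →* Cfsg.SU 3 F q := (MonoidHom.fst _ _).comp E.subtype
  have hs : Function.Surjective σ := fun x => by
    obtain ⟨y, hy⟩ := hψ ⟨x, rfl⟩
    exact ⟨⟨(x, y), hy.symm⟩, rfl⟩
  have hk : ∀ z : E, σ z = 1 → z.1.2 ∈ g.ker := fun z hz => by
    have := z.2
    change ψ z.1.1 = g z.1.2 at this
    rw [show z.1.1 = 1 from hz, map_one] at this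
    exact this.symm
  have hc : σ.ker ≤ Subgroup.center E := fun z hz => by
    rw [Subgroup.mem_center_iff]
    intro w
    refine Subtype.ext (Prod.ext ?_ (Subgroup.mem_center_iff.1 (hg (hk z hz)) w.1.2))
    show w.1.1 * z.1.1 = z.1.1 * w.1.1
    rw [show z.1.1 = 1 from hz, mul_one, one_mul]
  have hp : IsPGroup 2 σ.ker := fun z => ⟨2, by
    have hz : (⟨z.1.1.2, hg (hk z.1 z.2)⟩ : Subgroup.center (Cfsg.SU 4 F q)) ^ 4 = 1 := center_four_pow hF hq _
    refine Subtype.ext (Subtype.ext (Prod.ext ?_ (congrArg Subtype.val hz)))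
    show z.1.1.1 ^ (2 ^ 2) = 1
    rw [show z.1.1.1 = 1 from z.2, one_pow]⟩
  obtain ⟨p, hp'⟩ := CharP.exists F
  haveI := hp'
  obtain ⟨hpp, j, hj, hpj⟩ := q_pow hF (p := p)
  obtain rfl : p = 3 := (Nat.prime_dvd_prime_iff_eq hpp Nat.prime_three).1
    (by rw [← hq, hpj]; exact dvd_pow_self p (by omega))
  have hvan := van_SU hF (p := 3) Nat.prime_two (by decide) 3 E σ hs hc hp
  let τ : commutator E →* Cfsg.SU 3 F q := σ.comp (commutator E).subtype
  have hb : Function.Bijective τ := by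
    refine ⟨(injective_iff_map_eq_one _).2 fun z hz => Subtype.ext (hvan z.1 hz z.2), fun x => ?_⟩
    have hm : x ∈ (commutator E).map σ := by
      rw [commutator_def, Subgroup.map_commutator, Subgroup.map_top_of_surjective σ hs, ← commutator_def,
        UnitarySimple.perfect hF le_rfl (by omega)]
      exact Subgroup.mem_top x
    obtain ⟨z, hz, e⟩ := hm
    exact ⟨⟨z, hz⟩, e⟩
  let e := MulEquiv.ofBijective τ hb
  refine ⟨((MonoidHom.snd _ _).comp (E.subtype.comp (commutator E).subtype)).comp e.symm.toMonoidHom,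
    MonoidHom.ext fun x => ?_⟩
  have h2 := (e.symm x).1.2
  change ψ (τ (e.symm x)) = g (e.symm x).1.1.2 at h2
  exact h2.symm.trans (congrArg ψ (e.apply_symm_apply x))

include hF in
/-- The lifts of two compatible windows are compatible. -/
theorem lifts_compatible (hq : q = 3) (g : Cfsg.SU 4 F q →* G) (hg : g.ker ≤ Subgroup.center (Cfsg.SU 4 F q))
    {ψ φ : Cfsg.SU 3 F q →* G} (hagree : ∀ x, ψ (e1 hF x) = φ (e0 hF x))
    (hcomm : ∀ x y, Commute (ψ (e0 hF x)) (φ (e1 hF y))) {a b : Cfsg.SU 3 F q →* Cfsg.SU 4 F q}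
    (ha : g.comp a = ψ) (hb : g.comp b = φ) :
    (∀ x, a (e1 hF x) = b (e0 hF x)) ∧ ∀ x y, Commute (a (e0 hF x)) (b (e1 hF y)) := by
  subst ha hb
  have hZ := center_four_pow hF hq
  constructor
  · intro x
    have hd : ∀ x, (b (e0 hF x))⁻¹ * a (e1 hF x) ∈ Subgroup.center (Cfsg.SU 4 F q) := fun x => hg (by
      rw [MonoidHom.mem_ker, map_mul, map_inv]; exact inv_mul_eq_one.2 (hagree x).symm)
    let δ : Cfsg.SU 2 F q →* Subgroup.center (Cfsg.SU 4 F q) :=
      MonoidHom.mk' (fun x => ⟨_, hd x⟩) fun x y => Subtype.ext (by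
        show (b (e0 hF (x * y)))⁻¹ * a (e1 hF (x * y)) =
          (b (e0 hF x))⁻¹ * a (e1 hF x) * ((b (e0 hF y))⁻¹ * a (e1 hF y))
        have hc := Subgroup.mem_center_iff.1 (hd x) (b (e0 hF y))⁻¹
        simp only [map_mul, _root_.mul_inv_rev]
        calc (b (e0 hF y))⁻¹ * (b (e0 hF x))⁻¹ * (a (e1 hF x) * a (e1 hF y))
            = (b (e0 hF y))⁻¹ * ((b (e0 hF x))⁻¹ * a (e1 hF x)) * a (e1 hF y) := by group
          _ = (b (e0 hF x))⁻¹ * a (e1 hF x) * (b (e0 hF y))⁻¹ * a (e1 hF y) := by rw [hc]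
          _ = _ := by group)
    have := congrArg Subtype.val (DFunLike.congr_fun (su2_hom_trivial hF hq hZ δ) x)
    exact (inv_mul_eq_one.1 this).symm
  · intro x y
    have hd : ∀ x, ⁅a (e0 hF x), b (e1 hF y)⁆ ∈ Subgroup.center (Cfsg.SU 4 F q) := fun x => hg (by
      rw [MonoidHom.mem_ker, map_commutatorElement, commutatorElement_eq_one_iff_mul_comm]; exact hcomm x y)
    let δ : Cfsg.SU 2 F q →* Subgroup.center (Cfsg.SU 4 F q) :=
      MonoidHom.mk' (fun x => ⟨_, hd x⟩) fun x x' => Subtype.ext (by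
        show ⁅a (e0 hF (x * x')), b (e1 hF y)⁆ = ⁅a (e0 hF x), b (e1 hF y)⁆ * ⁅a (e0 hF x'), b (e1 hF y)⁆
        have hc := Subgroup.mem_center_iff.1 (hd x') (a (e0 hF x))
        rw [map_mul, map_mul]
        calc ⁅a (e0 hF x) * a (e0 hF x'), b (e1 hF y)⁆
            = a (e0 hF x) * ⁅a (e0 hF x'), b (e1 hF y)⁆ * b (e1 hF y) * (a (e0 hF x))⁻¹ * (b (e1 hF y))⁻¹ := by
              simp only [commutatorElement_def]; group
          _ = ⁅a (e0 hF x'), b (e1 hF y)⁆ * a (e0 hF x) * b (e1 hF y) * (a (e0 hF x))⁻¹ * (b (e1 hF y))⁻¹ := by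
              rw [hc]
          _ = ⁅a (e0 hF x'), b (e1 hF y)⁆ * ⁅a (e0 hF x), b (e1 hF y)⁆ := by
              simp only [commutatorElement_def]; group
          _ = _ := (Subgroup.mem_center_iff.1 (hd x') _).symm)
    have := congrArg Subtype.val (DFunLike.congr_fun (su2_hom_trivial hF hq hZ δ) x)
    exact commutatorElement_eq_one_iff_mul_comm.1 this

end CfsgLib.Phan
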