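import Cfsg.Agent.Lib.SUShort.GlueSpace
import Cfsg.Prelude.Def_PhanSystems

/-!
Coordinate blocks of `SU n` along windows of consecutive coordinates (for Phan's theorem).
-/

set_option autoImplicit false
set_option linter.unusedSectionVars false

namespace CfsgLib.Phan

open Matrix CfsgLib.UnitaryTransvection CfsgLib.UnitarySimple CfsgLib.SUCover CfsgLib.SUShort

/-- The window of `k` consecutive coordinates starting at `i`. -/
def win (k n i : ℕ) (h : i + k ≤ n) : Fin k ↪ Fin n :=
  ⟨fun j => ⟨i + j, by omega⟩, fun a b e => Fin.ext (by simpa using e)⟩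

@[simp] theorem win_val {k n i : ℕ} (h : i + k ≤ n) (j : Fin k) : (win k n i h j : ℕ) = i + j := rfl

theorem win_trans {j k n i l : ℕ} (h : i + k ≤ n) (h' : l + j ≤ k) :
    (win j k l h').trans (win k n i h) = win j n (i + l) (by omega) := by
  ext x
  simp only [Function.Embedding.trans_apply, win_val]
  omega

variable {F : Type*} [Field F] [Fintype F] {q : ℕ} (hF : Fintype.card F = q ^ 2)

theorem embM_trans {j k n : ℕ} (f : Fin k ↪ Fin n) (g : Fin j ↪ Fin k) (A : Matrix (Fin j) (Fin j) F) :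
    embM f (embM g A) = embM (g.trans f) A := by
  ext x y
  by_cases hx : x ∈ Set.range f
  swap
  · rw [embM_apply_row f hx, embM_apply_row (g.trans f) (fun ⟨i, hi⟩ => hx ⟨g i, hi⟩)]
  by_cases hy : y ∈ Set.range f
  swap
  · rw [embM_apply_col f hy, embM_apply_col (g.trans f) (fun ⟨i, hi⟩ => hy ⟨g i, hi⟩)]
  obtain ⟨a, rfl⟩ := hx
  obtain ⟨b, rfl⟩ := hy
  rw [embM_apply]
  by_cases ha : a ∈ Set.range g
  swap
  · rw [embM_apply_row g ha, embM_apply_row (g.trans f) (fun ⟨i, hi⟩ => ha ⟨i, f.injective hi⟩)]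
    simp [Matrix.one_apply]
  by_cases hb : b ∈ Set.range g
  swap
  · rw [embM_apply_col g hb, embM_apply_col (g.trans f) (fun ⟨i, hi⟩ => hb ⟨i, f.injective hi⟩)]
    simp [Matrix.one_apply]
  obtain ⟨a, rfl⟩ := ha
  obtain ⟨b, rfl⟩ := hb
  rw [embM_apply, show f (g a) = g.trans f a from rfl, show f (g b) = g.trans f b from rfl, embM_apply]

theorem embS_trans {j k n : ℕ} (f : Fin k ↪ Fin n) (g : Fin j ↪ Fin k) (A : Cfsg.SU j F q) :
    embS hF f (embS hF g A) = embS hF (g.trans f) A :=
  su_eq_of_mat (by rw [mat_embS, mat_embS, mat_embS, embM_trans])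

/-- The embedding on a window. -/
noncomputable def emb (k n i : ℕ) (h : i + k ≤ n) : Cfsg.SU k F q →* Cfsg.SU n F q := embS hF (win k n i h)

theorem emb_emb {j k n i l : ℕ} (h : i + k ≤ n) (h' : l + j ≤ k) (A : Cfsg.SU j F q) :
    emb hF k n i h (emb hF j k l h' A) = emb hF j n (i + l) (by omega) A := by
  rw [emb, emb, emb, embS_trans, win_trans]

theorem emb_congr {k n i i' : ℕ} {h : i + k ≤ n} {h' : i' + k ≤ n} (e : i = i') (A : Cfsg.SU k F q) :
    emb hF k n i h A = emb hF k n i' h' A := by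
  subst e
  rfl

theorem emb_injective {k n i : ℕ} (h : i + k ≤ n) :
    Function.Injective (emb hF k n i h : Cfsg.SU k F q →* Cfsg.SU n F q) := embS_injective hF _

/-- The set of coordinates of a window. -/
def wset (k n i : ℕ) : Finset (Fin n) := Finset.univ.filter fun j => i ≤ (j : ℕ) ∧ (j : ℕ) < i + k

theorem mem_wset {k n i : ℕ} {j : Fin n} : j ∈ wset k n i ↔ i ≤ (j : ℕ) ∧ (j : ℕ) < i + k := by simp [wset]

theorem map_win {k n i : ℕ} (h : i + k ≤ n) : Finset.univ.map (win k n i h) = wset k n i := by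
  ext j
  rw [mem_wset, Finset.mem_map]
  constructor
  · rintro ⟨a, -, rfl⟩
    rw [win_val]
    omega
  · rintro ⟨h1, h2⟩
    exact ⟨⟨(j : ℕ) - i, by omega⟩, Finset.mem_univ _, Fin.ext (by simp; omega)⟩

theorem emb_mem {k n i : ℕ} (h : i + k ≤ n) (A : Cfsg.SU k F q) :
    emb hF k n i h A ∈ (Supp (wset k n i) : Subgroup (Cfsg.SU n F q)) := by
  rw [← map_win h]
  exact embS_mem hF _ A

theorem exists_emb {k n i : ℕ} (h : i + k ≤ n) {g : Cfsg.SU n F q} (hg : g ∈ Supp (wset k n i)) :
    ∃ A, emb hF k n i h A = g := exists_embS hF _ (by rwa [map_win h])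

theorem emb_mulVec {k n i : ℕ} (h : i + k ≤ n) (A : Cfsg.SU k F q) (j : Fin k) (v : Fin n → F) :
    (mat (emb hF k n i h A) *ᵥ v) (win k n i h j) = (mat A *ᵥ (v ∘ win k n i h)) j := embS_mulVec hF _ A j v

/-- An embedded element sends an embedded basis vector to the corresponding column. -/
theorem emb_col {k n i : ℕ} (h : i + k ≤ n) (A : Cfsg.SU k F q) (a : Fin k) :
    ∀ b : Fin k, (mat (emb hF k n i h A) *ᵥ ev1 (win k n i h a)) (win k n i h b) = (mat A *ᵥ ev1 a) b := by
  intro b
  rw [emb_mulVec]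
  refine congrFun (congrArg (fun v => mat A *ᵥ v) ?_) b
  funext c
  simp [ev1, Pi.single_apply]

theorem emb_fix {k n i : ℕ} (h : i + k ≤ n) (A : Cfsg.SU k F q) {j : Fin n} (hj : j ∉ wset k n i) :
    mat (emb hF k n i h A) *ᵥ ev1 j = ev1 j := emb_mem hF h A j hj

/-- Two windows commute when disjoint. -/
theorem emb_commute {k l n i j : ℕ} (h : i + k ≤ n) (h' : j + l ≤ n) (hd : i + k ≤ j) (A : Cfsg.SU k F q)
    (B : Cfsg.SU l F q) : Commute (emb hF k n i h A) (emb hF l n j h' B) := by
  refine supp_commute ?_ hF (emb_mem hF h A) (emb_mem hF h' B)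
  rw [Finset.disjoint_left]
  intro x hx hx'
  rw [mem_wset] at hx hx'
  omega

include hF in
/-- An element moving only one coordinate is trivial. -/
theorem supp_single {n : ℕ} (a : Fin n) {g : Cfsg.SU n F q} (hg : g ∈ Supp {a}) : g = 1 := by
  have ha : (Finset.univ : Finset (Fin 1)).map ⟨fun _ => a, fun x y _ => Subsingleton.elim x y⟩ = {a} := by
    ext x
    simp only [Finset.mem_map, Finset.mem_univ, true_and, Finset.mem_singleton]
    exact ⟨fun ⟨_, e⟩ => e.symm, fun e => ⟨0, e.symm⟩⟩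
  obtain ⟨A, rfl⟩ := exists_embS hF _ (ha.symm ▸ hg)
  have := su_one_subsingleton (F := F) (q := q) hF (le_refl 1)
  rw [Subsingleton.elim A 1, map_one]

include hF in
/-- A pair element sending one line to a coordinate line sends the other to the other one. -/
theorem pair_other {n : ℕ} {a b x y : Fin n} (hab : a ≠ b) (hxy : (x = a ∧ y = b) ∨ (x = b ∧ y = a))
    {g : Cfsg.SU n F q} (hg : g ∈ Supp {a, b}) {c : F} (hu : mat g *ᵥ ev1 a = c • ev1 x) :
    ∃ d : F, d ≠ 0 ∧ mat g *ᵥ ev1 b = d • ev1 y := by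
  have hv : Vs {a, b} (mat g *ᵥ ev1 b) := supp_vs hF hg (vs_ev1 (by simp))
  have hne : mat g *ᵥ (ev1 b : Fin n → F) ≠ 0 := mat_ne_zero g fun e => by simpa [ev1] using congrFun e b
  have hc : c ≠ 0 := fun e => mat_ne_zero g (show (ev1 a : Fin n → F) ≠ 0 from fun e' => by simpa [ev1] using congrFun e' a)
    (by rw [hu, e, zero_smul])
  have ho : Cfsg.hermForm n F q (mat g *ᵥ ev1 b) (mat g *ᵥ ev1 a) = 0 := by
    rw [su_h, h_ev1 hF, ev1, Pi.single_eq_of_ne hab]
  rw [hu, h_smul_right hF, h_ev1 hF, mul_eq_zero] at ho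
  have hx0 : (mat g *ᵥ ev1 b) x = 0 := ho.resolve_left (by rw [map_eq_zero]; exact hc)
  have e : mat g *ᵥ ev1 b = (mat g *ᵥ ev1 b) y • ev1 y := by
    funext z
    rw [Pi.smul_apply, smul_eq_mul]
    by_cases hzy : z = y
    · subst hzy; rw [show (ev1 z : Fin n → F) z = 1 from Pi.single_eq_same z 1, mul_one]
    · rw [show (ev1 y : Fin n → F) z = 0 from Pi.single_eq_of_ne hzy _, mul_zero]
      by_cases hzx : z = x
      · rw [hzx]; exact hx0
      · refine hv z ?_
        simp only [Finset.mem_insert, Finset.mem_singleton]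
        rcases hxy with ⟨rfl, rfl⟩ | ⟨rfl, rfl⟩ <;> tauto
  exact ⟨_, fun e' => hne (by rw [e, e', zero_smul]), e⟩

include hF in
/-- The block subgroup of the statements is the pointwise stabiliser. -/
theorem suBlock_eq {n : ℕ} (S : Finset (Fin n)) : Cfsg.suBlock n F q (↑S : Set (Fin n)) = Supp S := by
  apply le_antisymm
  · refine (Subgroup.closure_le _).2 fun g hg j hj => ?_
    obtain ⟨h1, h2⟩ := hg j (by simpa using hj)
    rw [ev1, mulVec_single_one]
    funext x
    by_cases hx : x = j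
    · subst hx; rw [Matrix.col_apply, Pi.single_eq_same]; exact h1
    · rw [Matrix.col_apply, Pi.single_eq_of_ne hx]; exact (h2 x hx).2
  · intro g hg
    refine Subgroup.subset_closure fun j hj => ?_
    have hj' : j ∉ S := by simpa using hj
    have hrow : ∀ l, mat g j l = (1 : Matrix (Fin n) (Fin n) F) j l := fun l => by
      have := supp_coord hF hg (ev1 l) hj'
      rw [ev1, mulVec_single_one] at this
      simpa [Matrix.col, Matrix.one_apply, Pi.single_apply] using this
    have hcol : ∀ l, mat g l j = (1 : Matrix (Fin n) (Fin n) F) l j := fun l => by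
      have := congrFun (hg j hj') l
      rw [ev1, mulVec_single_one] at this
      simpa [Matrix.col, Matrix.one_apply, Pi.single_apply, eq_comm] using this
    refine ⟨(hrow j).trans (Matrix.one_apply_eq j), fun l hl => ⟨(hrow l).trans (Matrix.one_apply_ne hl.symm), ?_⟩⟩
    exact (hcol l).trans (Matrix.one_apply_ne hl)

end CfsgLib.Phan
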