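import Cfsg.Agent.Lib.Phan.Step

/-!
Phan's theorem for a compatible family of `SU 3`-windows.
-/

set_option autoImplicit false
set_option linter.unusedSectionVars false

namespace CfsgLib.Phan

open Matrix CfsgLib.UnitaryTransvection CfsgLib.UnitarySimple CfsgLib.SUCover CfsgLib.SUShort

variable {F : Type*} [Field F] [Fintype F] {q : ℕ} (hF : Fintype.card F = q ^ 2)

theorem emb_self {n : ℕ} (A : Cfsg.SU n F q) : emb hF n n 0 (by omega) A = A := by
  refine su_eq_of_mat (Matrix.ext fun x y => ?_)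
  have hw : ∀ j : Fin n, win n n 0 (by omega) j = j := fun j => Fin.ext (Nat.zero_add _)
  conv_lhs => rw [← hw x, ← hw y]
  rw [emb, mat_embS, embM_apply]

include hF in
/-- A window is generated by its pairs. -/
theorem supp_blocks (hq : 3 ≤ q) {N i : ℕ} (H : Subgroup (Cfsg.SU N F q)) :
    ∀ k, 2 ≤ k → ∀ hk : i + k ≤ N,
      (∀ j, ∀ hj : j + 2 ≤ N, i ≤ j → j + 2 ≤ i + k → ∀ x, emb hF 2 N j hj x ∈ H) →
      (Supp (wset k N i) : Subgroup (Cfsg.SU N F q)) ≤ H := by
  intro k h2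
  induction k, h2 using Nat.le_induction with
  | base =>
    intro hk hH x hx
    obtain ⟨y, rfl⟩ := exists_emb hF hk hx
    exact hH i hk le_rfl le_rfl y
  | succ k h2 ih =>
    intro hk hH
    have hS := ih (by omega) (fun j hj h1 h3 => hH j hj h1 (by omega))
    have hins : wset (k + 1) N i = insert (⟨i + k, by omega⟩ : Fin N) (wset k N i) := by
      ext x
      simp only [Finset.mem_insert, mem_wset, Fin.ext_iff]
      omega
    have hP : (Supp ({⟨i + k - 1, by omega⟩, ⟨i + k, by omega⟩} : Finset (Fin N)) :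
        Subgroup (Cfsg.SU N F q)) ≤ H := by
      rw [show ({⟨i + k - 1, by omega⟩, ⟨i + k, by omega⟩} : Finset (Fin N)) = wset 2 N (i + k - 1) by
        ext x
        simp only [Finset.mem_insert, Finset.mem_singleton, mem_wset, Fin.ext_iff]
        omega]
      intro x hx
      obtain ⟨y, rfl⟩ := exists_emb hF (show i + k - 1 + 2 ≤ N by omega) hx
      exact hH _ _ (by omega) (by omega) y
    rw [hins]
    rcases eq_or_lt_of_le h2 with rfl | h3
    · have hw : wset 2 N i = ({⟨i, by omega⟩, ⟨i + 2 - 1, by omega⟩} : Finset (Fin N)) := by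
        ext x
        simp only [Finset.mem_insert, Finset.mem_singleton, mem_wset, Fin.ext_iff]
        omega
      rw [show insert (⟨i + 2, by omega⟩ : Fin N) (wset 2 N i) =
          ({⟨i, by omega⟩, ⟨i + 2 - 1, by omega⟩, ⟨i + 2, by omega⟩} : Finset (Fin N)) by
        ext x
        simp only [Finset.mem_insert, Finset.mem_singleton, mem_wset, Fin.ext_iff]
        omega]
      refine (supp_gen_two hF (Fin.ne_of_val_ne (by dsimp; omega)) (Fin.ne_of_val_ne (by dsimp; omega))
        (Fin.ne_of_val_ne (by dsimp; omega)) hq).trans (sup_le ?_ hP)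
      rw [← hw]
      exact hS
    · refine (supp_gen hF (S := wset k N i) (b := ⟨i + k - 1, by omega⟩) ?_ ?_ ?_).trans (sup_le hS hP)
      · rw [mem_wset]; dsimp; omega
      · rw [mem_wset]; dsimp; omega
      · rw [← map_win (show i + k ≤ N by omega), Finset.card_map, Finset.card_univ, Fintype.card_fin]
        omega

include hF in
/-- A compatible family of windows with homomorphisms of the windows of size `M` extends to the whole group. -/
theorem exists_chain_from {M : ℕ} (hM : 3 ≤ M) (hq : 4 ≤ q ∨ (q = 3 ∧ 4 ≤ M)) {G : Type*} [Group G] {N : ℕ}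
    (hN : M ≤ N) :
    ∀ (ψ : ℕ → Cfsg.SU 3 F q →* G) (U : ℕ → Subgroup G),
      (∀ i, i + M ≤ N → ∃ Ψ : Cfsg.SU M F q →* G,
        ∀ j, ∀ h : j + 3 ≤ M, ∀ w, Ψ (emb hF 3 M j h w) = ψ (i + j) w) →
      (∀ i, i + 4 ≤ N → ∀ x, ψ i (emb hF 2 3 1 (by omega) x) = ψ (i + 1) (emb hF 2 3 0 (by omega) x)) →
      (∀ i, i + 3 ≤ N → ∀ x, ψ i (emb hF 2 3 0 (by omega) x) ∈ U i) →
      (∀ i, i + 3 ≤ N → ∀ x, ψ i (emb hF 2 3 1 (by omega) x) ∈ U (i + 1)) →
      (∀ i j, i + 2 ≤ j → j + 2 ≤ N → ∀ x ∈ U i, ∀ y ∈ U j, Commute x y) →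
      ∃ Ψ : Cfsg.SU N F q →* G, ∀ i, ∀ h : i + 3 ≤ N, ∀ w, Ψ (emb hF 3 N i h w) = ψ i w := by
  induction N, hN using Nat.le_induction with
  | base =>
    intro ψ U hb _ _ _ _
    obtain ⟨Ψ, hΨ⟩ := hb 0 (by omega)
    exact ⟨Ψ, fun i h w => by rw [hΨ i h w, Nat.zero_add]⟩
  | succ N hN ih =>
    intro ψ U hb hc h0 h1 hU
    obtain ⟨T, hT⟩ := ih (fun i => ψ (i + 1)) (fun i => U (i + 1))
      (fun i hi => by
        obtain ⟨Ψ, hΨ⟩ := hb (i + 1) (by omega)
        exact ⟨Ψ, fun j h w => by rw [hΨ j h w, Nat.add_right_comm]⟩)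
      (fun i hi x => hc (i + 1) (by omega) x)
      (fun i hi x => h0 (i + 1) (by omega) x) (fun i hi x => h1 (i + 1) (by omega) x)
      (fun i j hij hj => hU (i + 1) (j + 1) (by omega) (by omega))
    let D : StepData hF N G :=
      { hm := hM.trans hN
        hq := hq.imp id fun h => ⟨h.1, h.2.trans hN⟩
        T := T
        W := ψ 0
        agree := fun x => by
          have := hT 0 (by omega) (emb hF 2 3 0 (by omega) x)
          rw [emb_emb] at this
          exact this.trans (hc 0 (by omega) x).symm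
        comm := fun x hx y hy => by
          obtain ⟨x', rfl⟩ := exists_emb hF (show 0 + 2 ≤ 3 by omega) hx
          have hx0 := h0 0 (by omega) x'
          refine Subgroup.mem_centralizer_singleton_iff.1
            (supp_blocks hF (by rcases hq with h | ⟨h, -⟩ <;> omega) ((Subgroup.centralizer {ψ 0 (emb hF 2 3 0 (by omega) x')}).comap T)
              (N - 1) (by omega) (by omega) (fun j hj h1j _ z => ?_) hy) |>.symm
          rw [Subgroup.mem_comap, Subgroup.mem_centralizer_singleton_iff]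
          have := hT (j - 1) (by omega) (emb hF 2 3 1 (by omega) z)
          rw [emb_emb, emb_congr hF (h' := hj) (show j - 1 + 1 = j by omega)] at this
          rw [this]
          exact (hU 0 (j - 1 + 1 + 1) (by omega) (by omega) _ hx0 _ (h1 _ (by omega) z)).symm }
    obtain ⟨Ψ, hι, hκ⟩ := D.exists_hom
    refine ⟨Ψ, fun i h w => ?_⟩
    rcases Nat.eq_zero_or_pos i with rfl | hi
    · exact hκ w
    · obtain ⟨i, rfl⟩ : ∃ j, i = j + 1 := ⟨i - 1, by omega⟩
      rw [← emb_congr hF (h := show 1 + i + 3 ≤ N + 1 by omega) (Nat.add_comm 1 i),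
        ← emb_emb hF (show 1 + N ≤ N + 1 by omega) (show i + 3 ≤ N by omega)]
      exact (hι _).trans (hT i (by omega) w)

include hF in
/-- A compatible family of windows gives a homomorphism of the whole group. -/
theorem exists_chain (hq : 4 ≤ q) {G : Type*} [Group G] {N : ℕ} (hN : 3 ≤ N) :
    ∀ (ψ : ℕ → Cfsg.SU 3 F q →* G) (U : ℕ → Subgroup G),
      (∀ i, i + 4 ≤ N → ∀ x, ψ i (emb hF 2 3 1 (by omega) x) = ψ (i + 1) (emb hF 2 3 0 (by omega) x)) →
      (∀ i, i + 3 ≤ N → ∀ x, ψ i (emb hF 2 3 0 (by omega) x) ∈ U i) →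
      (∀ i, i + 3 ≤ N → ∀ x, ψ i (emb hF 2 3 1 (by omega) x) ∈ U (i + 1)) →
      (∀ i j, i + 2 ≤ j → j + 2 ≤ N → ∀ x ∈ U i, ∀ y ∈ U j, Commute x y) →
      ∃ Ψ : Cfsg.SU N F q →* G, ∀ i, ∀ h : i + 3 ≤ N, ∀ w, Ψ (emb hF 3 N i h w) = ψ i w :=
  fun ψ U => exists_chain_from hF le_rfl (Or.inl hq) hN ψ U fun i _ => ⟨ψ i, fun j h w => by
    obtain rfl : j = 0 := by omega
    rw [emb_self, Nat.add_zero]⟩

end CfsgLib.Phan
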