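import Cfsg.Agent.Lib.Phan.Perp

/-!
Simple connectedness of the orthogonality graph of the unit points of a unitary space of dimension
at least four: a covering in which triangles and nondegenerate squares close is trivial.
-/

set_option autoImplicit false
set_option linter.unusedSectionVars false

namespace CfsgLib.Phan

open Matrix CfsgLib.UnitaryTransvection CfsgLib.UnitarySimple CfsgLib.SUCover CfsgLib.SUShort

variable {F : Type*} [Field F] [Fintype F] {q n : ℕ} (hF : Fintype.card F = q ^ 2)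

local notation "h" => Cfsg.hermForm n F q
local notation "σ" => frob hF

/-- Two vectors give the same point. -/
def Par (u v : Fin n → F) : Prop := ∃ c : F, c ≠ 0 ∧ v = c • u

theorem Par.rfl {u : Fin n → F} : Par u u := ⟨1, one_ne_zero, (one_smul F u).symm⟩

theorem Par.symm {u v : Fin n → F} (e : Par u v) : Par v u := by
  obtain ⟨c, hc, rfl⟩ := e
  exact ⟨c⁻¹, inv_ne_zero hc, by rw [smul_smul, inv_mul_cancel₀ hc, one_smul]⟩

theorem Par.trans {u v w : Fin n → F} (e : Par u v) (e' : Par v w) : Par u w := by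
  obtain ⟨c, hc, rfl⟩ := e
  obtain ⟨c', hc', rfl⟩ := e'
  exact ⟨c' * c, mul_ne_zero hc' hc, by rw [smul_smul]⟩

theorem Par.orth_left {u v x : Fin n → F} (e : Par u v) (ho : Cfsg.hermForm n F q u x = 0) :
    Cfsg.hermForm n F q v x = 0 := by
  obtain ⟨c, -, rfl⟩ := e
  rw [h_smul_left, ho, mul_zero]

include hF in
theorem Par.orth_right {u v x : Fin n → F} (e : Par u v) (ho : h x u = 0) : h x v = 0 :=
  swap_zero hF (e.orth_left (swap_zero hF ho))

include hF in
theorem Par.phase {u v : Fin n → F} (e : Par u v) (hu : h u u = 1) (hv : h v v = 1) :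
    ∃ c : F, c * σ c = 1 ∧ v = c • u := by
  obtain ⟨c, -, rfl⟩ := e
  rw [h_smul_left, h_smul_right hF, hu, mul_one] at hv
  exact ⟨c, hv, Eq.refl _⟩

/-- A covering of the orthogonality graph on unit points with closed triangles and nondegenerate squares. -/
structure CoverData (X : Type*) where
  vec : X → Fin n → F
  unit : ∀ x, Cfsg.hermForm n F q (vec x) (vec x) = 1
  Adj : X → X → Prop
  symm : ∀ x y, Adj x y → Adj y x
  orth : ∀ x y, Adj x y → Cfsg.hermForm n F q (vec x) (vec y) = 0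
  lift : ∀ x v, Cfsg.hermForm n F q v v = 1 → Cfsg.hermForm n F q v (vec x) = 0 → ∃ y, Adj x y ∧ Par (vec y) v
  uniq : ∀ x y y', Adj x y → Adj x y' → Par (vec y) (vec y') → y = y'
  tri : ∀ x y z, Adj x y → Adj y z → Cfsg.hermForm n F q (vec x) (vec z) = 0 → Adj x z
  square : ∀ x y z y', Adj x y → Adj y z → Adj x y' →
    Cfsg.hermForm n F q (vec z) (vec x) * frob hF (Cfsg.hermForm n F q (vec z) (vec x)) ≠ 1 →
    Cfsg.hermForm n F q (vec y') (vec z) = 0 → Adj y' z

namespace CoverData

variable {hF} {X : Type*} (C : CoverData (n := n) hF X)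

theorem nrm {u v u' v' : Fin n → F} (hu : h u u = 1) (hu' : h u' u' = 1) (hv : h v v = 1) (hv' : h v' v' = 1)
    (eu : Par u u') (ev : Par v v') : h u' v' * σ (h u' v') = h u v * σ (h u v) := by
  obtain ⟨c, hc, rfl⟩ := eu.phase hF hu hu'
  obtain ⟨e, he, rfl⟩ := ev.phase hF hv hv'
  rw [h_smul_left, h_smul_right hF, map_mul, map_mul, frob_frob]
  linear_combination (h u v * σ (h u v) * (σ e * e)) * hc + (h u v * σ (h u v)) * he

/-- The closing step for a tangent square, through a suitable point. -/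
theorem tangent_step (hn : 4 ≤ n) {x y z y' : X} (hxy : C.Adj x y) (hyz : C.Adj y z) (hxy' : C.Adj x y')
    (ho : h (C.vec y') (C.vec z) = 0) {g : Fin n → F} (hg : h g g = 1) (hga : h g (C.vec x) = 0)
    (hgc : h g (C.vec y) = 0) (h1 : h g (C.vec z) * σ (h g (C.vec z)) ≠ 1)
    (h2 : h g (C.vec y') * σ (h g (C.vec y')) ≠ 1)
    (h3 : h g (C.vec z) * σ (h g (C.vec z)) + h g (C.vec y') * σ (h g (C.vec y')) ≠ 1) : C.Adj y' z := by
  obtain ⟨G, hG, pG⟩ := C.lift x g hg hga
  have uG := C.unit G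
  have hGy : C.Adj G y := C.tri G x y (C.symm _ _ hG) hxy (pG.symm.orth_left hgc)
  obtain ⟨e1, he1, he1g, he1c, he1b⟩ := perp_three hF hn hg (C.unit y) (C.unit z) (C.orth _ _ hyz)
    (by rw [hgc, zero_mul, zero_add]; exact h1)
  obtain ⟨H, hH, pH⟩ := C.lift y e1 he1 he1c
  have hHG : C.Adj H G := C.tri H y G (C.symm _ _ hH) (C.symm _ _ hGy)
    (pG.symm.orth_right hF (pH.symm.orth_left he1g))
  have hHz : C.Adj H z := C.tri H y z (C.symm _ _ hH) hyz (pH.symm.orth_left he1b)
  have ho' : h (C.vec z) (C.vec y') = 0 := swap_zero hF ho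
  obtain ⟨e, he, heg, heb, hed⟩ := perp_three hF hn hg (C.unit z) (C.unit y') ho' h3
  obtain ⟨E, hE, pE⟩ := C.lift G e he (pG.symm.orth_right hF heg)
  have hEz : C.Adj E z := C.square G H z E (C.symm _ _ hHG) hHz hE (by
    rw [nrm (C.unit z) (C.unit z) hg uG Par.rfl pG.symm, ← h_swap hF g (C.vec z), frob_frob, mul_comm]
    exact h1) (pE.symm.orth_left heb)
  have hEy : C.Adj E y' := C.square G x y' E (C.symm _ _ hG) hxy' hE (by
    rw [nrm (C.unit y') (C.unit y') hg uG Par.rfl pG.symm, ← h_swap hF g (C.vec y'), frob_frob, mul_comm]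
    exact h2) (pE.symm.orth_left hed)
  exact C.tri y' E z (C.symm _ _ hEy) hEz ho

include hF in
/-- At least `q` elements are fixed by the field involution. -/
theorem exists_avoid (hq : 5 ≤ q) (a b c d : F) : ∃ t : F, σ t = t ∧ t ≠ a ∧ t ≠ b ∧ t ≠ c ∧ t ≠ d := by
  classical
  obtain ⟨g, hg⟩ := IsCyclic.exists_ofOrder_eq_natCard (α := Fˣ)
  rw [Nat.card_units, Nat.card_eq_fintype_card, hF] at hg
  let s : Finset F := insert 0 ((Finset.range (q - 1)).image fun i => ((g ^ ((q + 1) * i) : Fˣ) : F))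
  have hinj : Set.InjOn (fun i => ((g ^ ((q + 1) * i) : Fˣ) : F)) (Finset.range (q - 1) : Finset ℕ) := by
    have hlt : ∀ i, i < q - 1 → (q + 1) * i < orderOf g := by
      intro i hi
      rw [hg]
      calc (q + 1) * i < (q + 1) * (q - 1) := Nat.mul_lt_mul_of_pos_left hi (by omega)
        _ = q ^ 2 - 1 := by rw [← Nat.sq_sub_sq, one_pow]
    intro i hi j hj e
    simp only [Finset.coe_range, Set.mem_Iio] at hi hj
    exact Nat.eq_of_mul_eq_mul_left (by omega) (pow_injOn_Iio_orderOf (hlt i hi) (hlt j hj) (Units.ext e))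
  have hcard : s.card = q := by
    rw [Finset.card_insert_of_notMem, Finset.card_image_of_injOn hinj, Finset.card_range]
    · omega
    · simp only [Finset.mem_image, not_exists, not_and]
      exact fun i _ => Units.ne_zero _
  have hfix : ∀ t ∈ s, σ t = t := by
    intro t ht
    rcases Finset.mem_insert.1 ht with rfl | ht
    · exact map_zero _
    · obtain ⟨i, -, rfl⟩ := Finset.mem_image.1 ht
      rw [frob_apply, ← Units.val_pow_eq_pow_val, ← pow_mul]
      congr 1
      refine pow_eq_pow_iff_modEq.2 ?_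
      have he : (q + 1) * i * q = (q + 1) * i + orderOf g * i := by
        rw [hg, show q ^ 2 - 1 = (q + 1) * (q - 1) by rw [← Nat.sq_sub_sq, one_pow]]
        obtain ⟨k, hk⟩ : ∃ k, q = k + 1 := ⟨q - 1, by omega⟩
        subst hk
        rw [show k + 1 - 1 = k from rfl]
        ring
      rw [he]
      exact Nat.ModEq.symm (Nat.modEq_iff_dvd' (Nat.le_add_right _ _) |>.2 (by simp))
  have hlt : ({a, b, c, d} : Finset F).card < s.card := by
    rw [hcard]; exact lt_of_le_of_lt Finset.card_le_four (by omega)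
  obtain ⟨t, hts, ht⟩ := Finset.exists_mem_notMem_of_card_lt_card hlt
  simp only [Finset.mem_insert, Finset.mem_singleton, not_or] at ht
  exact ⟨t, hfix t hts, ht.1, ht.2.1, ht.2.2.1, ht.2.2.2⟩

include hF in
/-- The values available over the field with four elements. -/
theorem four_facts (hq : q = 4) {m : F} (hm : σ m = m) (hm0 : m ≠ 0) (hm1 : m ≠ 1) :
    ∃ e : F, e + σ e = 1 ∧ e * σ e * m = 1 := by
  have h2 : (2 : F) = 0 := by
    obtain ⟨p, _⟩ := CharP.exists F
    obtain ⟨hp, j, hj, hpj⟩ := q_pow (F := F) hF (p := p)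
    have hp2 : p = 2 := (Nat.prime_dvd_prime_iff_eq hp Nat.prime_two).1
      (hp.dvd_of_dvd_pow (n := 2) (by rw [show (2 : ℕ) ^ 2 = p ^ j by omega]; exact dvd_pow_self p (by omega)))
    have h0 := CharP.cast_eq_zero F p
    rw [hp2] at h0
    exact_mod_cast h0
  have key : ∀ k : F, σ k = k → k ≠ 0 → k ≠ 1 → k ^ 2 + k + 1 = 0 := by
    intro k hk h0 h1
    rw [frob_apply, hq] at hk
    have : k * (k - 1) * (k ^ 2 + k + 1) = 0 := by linear_combination hk
    rcases mul_eq_zero.1 this with e | e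
    · rcases mul_eq_zero.1 e with e | e
      · exact absurd e h0
      · exact absurd (sub_eq_zero.1 e) h1
    · exact e
  obtain ⟨e, he⟩ := exists_trace_one hF
  rw [add_comm] at he
  have hk : σ (e * σ e) = e * σ e := by rw [map_mul, frob_frob, mul_comm]
  have hk0 : e * σ e ≠ 0 := by
    intro h0
    rcases mul_eq_zero.1 h0 with h0 | h0
    · rw [h0, map_zero, add_zero] at he; exact zero_ne_one he
    · rw [map_eq_zero] at h0; rw [h0, map_zero, add_zero] at he; exact zero_ne_one he
  have hk1 : e * σ e ≠ 1 := by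
    intro h1
    have h3 : e ^ 3 = 1 := by linear_combination (e - 1) * (e * he - h1) + (e ^ 2 - e) * h2
    rw [frob_apply, hq, pow_succ, h3, one_mul] at he
    exact zero_ne_one (show (0 : F) = 1 by linear_combination he - e * h2)
  have ek := key _ hk hk0 hk1
  have em := key _ hm hm0 hm1
  have hdich : m = e * σ e ∨ m = (e * σ e) ^ 2 := by
    have : (m - e * σ e) * (m - (e * σ e) ^ 2) = 0 := by
      linear_combination em + (e * σ e - m - 1) * ek
    rcases mul_eq_zero.1 this with h' | h'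
    · exact Or.inl (sub_eq_zero.1 h')
    · exact Or.inr (sub_eq_zero.1 h')
  have hk3 : (e * σ e) ^ 3 = 1 := by linear_combination (e * σ e - 1) * ek
  rcases hdich with rfl | rfl
  · refine ⟨e ^ 2, ?_, ?_⟩
    · rw [map_pow]; linear_combination (e + σ e + 1) * he - (e * σ e) * h2
    · rw [map_pow, ← mul_pow]; linear_combination hk3
  · exact ⟨e, he, by linear_combination hk3⟩

include hF in
/-- Over the field with nine elements and in dimension five, a unit vector in general position. -/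
theorem tangent_avoid (hq : q = 3) (hn : 5 ≤ n) {a c r r' w : Fin n → F} (ha : h a a = 1) (hc : h c c = 1)
    (hac : h a c = 0) (hra : h r a = 0) (hrc : h r c = 0) (hrr : h r r = 0) (hwr : h w r = 1) (hr'a : h r' a = 0)
    (hr'c : h r' c = 0) (hrr' : h r r' = 0) (hr'r' : h r' r' = 0) :
    ∃ g, h g g = 1 ∧ h g a = 0 ∧ h g c = 0 ∧ h g r = 0 ∧ h g r' * σ (h g r') ≠ 1 := by
  have h3 : (3 : F) = 0 := by
    obtain ⟨p, _⟩ := CharP.exists F
    obtain ⟨hp, j, hj, hpj⟩ := q_pow (F := F) hF (p := p)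
    have hp3 : p = 3 := (Nat.prime_dvd_prime_iff_eq hp Nat.prime_three).1
      (by rw [← hq, hpj]; exact dvd_pow_self p (by omega))
    have h0 := CharP.cast_eq_zero F p
    rw [hp3] at h0
    exact_mod_cast h0
  have hca : h c a = 0 := swap_zero hF hac
  set u₀ := w - h w a • a - h w c • c with hu₀
  have hua₀ : h u₀ a = 0 := by simp only [hu₀, h_sub_left, h_smul_left, ha, hca]; ring
  have huc₀ : h u₀ c = 0 := by simp only [hu₀, h_sub_left, h_smul_left, hc, hac]; ring
  have hur₀ : h u₀ r = 1 := by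
    simp only [hu₀, h_sub_left, h_smul_left, swap_zero hF hra, swap_zero hF hrc, hwr]; ring
  have hru₀ : h r u₀ = 1 := by rw [← h_swap hF u₀ r, hur₀, map_one]
  obtain ⟨l, hl⟩ := exists_trace hF (c := h u₀ u₀ - 1) (by rw [map_sub, map_one, h_self_fixed hF])
  set u := u₀ + σ l • r with hu
  have huu : h u u = 1 := by
    simp only [hu, h_add_left, h_add_right hF, h_smul_left, h_smul_right hF, hrr, hur₀, hru₀, frob_frob]
    linear_combination hl
  have hua : h u a = 0 := by rw [hu, h_add_left, h_smul_left, hua₀, hra, mul_zero, add_zero]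
  have huc : h u c = 0 := by rw [hu, h_add_left, h_smul_left, huc₀, hrc, mul_zero, add_zero]
  have hur : h u r = 1 := by rw [hu, h_add_left, h_smul_left, hur₀, hrr, mul_zero, add_zero]
  have hru : h r u = 1 := by rw [← h_swap hF u r, hur, map_one]
  obtain ⟨k, hk0, hk⟩ := exists_unit_smul hF (v := r - u) (by
    rw [show h (r - u) (r - u) = -1 by simp only [h_sub_left, h_sub_right hF, hrr, hru, hur, huu]; ring]
    exact neg_ne_zero.2 one_ne_zero)
  set u' := k • (r - u) with hu'
  have hu'a : h u' a = 0 := by rw [hu', h_smul_left, h_sub_left, hra, hua, sub_zero, mul_zero]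
  have hu'c : h u' c = 0 := by rw [hu', h_smul_left, h_sub_left, hrc, huc, sub_zero, mul_zero]
  have huu' : h u u' = 0 := by rw [hu', h_smul_right hF, h_sub_right hF, hur, huu, sub_self, mul_zero]
  obtain ⟨g, hg, hp⟩ := exists_unit_perp hF (k := 4) (by omega) ![a, c, u, u'] (by
    intro i j
    fin_cases i <;> fin_cases j <;>
      simp [ha, hc, huu, hk, hac, hca, hua, huc, hu'a, hu'c, huu', swap_zero hF hua, swap_zero hF huc,
        swap_zero hF hu'a, swap_zero hF hu'c, swap_zero hF huu'])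
  have hga : h g a = 0 := hp 0
  have hgc : h g c = 0 := hp 1
  have hgu : h g u = 0 := hp 2
  have hgu' : h g u' = 0 := hp 3
  have hgr : h g r = 0 := by
    rw [hu', h_smul_right hF, h_sub_right hF, hgu, sub_zero, mul_eq_zero] at hgu'
    exact hgu'.resolve_left (by rw [map_eq_zero]; exact hk0)
  by_cases hne : h g r' * σ (h g r') ≠ 1
  · exact ⟨g, hg, hga, hgc, hgr, hne⟩
  push Not at hne
  set x := r' - h r' g • g with hx
  have hr'g : h r' g = σ (h g r') := (h_swap hF g r').symm
  have hxg : h x g = 0 := by rw [hx, h_sub_left, h_smul_left, hg, mul_one, sub_self]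
  have hxr' : h x r' = -1 := by
    rw [hx, h_sub_left, h_smul_left, hr'r', hr'g]; linear_combination -hne
  have hxx : h x x = -1 := by
    rw [show h x x = h x (r' - h r' g • g) from congrArg (h x) hx, h_sub_right hF, h_smul_right hF, hxg,
      mul_zero, sub_zero, hxr']
  obtain ⟨e, he0, he⟩ := exists_unit_smul hF (v := x) (by rw [hxx]; exact neg_ne_zero.2 one_ne_zero)
  have he' : e * σ e = -1 := by
    rw [h_smul_left, h_smul_right hF, hxx] at he
    linear_combination -he
  refine ⟨e • x, he, ?_, ?_, ?_, fun hcon => ?_⟩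
  · rw [h_smul_left, hx, h_sub_left, h_smul_left, hr'a, hga]; ring
  · rw [h_smul_left, hx, h_sub_left, h_smul_left, hr'c, hgc]; ring
  · rw [h_smul_left, hx, h_sub_left, h_smul_left, swap_zero hF hrr', hgr]; ring
  · rw [h_smul_left, hxr', map_mul, map_neg, map_one] at hcon
    exact one_ne_zero (show (1 : F) = 0 by linear_combination h3 + hcon - he')

/-- A square. -/
theorem four (hn : 4 ≤ n) (hq : 4 ≤ q ∨ (q = 3 ∧ 5 ≤ n)) {x y z y' : X} (hxy : C.Adj x y) (hyz : C.Adj y z) (hxy' : C.Adj x y')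
    (ho : h (C.vec y') (C.vec z) = 0) : C.Adj y' z := by
  by_cases hzx : h (C.vec z) (C.vec x) * σ (h (C.vec z) (C.vec x)) ≠ 1
  · exact C.square x y z y' hxy hyz hxy' hzx ho
  by_cases hyy : h (C.vec y') (C.vec y) * σ (h (C.vec y') (C.vec y)) ≠ 1
  · exact C.symm _ _ (C.square y x y' z (C.symm _ _ hxy) hxy' hyz hyy (swap_zero hF ho))
  push Not at hzx hyy
  set a := C.vec x with ha
  set c := C.vec y with hc
  set β := h (C.vec z) a with hβ
  set γ := h (C.vec y') c with hγ
  have hβ0 : β ≠ 0 := fun e => by rw [e, zero_mul] at hzx; exact zero_ne_one hzx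
  have hγ0 : γ ≠ 0 := fun e => by rw [e, zero_mul] at hyy; exact zero_ne_one hyy
  -- normalised vectors
  set b := β⁻¹ • C.vec z with hb
  set d := γ⁻¹ • C.vec y' with hd
  have pb : Par (C.vec z) b := ⟨_, inv_ne_zero hβ0, Eq.refl _⟩
  have pd : Par (C.vec y') d := ⟨_, inv_ne_zero hγ0, Eq.refl _⟩
  have hba : h b a = 1 := by rw [hb, h_smul_left, ← hβ, inv_mul_cancel₀ hβ0]
  have hdc : h d c = 1 := by rw [hd, h_smul_left, ← hγ, inv_mul_cancel₀ hγ0]
  have hinv : ∀ {t : F}, t * σ t = 1 → t⁻¹ * σ t⁻¹ = 1 := fun {t} ht => by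
    rw [map_inv₀, ← mul_inv, ht, inv_one]
  have hbb : h b b = 1 := by rw [hb, h_smul_left, h_smul_right hF, C.unit, mul_one, hinv hzx]
  have hdd : h d d = 1 := by rw [hd, h_smul_left, h_smul_right hF, C.unit, mul_one, hinv hyy]
  have haa : h a a = 1 := C.unit x
  have hcc : h c c = 1 := C.unit y
  have hac : h a c = 0 := C.orth _ _ hxy
  have hca : h c a = 0 := swap_zero hF hac
  have hbc : h b c = 0 := pb.orth_left (swap_zero hF (C.orth _ _ hyz))
  have hda : h d a = 0 := pd.orth_left (swap_zero hF (C.orth _ _ hxy'))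
  have hdb : h d b = 0 := pd.orth_left (pb.orth_right hF ho)
  have hab : h a b = 1 := by rw [← h_swap hF b a, hba, map_one]
  have hcd : h c d = 1 := by rw [← h_swap hF d c, hdc, map_one]
  set r := b - a with hr
  set r' := d - c with hr'
  have hra : h r a = 0 := by rw [hr, h_sub_left, hba, haa, sub_self]
  have hrc : h r c = 0 := by rw [hr, h_sub_left, hbc, hac, sub_self]
  have hrr : h r r = 0 := by rw [hr, h_sub_left, h_sub_right hF, h_sub_right hF, hbb, hba, hab, haa]; ring
  have hrr' : h r r' = 0 := by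
    rw [hr, hr', h_sub_left, h_sub_right hF, h_sub_right hF, swap_zero hF hdb, hbc, swap_zero hF hda, hac]; ring
  have hr'a : h r' a = 0 := by rw [hr', h_sub_left, hda, hca, sub_self]
  have hr'c : h r' c = 0 := by rw [hr', h_sub_left, hdc, hcc, sub_self]
  have hr'b : h r' b = 0 := by rw [hr', h_sub_left, hdb, swap_zero hF hbc, sub_self]
  have hr'r' : h r' r' = 0 := by
    rw [hr', h_sub_left, h_sub_right hF, h_sub_right hF, hdd, hdc, hcd, hcc]; ring
  by_cases hr0 : r = 0
  · have : Par (C.vec x) (C.vec z) := by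
      rw [← ha, ← (sub_eq_zero.1 hr0)]; exact pb.symm
    rw [← C.uniq y x z (C.symm _ _ hxy) hyz this]
    exact C.symm _ _ hxy'
  obtain ⟨v, hv⟩ : ∃ v, h v r ≠ 0 := by
    by_contra hh
    push Not at hh
    exact hr0 (h_nondeg hF fun v => swap_zero hF (hh v))
  obtain ⟨w, hwr⟩ : ∃ w, h w r = 1 := ⟨(h v r)⁻¹ • v, by rw [h_smul_left, inv_mul_cancel₀ hv]⟩
  have harr : h a r = 0 := swap_zero hF hra
  rcases hq with hq | ⟨hq3, hn5⟩
  swap
  · obtain ⟨g, hg, hga, hgc, hgr, hgd⟩ := tangent_avoid (hF := hF) hq3 hn5 haa hcc hac hra hrc hrr hwr hr'a hr'c hrr' hr'r'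
    have hgb : h g b = 0 := by
      rw [show b = a + r by rw [hr]; abel, h_add_right hF, hga, hgr, add_zero]
    have hgd' : h g d * σ (h g d) ≠ 1 := by
      rwa [show d = c + r' by rw [hr']; abel, h_add_right hF, hgc, zero_add]
    have e1 : h g (C.vec z) * σ (h g (C.vec z)) = 0 := by
      rw [nrm hg hg hbb (C.unit z) Par.rfl pb.symm, hgb, zero_mul]
    have e2 : h g (C.vec y') * σ (h g (C.vec y')) = h g d * σ (h g d) :=
      nrm hg hg hdd (C.unit y') Par.rfl pd.symm
    exact C.tangent_step hn hxy hyz hxy' ho hg hga hgc (by rw [e1]; exact zero_ne_one) (by rw [e2]; exact hgd')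
      (by rw [e1, e2, zero_add]; exact hgd')
  -- one step towards a vector `c + e • r'`
  have step : ∀ (Y Y' : X) (c₁ e : Fin n → F), C.Adj x Y → C.Adj Y z → C.Adj x Y' →
      h (C.vec Y') (C.vec z) = 0 → h c₁ c₁ = 1 → h c₁ a = 0 → h c₁ b = 0 → h e a = 0 → h e c₁ = 0 → h r e = 0 →
      Par c₁ (C.vec Y) → Par (c₁ + e) (C.vec Y') → h (c₁ + e) (c₁ + e) = 1 →
      (5 ≤ q ∨ h w e * σ (h w e) = 0 ∨ h w e * σ (h w e) = 1) → C.Adj y' z ∨ C.Adj Y' z := by
    intro Y Y' c₁ e hY hYz hY' ho' hc1 hc1a hc1b hea hec her pY pY' hu' hgood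
    right
    set D := h w e with hD
    obtain ⟨t, ht, ht0, ht1, htD, htD1⟩ :
        ∃ t : F, σ t = t ∧ t ≠ 0 ∧ t ≠ 1 ∧ t ≠ D * σ D ∧ t ≠ 1 + D * σ D := by
      rcases hgood with h5 | h01
      · exact exists_avoid (hF := hF) h5 0 1 (D * σ D) (1 + D * σ D)
      · by_cases h5 : 5 ≤ q
        · exact exists_avoid (hF := hF) h5 0 1 (D * σ D) (1 + D * σ D)
        · obtain ⟨t, ht, ht0, ht1⟩ := exists_norm_general hF (q := q) (by omega)
          have h2 : (2 : F) = 0 := by
            have h4 : q = 4 := by omega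
            obtain ⟨p, _⟩ := CharP.exists F
            obtain ⟨hp, j, hj, hpj⟩ := q_pow (F := F) hF (p := p)
            have hp2 : p = 2 := (Nat.prime_dvd_prime_iff_eq hp Nat.prime_two).1
              (hp.dvd_of_dvd_pow (n := 2) (by rw [show (2 : ℕ) ^ 2 = p ^ j by omega]; exact dvd_pow_self p (by omega)))
            have h0 := CharP.cast_eq_zero F p
            rw [hp2] at h0
            exact_mod_cast h0
          refine ⟨t, ht, ht0, ht1, ?_, ?_⟩
          · rcases h01 with h' | h' <;> rw [h'] <;> assumption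
          · rcases h01 with h' | h' <;> rw [h']
            · rw [add_zero]; exact ht1
            · rw [show (1 : F) + 1 = 2 by ring, h2]; exact ht0
    set u := w - h w a • a - h w c₁ • c₁ with hu
    have hrc1 : h r c₁ = 0 := by
      rw [hr, h_sub_left, swap_zero hF hc1b, swap_zero hF hc1a, sub_self]
    have hua : h u a = 0 := by
      simp only [hu, h_sub_left, h_smul_left, haa, hc1a]; ring
    have huc : h u c₁ = 0 := by
      simp only [hu, h_sub_left, h_smul_left, hc1, swap_zero hF hc1a]; ring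
    have hur : h u r = 1 := by
      simp only [hu, h_sub_left, h_smul_left, hwr, harr, swap_zero hF hrc1]; ring
    have hue : h u e = D := by
      simp only [hu, h_sub_left, h_smul_left, swap_zero hF hea, swap_zero hF hec, hD]; ring
    obtain ⟨l, hl⟩ := exists_trace hF (c := h u u - t) (by rw [map_sub, h_self_fixed hF, ht])
    have hru : h r u = 1 := by rw [← h_swap hF u r, hur, map_one]
    set g₀ := u + σ l • r with hg₀
    have hgg : h g₀ g₀ = t := by
      simp only [hg₀, h_add_left, h_add_right hF, h_smul_left, h_smul_right hF, hrr, hur, hru, frob_frob]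
      linear_combination hl
    obtain ⟨k, hk⟩ := exists_norm_eq hF (c := t⁻¹) (by rw [map_inv₀, ht])
    set g := k • g₀ with hg
    have hg1 : h g g = 1 := by
      rw [hg, h_smul_left, h_smul_right hF, hgg, ← mul_assoc, hk, inv_mul_cancel₀ ht0]
    have hgb : h g b * σ (h g b) = t⁻¹ := by
      have hbr : b = a + r := by rw [hr]; abel
      have : h g b = k := by
        simp only [hg, hg₀, hbr, h_smul_left, h_add_left, h_add_right hF, hua, hra, hur, hrr]
        ring
      rw [this, hk]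
    have hgd : h g (c₁ + e) * σ (h g (c₁ + e)) = t⁻¹ * (D * σ D) := by
      have : h g (c₁ + e) = k * D := by
        simp only [hg, hg₀, h_smul_left, h_add_left, h_add_right hF, huc, hrc1, hue, her]
        ring
      rw [this, map_mul]; linear_combination (D * σ D) * hk
    have pz := pb.symm
    refine C.tangent_step hn hY hYz hY' ho' hg1 ?_ ?_ ?_ ?_ ?_
    · rw [hg, hg₀, h_smul_left, h_add_left, h_smul_left, hua, hra]; ring
    · refine pY.orth_right hF ?_
      rw [hg, hg₀, h_smul_left, h_add_left, h_smul_left, huc, hrc1]; ring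
    · rw [nrm hg1 hg1 hbb (C.unit z) Par.rfl pz, hgb]
      exact fun e' => ht1 (inv_eq_one.1 e')
    · rw [nrm hg1 hg1 hu' (C.unit Y') Par.rfl pY', hgd]
      intro e'
      rw [inv_mul_eq_one₀ ht0] at e'
      exact htD e'
    · rw [nrm hg1 hg1 hbb (C.unit z) Par.rfl pz, hgb, nrm hg1 hg1 hu' (C.unit Y') Par.rfl pY', hgd]
      intro e'
      apply htD1
      field_simp at e'
      exact e'.symm
  have hce : c + r' = d := by rw [hr']; abel
  have hgo : (5 ≤ q ∨ h w r' * σ (h w r') = 0 ∨ h w r' * σ (h w r') = 1) → C.Adj y' z := fun hgood => by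
    rcases step y y' c r' hxy hyz hxy' ho hcc hca (swap_zero hF hbc) hr'a hr'c hrr' Par.rfl
      (by rw [hce]; exact pd.symm) (by rw [hce]; exact hdd) hgood with h' | h' <;> exact h'
  by_cases hgood : 5 ≤ q ∨ h w r' * σ (h w r') = 0 ∨ h w r' * σ (h w r') = 1
  · exact hgo hgood
  push Not at hgood
  obtain ⟨h5, hm0, hm1⟩ := hgood
  obtain ⟨e, he, hem⟩ := four_facts (hF := hF) (by omega) (m := h w r' * σ (h w r'))
    (by rw [map_mul, frob_frob, mul_comm]) hm0 hm1
  -- through the intermediate point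
  set c₂ := c + e • r' with hc₂
  have hcr' : h c r' = 0 := swap_zero hF hr'c
  have hc2 : h c₂ c₂ = 1 := by
    simp only [hc₂, h_add_left, h_add_right hF, h_smul_left, h_smul_right hF, hcc, hcr', hr'c, hr'r']; ring
  have hc2a : h c₂ a = 0 := by rw [hc₂, h_add_left, h_smul_left, hca, hr'a, mul_zero, add_zero]
  have hc2b : h c₂ b = 0 := by rw [hc₂, h_add_left, h_smul_left, swap_zero hF hbc, hr'b, mul_zero, add_zero]
  obtain ⟨Y, hY, pY⟩ := C.lift x c₂ hc2 hc2a
  have hYo : h (C.vec Y) (C.vec z) = 0 := pb.symm.orth_right hF (pY.symm.orth_left hc2b)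
  have hN : ∀ f : F, f * σ f = e * σ e → h w (f • r') * σ (h w (f • r')) = 1 := fun f hf => by
    rw [h_smul_right hF, map_mul, frob_frob]
    linear_combination hem + (h w r' * σ (h w r')) * hf
  rcases step y Y c (e • r') hxy hyz hY hYo hcc hca (swap_zero hF hbc)
    (by rw [h_smul_left, hr'a, mul_zero]) (by rw [h_smul_left, hr'c, mul_zero])
    (by rw [h_smul_right hF, hrr', mul_zero]) Par.rfl (by rw [← hc₂]; exact pY.symm) (by rw [← hc₂]; exact hc2)
    (Or.inr (Or.inr (hN e (Eq.refl _)))) with h' | hYz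
  · exact h'
  have hd2 : c₂ + (1 - e) • r' = d := by rw [hc₂, hr']; module
  rcases step Y y' c₂ ((1 - e) • r') hY hYz hxy' ho hc2 hc2a hc2b
    (by rw [h_smul_left, hr'a, mul_zero])
    (by rw [h_smul_left, hc₂, h_add_right hF, h_smul_right hF, hr'c, hr'r']; ring)
    (by rw [h_smul_right hF, hrr', mul_zero]) pY.symm (by rw [hd2]; exact pd.symm) (by rw [hd2]; exact hdd)
    (Or.inr (Or.inr (hN (1 - e) (by rw [map_sub, map_one]; linear_combination -he)))) with h' | h' <;> exact h'

/-- Within distance two of `x₀`. -/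
def Near (x₀ x : X) : Prop := ∃ y, C.Adj x₀ y ∧ C.Adj y x

theorem near_self (hn : 4 ≤ n) (x₀ : X) : C.Near x₀ x₀ := by
  obtain ⟨u, hu, hua⟩ := perp_one hF (by omega) (C.unit x₀)
  obtain ⟨y, hy, -⟩ := C.lift x₀ u hu hua
  exact ⟨y, hy, C.symm _ _ hy⟩

theorem near_inj (hn : 4 ≤ n) (hq : 4 ≤ q ∨ (q = 3 ∧ 5 ≤ n)) {x₀ z z' : X} (hz : C.Near x₀ z) (hz' : C.Near x₀ z')
    (hp : Par (C.vec z) (C.vec z')) : z = z' := by
  obtain ⟨y, h1, h2⟩ := hz
  obtain ⟨y', h3, h4⟩ := hz'
  have : C.Adj y' z := C.four hn hq h1 h2 h3 (hp.symm.orth_right hF (C.orth _ _ h4))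
  exact C.uniq y' z z' this h4 hp

theorem near_adj (hn : 4 ≤ n) (hq : 4 ≤ q ∨ (q = 3 ∧ 5 ≤ n)) {x₀ z w : X} (hz : C.Near x₀ z) (hzw : C.Adj z w) : C.Near x₀ w := by
  set a := C.vec x₀ with ha
  set b := C.vec z with hb
  set e := C.vec w with he
  have haa : h a a = 1 := C.unit _
  have hee : h e e = 1 := C.unit _
  have hbb : h b b = 1 := C.unit _
  have hbe : h b e = 0 := C.orth _ _ hzw
  obtain ⟨y₁, hy1, hy1z⟩ := hz
  by_cases hea : h e a = 0
  · obtain ⟨W, hW, pW⟩ := C.lift x₀ e hee hea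
    have hWz : C.Adj W z := C.four hn hq hy1 hy1z hW (pW.symm.orth_left (swap_zero hF hbe))
    have : W = w := C.uniq z W w (C.symm _ _ hWz) hzw pW
    subst this
    obtain ⟨p, hp, hpa, hpe⟩ := perp_two hF hn haa hee
    obtain ⟨P, hP, pP⟩ := C.lift x₀ p hp hpa
    exact ⟨P, hP, C.tri P x₀ W (C.symm _ _ hP) hW (pP.symm.orth_left hpe)⟩
  -- a neighbour of `x₀` and `z` that is nondegenerate with `e`
  obtain ⟨c, hc, hca, hcb, hce⟩ : ∃ c, h c c = 1 ∧ h c a = 0 ∧ h c b = 0 ∧ h c e * σ (h c e) ≠ 1 := by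
    by_cases hab : h b a * σ (h b a) = 1
    swap
    · obtain ⟨c₁, hc1, hc1a, hc1b⟩ := perp_two_nondeg hF (by omega) haa hbb hab
      by_cases hce : h c₁ e * σ (h c₁ e) ≠ 1
      · exact ⟨c₁, hc1, hc1a, hc1b, hce⟩
      push Not at hce
      obtain ⟨k, hk0, hk, hka⟩ := plane_orth hF haa hbb hab
      obtain ⟨c₂, hc2, hc2a, hc2', hc21⟩ := perp_three_orth hF hn haa hk hc1 (swap_zero hF hka)
        (swap_zero hF hc1a) (by rw [h_smul_left, h_sub_left, h_smul_left, swap_zero hF hc1b, swap_zero hF hc1a]; ring)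
      have hc2b : h c₂ b = 0 := by
        rw [h_smul_right hF, h_sub_right hF, h_smul_right hF, hc2a, mul_zero, sub_zero, mul_eq_zero] at hc2'
        exact hc2'.resolve_left (by simpa using hk0)
      by_cases hce2 : h c₂ e * σ (h c₂ e) ≠ 1
      · exact ⟨c₂, hc2, hc2a, hc2b, hce2⟩
      push Not at hce2
      obtain ⟨x, y, hxy, hne⟩ := pair_not_const hF (by omega) hc1 hc2 (swap_zero hF hc21) one_ne_zero hce hce2
      exact ⟨_, hxy, by simp [h_add_left, h_smul_left, hc1a, hc2a], by simp [h_add_left, h_smul_left, hc1b, hc2b], hne⟩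
    · obtain ⟨c₁, hc1, hc1a, hc1b⟩ := perp_two hF hn haa hbb
      set β := h b a with hβ
      set r := b - β • a with hr
      have hβ0 : β ≠ 0 := fun e' => by rw [e', zero_mul] at hab; exact zero_ne_one hab
      have hra : h r a = 0 := by rw [hr, h_sub_left, h_smul_left, haa, mul_one, ← hβ, sub_self]
      have hrb : h r b = 0 := by rw [hr, h_sub_left, h_smul_left, hbb, ← h_swap hF b a, ← hβ, hab, sub_self]
      have hrr : h r r = 0 := by
        rw [show h r r = h r (b - β • a) from congrArg (h r) hr, h_sub_right hF, h_smul_right hF, hra, hrb,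
          mul_zero, sub_zero]
      have hrc : h r c₁ = 0 := by
        rw [hr, h_sub_left, h_smul_left, swap_zero hF hc1b, swap_zero hF hc1a, mul_zero, sub_zero]
      by_contra hcon
      push Not at hcon
      have hall : ∀ l : F, h (c₁ + l • r) e * σ (h (c₁ + l • r) e) = 1 := fun l => by
        refine hcon _ ?_ ?_ ?_
        · simp only [h_add_left, h_add_right hF, h_smul_left, h_smul_right hF, hc1, hrc, swap_zero hF hrc, hrr]; ring
        · rw [h_add_left, h_smul_left, hc1a, hra, mul_zero, add_zero]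
        · rw [h_add_left, h_smul_left, hc1b, hrb, mul_zero, add_zero]
      have hre : h r e = 0 := by
        by_contra hre
        have := hall (- h c₁ e / h r e)
        rw [h_add_left, h_smul_left, div_mul_cancel₀ _ hre, add_neg_cancel, zero_mul] at this
        exact zero_ne_one this
      apply hea
      rw [hr, h_sub_left, h_smul_left, hbe, zero_sub, neg_eq_zero, mul_eq_zero] at hre
      exact swap_zero hF (hre.resolve_left hβ0)
  -- move to that neighbour
  obtain ⟨y, hy, py⟩ := C.lift x₀ c hc hca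
  have hyz : C.Adj y z := C.four hn hq hy1 hy1z hy (py.symm.orth_left hcb)
  have hcy : h (C.vec y) (C.vec y) = 1 := C.unit y
  have hye : h (C.vec y) e * σ (h (C.vec y) e) ≠ 1 := by
    rw [nrm hc hcy hee hee py.symm Par.rfl]; exact hce
  set c' := C.vec y with hc'
  -- a neighbour of `y` and `w`
  obtain ⟨p, hp, hpc, hpe, hcase⟩ : ∃ p, h p p = 1 ∧ h p c' = 0 ∧ h p e = 0 ∧
      (h p a = 0 ∨ h a p * σ (h a p) + h a e * σ (h a e) ≠ 1) := by
    set K := 1 - h a e * σ (h a e) with hK
    have hye' : h e c' * σ (h e c') ≠ 1 := by rw [← h_swap hF c' e, frob_frob, mul_comm]; exact hye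
    obtain ⟨b₁, hb1, hb1c, hb1e⟩ := perp_two_nondeg hF (by omega) hcy hee hye'
    have hiff : ∀ b' : Fin n → F, h b' a * σ (h b' a) ≠ K → h a b' * σ (h a b') + h a e * σ (h a e) ≠ 1 := by
      intro b' hne e'
      apply hne
      rw [← h_swap hF b' a, frob_frob] at e'
      rw [hK]
      linear_combination e'
    by_cases e1 : h b₁ a * σ (h b₁ a) = K
    swap
    · exact ⟨b₁, hb1, hb1c, hb1e, Or.inr (hiff _ e1)⟩
    by_cases hK0 : K = 0
    · refine ⟨b₁, hb1, hb1c, hb1e, Or.inl ?_⟩
      rw [hK0] at e1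
      rcases mul_eq_zero.1 e1 with e' | e'
      · exact e'
      · rwa [map_eq_zero] at e'
    obtain ⟨k, hk0, hk, hkc⟩ := plane_orth hF hcy hee hye'
    obtain ⟨b₂, hb2, hb2c, hb2', hb21⟩ := perp_three_orth hF hn hcy hk hb1 (swap_zero hF hkc)
      (swap_zero hF hb1c) (by rw [h_smul_left, h_sub_left, h_smul_left, swap_zero hF hb1e, swap_zero hF hb1c]; ring)
    have hb2e : h b₂ e = 0 := by
      rw [h_smul_right hF, h_sub_right hF, h_smul_right hF, hb2c, mul_zero, sub_zero, mul_eq_zero] at hb2'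
      exact hb2'.resolve_left (by simpa using hk0)
    by_cases e2 : h b₂ a * σ (h b₂ a) = K
    swap
    · exact ⟨b₂, hb2, hb2c, hb2e, Or.inr (hiff _ e2)⟩
    obtain ⟨x, y, hxy, hne⟩ := pair_not_const hF (by omega) hb1 hb2 (swap_zero hF hb21) hK0 e1 e2
    exact ⟨_, hxy, by simp [h_add_left, h_smul_left, hb1c, hb2c], by simp [h_add_left, h_smul_left, hb1e, hb2e],
      Or.inr (hiff _ hne)⟩
  obtain ⟨z', hz', pz'⟩ := C.lift y p hp hpc
  have hz'w : C.Adj z' w := C.four hn hq hyz hzw hz' (pz'.symm.orth_left hpe)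
  rcases hcase with hpa | hne
  · exact ⟨z', C.tri x₀ y z' hy hz' (swap_zero hF (pz'.symm.orth_left hpa)), hz'w⟩
  obtain ⟨s, hs, hsa, hsp, hse⟩ := perp_three hF hn haa hp hee hpe hne
  obtain ⟨P, hP, pP⟩ := C.lift x₀ s hs hsa
  have hPz : C.Adj P z' := C.four hn hq hy hz' hP (pP.symm.orth_left (pz'.symm.orth_right hF hsp))
  exact ⟨P, hP, C.tri P z' w hPz hz'w (pP.symm.orth_left hse)⟩

/-- The covering is trivial on each component. -/
theorem inj (hn : 4 ≤ n) (hq : 4 ≤ q ∨ (q = 3 ∧ 5 ≤ n)) {x₀ x x' : X} (hx : Relation.ReflTransGen C.Adj x₀ x)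
    (hx' : Relation.ReflTransGen C.Adj x₀ x') (hp : Par (C.vec x) (C.vec x')) : x = x' := by
  have key : ∀ w, Relation.ReflTransGen C.Adj x₀ w → C.Near x₀ w := by
    intro w hw
    induction hw with
    | refl => exact C.near_self hn x₀
    | tail _ hzw ih => exact C.near_adj hn hq ih hzw
  exact C.near_inj hn hq (key x hx) (key x' hx') hp

end CoverData

end CfsgLib.Phan
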