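import Cfsg.Agent.Lib.Phan.Torus
import Cfsg.Agent.Lib.Phan.Chain

/-!
Recognition from a weak Phan system.
-/

set_option autoImplicit false
set_option linter.unusedSectionVars false

namespace CfsgLib.Phan

open Matrix CfsgLib.UnitaryTransvection CfsgLib.UnitarySimple CfsgLib.SUCover CfsgLib.SUShort

variable {F : Type*} [Field F] [Fintype F] {q : ℕ} (hF : Fintype.card F = q ^ 2) {G : Type*} [Group G]

/-- The automorphisms of the common block extend over the next window. -/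
def Extends : Prop :=
  ∀ α : Cfsg.SU 2 F q ≃* Cfsg.SU 2 F q, (∀ g, Diag2 g → Diag2 (α g)) →
    ∃ β : Cfsg.SU 3 F q ≃* Cfsg.SU 3 F q, (∀ x, β (e0 hF x) = e0 hF (α x)) ∧
      (β.toMonoidHom.comp (e1 hF)).range = (e1 hF).range

/-- A window of the system. -/
structure IsWindow (A B V : Subgroup G) (ψ : Cfsg.SU 3 F q →* G) : Prop where
  ker : ψ.ker ≤ Subgroup.center (Cfsg.SU 3 F q)
  left : (ψ.comp (e0 hF)).range = A
  right : (ψ.comp (e1 hF)).range = B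
  cover : V ≤ ψ.range
  le : ψ.range ≤ V

theorem emb_scalar {i : ℕ} (h : i + 2 ≤ 3) {x : Cfsg.SU 2 F q}
    (hx : emb hF 2 3 i h x ∈ Subgroup.center (Cfsg.SU 3 F q)) : x = 1 := by
  obtain ⟨c, hc⟩ := center_scalar hF le_rfl hx
  obtain ⟨j, hj⟩ : ∃ j : Fin 3, j ∉ wset 2 3 i := by
    refine ⟨⟨if i = 0 then 2 else 0, by split <;> omega⟩, ?_⟩
    rw [mem_wset]
    dsimp
    split <;> omega
  have := congrFun (emb_fix hF h x hj) j
  rw [hc, ev1, Matrix.mulVec_single_one] at this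
  simp at this
  apply emb_injective hF h
  rw [map_one]
  refine su_eq_of_mat ?_
  rw [hc, this, mat_one, map_one]

namespace IsWindow

variable {hF} {A B V : Subgroup G} {ψ : Cfsg.SU 3 F q →* G}

theorem inj0 (w : IsWindow hF A B V ψ) : Function.Injective (ψ.comp (e0 hF)) :=
  (injective_iff_map_eq_one _).2 fun _ hx => emb_scalar hF (show 0 + 2 ≤ 3 by omega) (w.ker hx)

theorem inj1 (w : IsWindow hF A B V ψ) : Function.Injective (ψ.comp (e1 hF)) :=
  (injective_iff_map_eq_one _).2 fun _ hx => emb_scalar hF (show 1 + 2 ≤ 3 by omega) (w.ker hx)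

end IsWindow

include hF in
theorem suBlock_range (i : ℕ) (h : i + 2 ≤ 3) :
    (Supp (wset 2 3 i) : Subgroup (Cfsg.SU 3 F q)) = (emb hF 2 3 i h).range := by
  refine le_antisymm (fun g hg => exists_emb hF h hg) ?_
  rintro _ ⟨x, rfl⟩
  exact emb_mem hF h x

include hF in
theorem exists_window {A B V : Subgroup G} (h : Cfsg.IsStandardUnitaryPair V A B F q) :
    ∃ ψ, IsWindow hF A B V ψ := by
  have b0 : Cfsg.suBlock 3 F q {0, 1} = (e0 hF).range := by
    rw [show ({0, 1} : Set (Fin 3)) = ↑({0, 1} : Finset (Fin 3)) by simp, suBlock_eq hF,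
      show ({0, 1} : Finset (Fin 3)) = wset 2 3 0 by decide]
    exact suBlock_range hF 0 _
  have b1 : Cfsg.suBlock 3 F q {1, 2} = (e1 hF).range := by
    rw [show ({1, 2} : Set (Fin 3)) = ↑({1, 2} : Finset (Fin 3)) by simp, suBlock_eq hF,
      show ({1, 2} : Finset (Fin 3)) = wset 2 3 1 by decide]
    exact suBlock_range hF 1 _
  rcases h with ⟨ψ, hA, hB⟩ | ⟨ψ, hA, hB⟩
  · refine ⟨V.subtype.comp ψ.toMonoidHom, ⟨fun x hx => ?_, ?_, ?_, fun v hv => ?_, by rintro _ ⟨x, rfl⟩; exact SetLike.coe_mem _⟩⟩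
    · rw [MonoidHom.mem_ker, MonoidHom.comp_apply] at hx
      have h1 : ψ x = 1 := Subtype.ext hx
      rw [← ψ.map_one] at h1
      rw [ψ.injective h1]
      exact one_mem _
    · rw [MonoidHom.range_comp, ← b0, hA]
    · rw [MonoidHom.range_comp, ← b1, hB]
    · obtain ⟨x, hx⟩ := ψ.surjective ⟨v, hv⟩
      exact ⟨x, congrArg Subtype.val hx⟩
  · refine ⟨V.subtype.comp (ψ.toMonoidHom.comp (QuotientGroup.mk' (Subgroup.center (Cfsg.SU 3 F q)))),
      ⟨fun x hx => ?_, ?_, ?_, fun v hv => ?_, by rintro _ ⟨x, rfl⟩; exact SetLike.coe_mem _⟩⟩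
    · rw [MonoidHom.mem_ker, MonoidHom.comp_apply] at hx
      have h1 : ψ (QuotientGroup.mk' (Subgroup.center (Cfsg.SU 3 F q)) x) = 1 := Subtype.ext hx
      rw [← ψ.map_one] at h1
      exact (QuotientGroup.eq_one_iff x).1 (ψ.injective h1)
    · rw [MonoidHom.range_comp, ← b0, hA]
    · rw [MonoidHom.range_comp, ← b1, hB]
    · obtain ⟨x, hx⟩ := ψ.surjective ⟨v, hv⟩
      obtain ⟨y, rfl⟩ := QuotientGroup.mk_surjective x
      exact ⟨y, congrArg Subtype.val hx⟩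

/-- Adjusting the next window to agree with the present one on the common block. -/
theorem IsWindow.adjust (hq : 2 ≤ q) (hE : Extends hF) {A B C V V' : Subgroup G} {ψ φ : Cfsg.SU 3 F q →* G}
    (wψ : IsWindow hF A B V ψ) (wφ : IsWindow hF B C V' φ) (hc : ∀ x ∈ A, ∀ y ∈ C, Commute x y) :
    ∃ φ', IsWindow hF B C V' φ' ∧ ∀ x, ψ (e1 hF x) = φ' (e0 hF x) := by
  let α : Cfsg.SU 2 F q ≃* Cfsg.SU 2 F q := (MonoidHom.ofInjective wψ.inj1).trans
    ((MulEquiv.subgroupCongr (wψ.right.trans wφ.left.symm)).trans (MonoidHom.ofInjective wφ.inj0).symm)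
  have hα : ∀ x, ψ (e1 hF x) = φ (e0 hF (α x)) := fun x => by
    have := MonoidHom.apply_ofInjective_symm wφ.inj0
      (MulEquiv.subgroupCongr (wψ.right.trans wφ.left.symm) (MonoidHom.ofInjective wψ.inj1 x))
    exact this.symm
  have hT : ∀ g, Diag2 g → Diag2 (α g) := fun g hg =>
    transition_diag hF hq ψ φ wφ.ker (fun x y => hc _ (wψ.left ▸ ⟨x, rfl⟩) _ (wφ.right ▸ ⟨y, rfl⟩)) α hα g hg
  obtain ⟨β, h0, h1⟩ := hE α hT
  refine ⟨φ.comp β.toMonoidHom, ⟨fun x hx => ?_, ?_, ?_, fun v hv => ?_, by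
    rintro _ ⟨x, rfl⟩; exact wφ.le ⟨β x, rfl⟩⟩, fun x => ?_⟩
  · have hx' : β x ∈ Subgroup.center (Cfsg.SU 3 F q) := wφ.ker hx
    rw [Subgroup.mem_center_iff] at hx' ⊢
    intro y
    apply β.injective
    rw [map_mul, map_mul, hx']
  · rw [← wφ.left]
    ext y
    constructor
    · rintro ⟨x, rfl⟩
      exact ⟨α x, by simp [h0]⟩
    · rintro ⟨x, rfl⟩
      exact ⟨α.symm x, by simp [h0]⟩
  · rw [MonoidHom.comp_assoc, MonoidHom.range_comp, h1, ← MonoidHom.range_comp, wφ.right]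
  · obtain ⟨x, rfl⟩ := wφ.cover hv
    exact ⟨β.symm x, by simp⟩
  · rw [MonoidHom.comp_apply, MulEquiv.coe_toMonoidHom, h0, hα]

include hF in
/-- Windows agreeing on the common blocks. -/
theorem exists_family (hq : 2 ≤ q) (hE : Extends hF) {n : ℕ} (hn : 2 ≤ n) (U : Fin n → Subgroup G)
    (V : Fin n → Fin n → Subgroup G) (h1 : ∀ i j : Fin n, (i : ℕ) + 2 ≤ j → ∀ x ∈ U i, ∀ y ∈ U j, x * y = y * x)
    (h2 : ∀ i j : Fin n, (i : ℕ) + 1 = j → Cfsg.IsStandardUnitaryPair (V i j) (U i) (U j) F q) :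
    ∃ f : ℕ → Cfsg.SU 3 F q →* G,
      (∀ i, ∀ h : i + 1 < n, IsWindow hF (U ⟨i, by omega⟩) (U ⟨i + 1, h⟩) (V ⟨i, by omega⟩ ⟨i + 1, h⟩) (f i)) ∧
        ∀ i, i + 2 < n → ∀ x, f i (e1 hF x) = f (i + 1) (e0 hF x) := by
  classical
  have hfam : ∀ k, k + 1 < n → ∃ f : ℕ → Cfsg.SU 3 F q →* G,
      (∀ i, ∀ h : i + 1 < n, i ≤ k →
        IsWindow hF (U ⟨i, by omega⟩) (U ⟨i + 1, h⟩) (V ⟨i, by omega⟩ ⟨i + 1, h⟩) (f i)) ∧
        ∀ i, i + 1 ≤ k → ∀ x, f i (e1 hF x) = f (i + 1) (e0 hF x) := by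
    intro k hk
    induction k with
    | zero =>
      obtain ⟨ψ, hψ⟩ := exists_window hF (h2 ⟨0, by omega⟩ ⟨1, hk⟩ rfl)
      exact ⟨fun _ => ψ, fun i _ hi => by obtain rfl : i = 0 := by omega
                                          exact hψ, fun i hi => by omega⟩
    | succ k ih =>
      obtain ⟨f, hf, hfc⟩ := ih (by omega)
      obtain ⟨φ, hφ⟩ := exists_window hF (h2 ⟨k + 1, by omega⟩ ⟨k + 1 + 1, hk⟩ rfl)
      obtain ⟨φ', hφ', hc⟩ := (hf k (by omega) le_rfl).adjust hF hq hE hφ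
        (fun x hx y hy => h1 ⟨k, by omega⟩ ⟨k + 1 + 1, hk⟩ (by show k + 2 ≤ k + 1 + 1; omega) x hx y hy)
      refine ⟨Function.update f (k + 1) φ', fun i h hi => ?_, fun i hi x => ?_⟩
      · rcases eq_or_ne i (k + 1) with rfl | hne
        · rw [Function.update_self]; exact hφ'
        · rw [Function.update_of_ne hne]; exact hf i h (by omega)
      · rw [Function.update_of_ne (show i ≠ k + 1 by omega)]
        rcases eq_or_ne i k with rfl | hne
        · rw [Function.update_self]; exact hc x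
        · rw [Function.update_of_ne (show i + 1 ≠ k + 1 by omega)]; exact hfc i (by omega) x
  obtain ⟨f, hf, hfc⟩ := hfam (n - 2) (by omega)
  exact ⟨f, fun i h => hf i h (by omega), fun i hi => hfc i (by omega)⟩

include hF in
/-- Recognition from a weak Phan system. -/
theorem weak_phan_from {M : ℕ} (hM : 3 ≤ M) (hq : 4 ≤ q ∨ (q = 3 ∧ 4 ≤ M)) (hE : Extends hF) {n : ℕ}
    (hMn : M ≤ n + 1) (U : Fin n → Subgroup G) (V : Fin n → Fin n → Subgroup G)
    (hbase : ∀ f : ℕ → Cfsg.SU 3 F q →* G,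
      (∀ i, ∀ h : i + 1 < n, IsWindow hF (U ⟨i, by omega⟩) (U ⟨i + 1, h⟩) (V ⟨i, by omega⟩ ⟨i + 1, h⟩) (f i)) →
      (∀ i, i + 2 < n → ∀ x, f i (e1 hF x) = f (i + 1) (e0 hF x)) →
      ∀ i, i + M ≤ n + 1 → ∃ Ψ : Cfsg.SU M F q →* G,
        ∀ j, ∀ h : j + 3 ≤ M, ∀ w, Ψ (emb hF 3 M j h w) = f (i + j) w) (h1 : ∀ i j : Fin n, (i : ℕ) + 2 ≤ j → ∀ x ∈ U i, ∀ y ∈ U j, x * y = y * x)
    (h2 : ∀ i j : Fin n, (i : ℕ) + 1 = j → Cfsg.IsStandardUnitaryPair (V i j) (U i) (U j) F q)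
    (hgen : (⨆ i, U i) ⊔ (⨆ (i : Fin n) (j : Fin n) (_ : (i : ℕ) + 1 = j), V i j) = ⊤) :
    ∃ f : Cfsg.SU (n + 1) F q →* G, Function.Surjective f := by
  classical
  have hn : 2 ≤ n := by omega
  have hq2 : 2 ≤ q := by rcases hq with h | ⟨h, -⟩ <;> omega
  let U' : ℕ → Subgroup G := fun i => if h : i < n then U ⟨i, h⟩ else ⊥
  let V' : ℕ → Subgroup G := fun i => if h : i + 1 < n then V ⟨i, by omega⟩ ⟨i + 1, h⟩ else ⊥
  have hU' : ∀ (i : ℕ) (h : i < n), U' i = U ⟨i, h⟩ := fun i h => dif_pos h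
  have hV' : ∀ (i : ℕ) (h : i + 1 < n), V' i = V ⟨i, by omega⟩ ⟨i + 1, h⟩ := fun i h => dif_pos h
  have hcomm : ∀ i j, i + 2 ≤ j → j < n → ∀ x ∈ U' i, ∀ y ∈ U' j, Commute x y := by
    intro i j hij hj x hx y hy
    rw [hU' i (by omega)] at hx
    rw [hU' j hj] at hy
    exact h1 ⟨i, by omega⟩ ⟨j, hj⟩ hij x hx y hy
  obtain ⟨f, hf', hfc⟩ := exists_family hF hq2 hE hn U V h1 h2
  have hf : ∀ i, i + 2 ≤ n → IsWindow hF (U' i) (U' (i + 1)) (V' i) (f i) := fun i hi => by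
    rw [hU' i (by omega), hU' (i + 1) (by omega), hV' i (by omega)]
    exact hf' i (by omega)
  obtain ⟨Ψ, hΨ⟩ := exists_chain_from hF hM hq hMn f U'
    (hbase f hf' hfc)
    (fun i hi x => hfc i (by omega) x)
    (fun i hi x => (hf i (by omega)).left ▸ ⟨x, rfl⟩) (fun i hi x => (hf i (by omega)).right ▸ ⟨x, rfl⟩)
    (fun i j hij hj => hcomm i j hij (by omega))
  have hwin : ∀ i, i + 1 < n → (f i).range ≤ Ψ.range := by
    rintro i hi _ ⟨w, rfl⟩
    exact ⟨_, hΨ i (by omega) w⟩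
  refine ⟨Ψ, MonoidHom.range_eq_top.1 (top_le_iff.1 (hgen ▸ sup_le (iSup_le fun i => ?_)
    (iSup_le fun i => iSup_le fun j => iSup_le fun hij => ?_)))⟩
  · by_cases hi : (i : ℕ) + 1 < n
    · have := (hf i (by omega)).left
      rw [hU' i i.isLt] at this
      exact fun x hx => hwin i hi (by
        obtain ⟨y, hy⟩ := this.symm.le hx
        exact ⟨_, hy⟩)
    · have hi' : (i : ℕ) - 1 + 1 = i := by omega
      have := (hf ((i : ℕ) - 1) (by omega)).right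
      rw [hi', hU' i i.isLt] at this
      exact fun x hx => hwin ((i : ℕ) - 1) (by omega) (by
        obtain ⟨y, hy⟩ := this.symm.le hx
        exact ⟨_, hy⟩)
  · have hj : (i : ℕ) + 1 < n := by omega
    have := (hf i (by omega)).cover
    rw [hV' i hj, show (⟨(i : ℕ) + 1, hj⟩ : Fin n) = j from Fin.ext hij] at this
    exact this.trans (hwin i hj)

include hF in
/-- Recognition from a weak Phan system. -/
theorem weak_phan (hq : 4 ≤ q) (hE : Extends hF) {n : ℕ} (hn : 2 ≤ n) (U : Fin n → Subgroup G)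
    (V : Fin n → Fin n → Subgroup G) (h1 : ∀ i j : Fin n, (i : ℕ) + 2 ≤ j → ∀ x ∈ U i, ∀ y ∈ U j, x * y = y * x)
    (h2 : ∀ i j : Fin n, (i : ℕ) + 1 = j → Cfsg.IsStandardUnitaryPair (V i j) (U i) (U j) F q)
    (hgen : (⨆ i, U i) ⊔ (⨆ (i : Fin n) (j : Fin n) (_ : (i : ℕ) + 1 = j), V i j) = ⊤) :
    ∃ f : Cfsg.SU (n + 1) F q →* G, Function.Surjective f :=
  weak_phan_from hF (M := 3) le_rfl (Or.inl hq) hE (by omega) U V (fun f _ _ i _ => ⟨f i, fun j h w => by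
    obtain rfl : j = 0 := by omega
    rw [emb_self, Nat.add_zero]⟩) h1 h2 hgen

end CfsgLib.Phan
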