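import Cfsg.Agent.Lib.Phan.Twist
import Cfsg.Agent.Lib.Phan.Weak

/-!
The automorphisms of the common block extend over the next window.
-/

set_option autoImplicit false
set_option linter.unusedSectionVars false

namespace CfsgLib.Phan

open Matrix CfsgLib.UnitaryTransvection CfsgLib.UnitarySimple CfsgLib.SUCover CfsgLib.SUShort

variable {F : Type*} [Field F] [Fintype F] {q : ℕ} (hF : Fintype.card F = q ^ 2)

include hF in
theorem extends_of_two_le (hq : 2 ≤ q) : Extends hF := by
  intro α hα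
  obtain ⟨ζ, τ, hζ, hform⟩ := su2_aut_torus hF (by omega) α hα
  have hζ0 : ζ ≠ 0 := fun e => by simp [e] at hζ
  obtain ⟨β, hβ⟩ := exists_twist hF ![1, ζ, ζ] (fun i => by fin_cases i <;> simp [hζ]) τ
  obtain ⟨γ, hγ⟩ := exists_twist hF ![ζ, ζ] (fun i => by fin_cases i <;> simp [hζ]) τ
  refine ⟨β, fun x => su_eq_of_mat ?_, ?_⟩
  · ext i j
    rw [hβ, mat_e0, mat_e0, hform, hform, hform, hform]
    fin_cases i <;> fin_cases j <;> simp [hζ0]
  · have h1 : ∀ x, β (e1 hF x) = e1 hF (γ x) := fun x => su_eq_of_mat (by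
      ext i j
      rw [hβ, mat_e1, mat_e1, hγ, hγ, hγ, hγ]
      fin_cases i <;> fin_cases j <;> simp [hζ0])
    ext y
    constructor
    · rintro ⟨x, rfl⟩
      exact ⟨γ x, (h1 x).symm⟩
    · rintro ⟨x, rfl⟩
      exact ⟨γ.symm x, by simp [h1]⟩

include hF in
theorem extends_of_four_le (hq : 4 ≤ q) : Extends hF := extends_of_two_le hF (by omega)

end CfsgLib.Phan
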