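import Cfsg.Agent.Lib.Phan.Twist
import Cfsg.Agent.Lib.Phan.Chain
import Mathlib.LinearAlgebra.Trace

/-!
Two embeddings of `SU₃(3)` in `SU₄(3)` agreeing on the common block, with commuting outer blocks, are the
two standard windows up to an automorphism (the base case of Phan's theorem for `q = 3`).
-/

set_option autoImplicit false
set_option linter.unusedSectionVars false

namespace CfsgLib.Phan

open Matrix CfsgLib.UnitaryTransvection CfsgLib.UnitarySimple CfsgLib.SUCover CfsgLib.SUShort

variable {F : Type*} [Field F] [Fintype F] {q : ℕ} (hF : Fintype.card F = q ^ 2)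

/-! ### Diagonal matrices -/

theorem entry_zero {n : ℕ} {g z z' : Cfsg.SU n F q} {s s' : Fin n → F} (hz : mat z = diagonal s)
    (hz' : mat z' = diagonal s') (e : g * z = z' * g) {i j : Fin n} (h : s j ≠ s' i) : mat g i j = 0 := by
  have := congrFun (congrFun (congrArg mat e) i) j
  rw [mat_mul, mat_mul, hz, hz', Matrix.mul_diagonal, Matrix.diagonal_mul] at this
  exact (mul_eq_zero.1 (show mat g i j * (s j - s' i) = 0 by linear_combination this)).resolve_right
    (sub_ne_zero.2 h)

theorem mulVec_ev1_eq {n : ℕ} (g : Cfsg.SU n F q) (j : Fin n) : mat g *ᵥ ev1 j = fun i => mat g i j := by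
  rw [ev1, Matrix.mulVec_single_one]
  rfl

theorem col_single {n : ℕ} {g : Cfsg.SU n F q} {i j : Fin n} (h : ∀ k, k ≠ i → mat g k j = 0) :
    mat g *ᵥ ev1 j = mat g i j • ev1 i := by
  rw [mulVec_ev1_eq]
  funext k
  by_cases hk : k = i
  · subst hk; simp [ev1]
  · simp [ev1, hk, h k hk]

theorem col_ne {n : ℕ} {g : Cfsg.SU n F q} {i j : Fin n} (h : ∀ k, k ≠ i → mat g k j = 0) : mat g i j ≠ 0 := by
  intro e
  refine mat_ne_zero g (e := ev1 j) (fun e' => by simpa [ev1] using congrFun e' j) ?_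
  rw [col_single h, e, zero_smul]

include hF in
/-- Diagonal elements have entries of norm one. -/
theorem single_norm {n : ℕ} {g : Cfsg.SU n F q} {j : Fin n} (h : ∀ k, k ≠ j → mat g k j = 0) :
    mat g j j * frob hF (mat g j j) = 1 := by
  have e := su_h g (ev1 j) (ev1 j)
  rw [col_single h, h_smul_left, h_smul_right hF, h_ev1_self hF, mul_one] at e
  exact e

/-! ### The field with nine elements -/

section Nine

variable (hq : q = 3)
include hq hF

theorem char_three : CharP F 3 := by
  obtain ⟨p, hp⟩ := CharP.exists F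
  obtain ⟨hpp, j, hj0, hj⟩ := q_pow hF (p := p)
  have h3 : p ∣ 3 := hq ▸ hj ▸ dvd_pow_self p hj0.ne'
  obtain rfl := ((Nat.dvd_prime Nat.prime_three).1 h3).resolve_left hpp.ne_one
  exact hp

theorem three_eq_zero : (3 : F) = 0 := by
  haveI := char_three hF hq
  exact_mod_cast CharP.cast_eq_zero F 3

theorem two_ne : (2 : F) ≠ 0 := fun h => one_ne_zero (show (1 : F) = 0 by linear_combination three_eq_zero hF hq - h)

theorem exists_sqrt_neg : ∃ m : F, m * m = -1 ∧ m * frob hF m = 1 := by
  obtain ⟨ζ, hζ⟩ := UnitaryBasic.exists_zeta hF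
  have h4 : (ζ : F) ^ 4 = 1 := by
    rw [← Units.val_pow_eq_pow_val, show (4 : ℕ) = orderOf ζ by rw [hζ, hq], pow_orderOf_eq_one, Units.val_one]
  refine ⟨ζ, ?_, by rw [frob_apply, hq, ← pow_succ', h4]⟩
  have h2 : ((ζ : F) * ζ - 1) * ((ζ : F) * ζ + 1) = 0 := by linear_combination h4
  rcases mul_eq_zero.1 h2 with h | h
  · exfalso
    have h2' : ζ ^ 2 = 1 := Units.ext (by
      rw [Units.val_pow_eq_pow_val, Units.val_one, sq, sub_eq_zero.1 h])
    have := Nat.le_of_dvd two_pos (orderOf_dvd_of_pow_eq_one h2')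
    omega
  · linear_combination h

/-- Two field automorphisms agreeing on a square root of `-1` are equal. -/
theorem auto_eq {τ τ' : F ≃+* F} {m : F} (hm : m * m = -1) (h : τ m = τ' m) : τ = τ' := by
  classical
  let S : Subfield F := RingHom.eqLocusField τ.toRingHom τ'.toRingHom
  have hmS : m ∈ S := h
  haveI : Fintype S := Fintype.ofFinite S
  have h4 : 4 ≤ Fintype.card S := by
    rw [← Nat.card_eq_fintype_card]
    let f : Fin 4 → S := ![0, 1, -1, ⟨m, hmS⟩]
    have hf : Function.Injective f := by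
      have h2 := two_ne hF hq
      have h01 : (1 : F) ≠ -1 := fun e => h2 (by linear_combination e)
      have m0 : m ≠ 0 := fun e => by simp [e] at hm
      have m1 : m ≠ 1 := fun e => h01 (by rw [← hm, e, mul_one])
      have m2 : m ≠ -1 := fun e => h01 (by rw [← hm, e]; ring)
      intro a b e
      have e' := congrArg Subtype.val e
      fin_cases a <;> fin_cases b <;>
        first
        | rfl
        | (exfalso; simp [f, h01, h01.symm, m0, m0.symm, m1, m1.symm, m2, m2.symm] at e')
    simpa using Nat.card_le_card_of_injective f hf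
  have hr := Module.card_eq_pow_finrank (K := S) (V := F)
  rw [hF, hq] at hr
  have hpos : 0 < Module.finrank S F := Module.finrank_pos
  have hcard : Fintype.card S = 9 := by
    rcases Nat.lt_or_ge (Module.finrank S F) 2 with h1 | h1
    · rw [show Module.finrank S F = 1 by omega, pow_one] at hr
      simpa using hr.symm
    · have := Nat.pow_le_pow_right (show 0 < Fintype.card S by omega) h1
      have h16 : 4 ^ 2 ≤ Fintype.card S ^ 2 := Nat.pow_le_pow_left h4 2
      rw [← hr] at this
      omega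
  refine RingEquiv.ext fun x => ?_
  have hbij := (Fintype.bijective_iff_injective_and_card (Subtype.val : S → F)).2
    ⟨Subtype.val_injective, by rw [hcard, hF, hq]; norm_num⟩
  obtain ⟨y, rfl⟩ := hbij.2 x
  exact y.2

/-- A fixed line of the image of `SU 2` is fixed pointwise. -/
theorem fix_col {n : ℕ} (f : Cfsg.SU 2 F q →* Cfsg.SU n F q) (j : Fin n)
    (hj : ∀ x, ∀ k, k ≠ j → mat (f x) k j = 0) (x : Cfsg.SU 2 F q) : mat (f x) *ᵥ ev1 j = ev1 j := by
  haveI := char_three hF hq
  let χ : Cfsg.SU 2 F q →* F :=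
    { toFun := fun x => mat (f x) j j
      map_one' := by simp [mat_one]
      map_mul' := fun x y => by
        show mat (f (x * y)) j j = mat (f x) j j * mat (f y) j j
        have e : mat (f (x * y)) *ᵥ ev1 j = (mat (f x) j j * mat (f y) j j) • ev1 j := by
          rw [map_mul, mat_mul, ← mulVec_mulVec, col_single (hj y), mulVec_smul, col_single (hj x), smul_smul,
            mul_comm]
        have := congrFun e j
        rw [mulVec_ev1_eq] at this
        simpa [ev1] using this }
  have h4 : ∀ x, χ x ^ 4 = 1 := fun x => by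
    have := single_norm hF (hj x)
    rw [frob_apply, ← pow_succ', show q + 1 = 4 by omega] at this
    exact this
  have hker : (⊤ : Subgroup (Cfsg.SU 2 F q)) ≤ χ.ker := by
    refine (pgen_two hF (p := 3)).trans ((Subgroup.closure_le _).2 ?_)
    rintro y ⟨-, k, hk⟩
    have h3 : χ y ^ (3 ^ k) = 1 := by rw [← map_pow, hk, map_one]
    have hg := pow_gcd_eq_one.2 ⟨h4 y, h3⟩
    rwa [show Nat.gcd 4 (3 ^ k) = 1 from Nat.Coprime.pow_right k (by norm_num : Nat.Coprime 4 3), pow_one,
      ← MonoidHom.mem_ker] at hg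
  have h1 : mat (f x) j j = 1 := MonoidHom.mem_ker.1 (hker (Subgroup.mem_top x))
  rw [col_single (hj x), h1, one_smul]

/-- Involutions of `SU 4` other than `-1` have trace zero. -/
theorem inv_trace {z : Cfsg.SU 4 F q} (hz : z * z = 1) (h1 : z ≠ 1) (hn : mat z ≠ -1) : (mat z).trace = 0 := by
  have h2 := two_ne hF hq
  set f : (Fin 4 → F) →ₗ[F] (Fin 4 → F) := Matrix.toLin' (mat z) with hf
  have hff : ∀ v, f (f v) = v := fun v => by
    rw [hf, Matrix.toLin'_apply, Matrix.toLin'_apply, mulVec_mulVec, ← mat_mul, hz, mat_one, one_mulVec]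
  set U := LinearMap.ker (f - LinearMap.id) with hU
  set W := LinearMap.ker (f + LinearMap.id) with hW
  have memU : ∀ v, v ∈ U ↔ f v = v := fun v => by simp [hU, sub_eq_zero]
  have memW : ∀ v, v ∈ W ↔ f v = -v := fun v => by simp [hW, eq_neg_iff_add_eq_zero]
  have hc : IsCompl U W := by
    refine IsCompl.of_eq ((Submodule.eq_bot_iff _).2 fun v hv => ?_) (Submodule.eq_top_iff'.2 fun v => ?_)
    · obtain ⟨h3, h4⟩ := Submodule.mem_inf.1 hv
      rw [memU] at h3
      rw [memW, h3] at h4
      have : (2 : F) • v = 0 := by rw [two_smul]; exact eq_neg_iff_add_eq_zero.1 h4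
      exact (smul_eq_zero.1 this).resolve_left h2
    · refine Submodule.mem_sup.2 ⟨(2 : F)⁻¹ • (v + f v), ?_, (2 : F)⁻¹ • (v - f v), ?_, ?_⟩
      · rw [memU, map_smul, map_add, hff, add_comm]
      · rw [memW, map_smul, map_sub, hff, ← smul_neg, neg_sub]
      · rw [← smul_add, add_add_sub_cancel, ← two_smul F v, smul_smul, inv_mul_cancel₀ h2, one_smul]
  set e := Submodule.prodEquivOfIsCompl U W hc
  have hfe : f = e.conj (LinearMap.prodMap LinearMap.id (-LinearMap.id)) := by
    refine LinearMap.ext fun v => ?_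
    obtain ⟨⟨u, w⟩, rfl⟩ := e.surjective v
    rw [LinearEquiv.conj_apply]
    simp only [LinearMap.comp_apply, LinearEquiv.coe_coe, LinearEquiv.symm_apply_apply, LinearMap.prodMap_apply,
      LinearMap.id_apply, LinearMap.neg_apply]
    simp only [e, Submodule.coe_prodEquivOfIsCompl', map_add, Submodule.coe_neg]
    rw [(memU _).1 u.2, (memW _).1 w.2]
  have hdim := Submodule.finrank_add_eq_of_isCompl hc
  rw [Module.finrank_fin_fun] at hdim
  have hdet : LinearMap.det f = 1 := by rw [hf, LinearMap.det_toLin']; exact z.1.2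
  rw [hfe, LinearEquiv.conj_apply, LinearMap.comp_assoc, LinearMap.det_conj, LinearMap.det_prodMap, LinearMap.det_id,
    one_mul, ← neg_one_smul F (LinearMap.id : W →ₗ[F] W), LinearMap.det_smul, LinearMap.det_id, mul_one] at hdet
  have htr : LinearMap.trace F _ f = (mat z).trace := by rw [hf, Matrix.trace_toLin'_eq]
  rw [hfe, LinearMap.trace_conj', LinearMap.trace_prodMap', ← neg_one_smul F (LinearMap.id : W →ₗ[F] W),
    LinearMap.map_smul, LinearMap.trace_id, LinearMap.trace_id, neg_one_smul] at htr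
  rw [← htr]
  have hU0 : Module.finrank F U ≠ 4 := fun e4 => h1 (su_ext fun v => by
    have : U = ⊤ := Submodule.eq_top_of_finrank_eq (by rw [e4, Module.finrank_fin_fun])
    have hv : f v = v := (memU v).1 (this ▸ Submodule.mem_top)
    rw [hf, Matrix.toLin'_apply] at hv
    rw [hv, mat_one, one_mulVec])
  have hW0 : Module.finrank F W ≠ 4 := fun e4 => hn (by
    have : W = ⊤ := Submodule.eq_top_of_finrank_eq (by rw [e4, Module.finrank_fin_fun])
    ext i j
    have hv : f (Pi.single j 1) = -Pi.single j 1 := (memW _).1 (this ▸ Submodule.mem_top)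
    rw [hf, Matrix.toLin'_apply, mulVec_single_one] at hv
    have := congrFun hv i
    simp only [Matrix.col_apply, Pi.neg_apply] at this
    rw [this, Matrix.neg_apply]
    simp [Matrix.one_apply, Pi.single_apply])
  rcases (show Module.finrank F U = 1 ∨ Module.finrank F U = 2 ∨ Module.finrank F U = 3 by omega) with hu | hu | hu <;>
    rw [show Module.finrank F W = 4 - Module.finrank F U by omega, hu] at hdet ⊢
  · exact absurd (show (2 : F) = 0 by linear_combination -hdet) h2
  · simp
  · exact absurd (show (2 : F) = 0 by linear_combination -hdet) h2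

end Nine

/-- The signs of the first involution. -/
def sgnI : Fin 4 → F := ![-1, -1, 1, 1]

/-- The signs of the second involution. -/
def sgnJ : Fin 4 → F := ![1, -1, -1, 1]

include hF in
/-- A common orthonormal eigenframe of the two involutions. -/
theorem exists_frame (hq : q = 3) {Z W : Cfsg.SU 4 F q} (hZ : Z * Z = 1) (hW : W * W = 1) (hZW : Commute Z W)
    (tZ : (mat Z).trace = 0) (tW : (mat W).trace = 0) (tP : (mat (Z * W)).trace = 0) :
    ∃ g : Cfsg.SU 4 F q, mat (g⁻¹ * Z * g) = diagonal (sgnI : Fin 4 → F) ∧ mat (g⁻¹ * W * g) = diagonal (sgnJ : Fin 4 → F) := by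
  classical
  have h2 := two_ne hF hq
  have h3 := three_eq_zero hF hq
  have h11 : (1 : F) ≠ -1 := fun e => h2 (by linear_combination e)
  have ss : ∀ k, (sgnI k : F) * sgnI k = 1 := fun k => by fin_cases k <;> simp [sgnI]
  have uu : ∀ k, (sgnJ k : F) * sgnJ k = 1 := fun k => by fin_cases k <;> simp [sgnJ]
  have sep : ∀ k l, k ≠ l → (sgnI k : F) ≠ sgnI l ∨ (sgnJ k : F) ≠ sgnJ l := fun k l hkl => by
    fin_cases k <;> fin_cases l <;> simp [sgnI, sgnJ, h11, h11.symm] at hkl ⊢
  have eZ : mat Z * mat Z = 1 := by rw [← mat_mul, hZ, mat_one]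
  have eW : mat W * mat W = 1 := by rw [← mat_mul, hW, mat_one]
  have eC : mat W * mat Z = mat Z * mat W := by rw [← mat_mul, ← mat_mul, hZW.eq]
  set P : Fin 4 → Matrix (Fin 4) (Fin 4) F := fun k =>
    (1 + (sgnI k : F) • mat Z) * (1 + (sgnJ k : F) • mat W) with hP
  have hvec : ∀ k, ∃ v : Fin 4 → F, v ≠ 0 ∧ mat Z *ᵥ v = (sgnI k : F) • v ∧ mat W *ᵥ v = (sgnJ k : F) • v := by
    intro k
    have hPt : (P k).trace = 1 := by
      simp only [hP, Matrix.mul_add, Matrix.add_mul, Matrix.one_mul, Matrix.mul_one, Matrix.smul_mul, Matrix.mul_smul,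
        trace_add, trace_smul, trace_one, Fintype.card_fin, ← mat_mul, tZ, tW, tP, smul_zero, add_zero]
      push_cast
      linear_combination h3
    obtain ⟨w, hw⟩ : ∃ w, P k *ᵥ w ≠ 0 := by
      by_contra hcon
      push Not at hcon
      have : P k = 0 := by
        ext i j
        simpa [mulVec_single_one] using congrFun (hcon (Pi.single j 1)) i
      rw [this, trace_zero] at hPt
      exact zero_ne_one hPt
    refine ⟨_, hw, ?_, ?_⟩
    · rw [mulVec_mulVec, ← smul_mulVec]
      refine congrArg (· *ᵥ w) ?_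
      have e0 : mat Z * (1 + (sgnI k : F) • mat Z) = (sgnI k : F) • (1 + (sgnI k : F) • mat Z) := by
        rw [Matrix.mul_add, Matrix.mul_one, Matrix.mul_smul, eZ, smul_add, smul_smul, ss, one_smul, add_comm]
      simp only [hP]
      rw [← Matrix.mul_assoc, e0, Matrix.smul_mul]
    · rw [mulVec_mulVec, ← smul_mulVec]
      refine congrArg (· *ᵥ w) ?_
      have e1 : mat W * (1 + (sgnI k : F) • mat Z) = (1 + (sgnI k : F) • mat Z) * mat W := by
        rw [Matrix.mul_add, Matrix.add_mul, Matrix.mul_one, Matrix.one_mul, Matrix.mul_smul, Matrix.smul_mul, eC]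
      simp only [hP]
      rw [← Matrix.mul_assoc, e1, Matrix.mul_assoc, ← Matrix.mul_smul]
      refine congrArg _ ?_
      rw [Matrix.mul_add, Matrix.mul_one, Matrix.mul_smul, eW, smul_add, smul_smul, uu, one_smul, add_comm]
  choose v hv0 hvZ hvW using hvec
  have orth : ∀ k l, k ≠ l → Cfsg.hermForm 4 F q (v k) (v l) = 0 := by
    intro k l hkl
    have hs : ∀ l, frob hF (sgnI l : F) = sgnI l := fun l => by fin_cases l <;> simp [sgnI]
    have hu : ∀ l, frob hF (sgnJ l : F) = sgnJ l := fun l => by fin_cases l <;> simp [sgnJ]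
    rcases sep k l hkl with hne | hne
    · have e := su_h Z (v k) (v l)
      rw [hvZ, hvZ, h_smul_left, h_smul_right hF, hs] at e
      exact (mul_eq_zero.1 (show (sgnI k - sgnI l) * Cfsg.hermForm 4 F q (v k) (v l) = 0 by
        linear_combination sgnI l * e - (sgnI k * Cfsg.hermForm 4 F q (v k) (v l)) * ss l)).resolve_left
          (sub_ne_zero.2 hne)
    · have e := su_h W (v k) (v l)
      rw [hvW, hvW, h_smul_left, h_smul_right hF, hu] at e
      exact (mul_eq_zero.1 (show (sgnJ k - sgnJ l) * Cfsg.hermForm 4 F q (v k) (v l) = 0 by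
        linear_combination sgnJ l * e - (sgnJ k * Cfsg.hermForm 4 F q (v k) (v l)) * uu l)).resolve_left
          (sub_ne_zero.2 hne)
  have aniso : ∀ k, Cfsg.hermForm 4 F q (v k) (v k) ≠ 0 := by
    intro k e
    have li : LinearIndependent F v := by
      rw [Fintype.linearIndependent_iff]
      intro c hc l
      have hP' : ∀ m, P l *ᵥ v m = ((1 + (sgnI l : F) * sgnI m) * (1 + (sgnJ l : F) * sgnJ m)) • v m := fun m => by
        simp only [hP, ← mulVec_mulVec, add_mulVec, one_mulVec, smul_mulVec, hvW, mulVec_add, mulVec_smul, hvZ,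
          smul_smul, smul_add]
        module
      have := congrArg (P l *ᵥ ·) hc
      simp only [mulVec_sum, mulVec_smul, mulVec_zero, hP'] at this
      rw [Finset.sum_eq_single l (fun m _ hm => by
        rcases sep l m hm.symm with hne | hne
        · have : (1 + sgnI l * sgnI m : F) = 0 := by
            fin_cases l <;> fin_cases m <;> simp [sgnI] at hne ⊢
          simp [this]
        · have : (1 + sgnJ l * sgnJ m : F) = 0 := by
            fin_cases l <;> fin_cases m <;> simp [sgnJ] at hne ⊢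
          simp [this]) (by simp), ss, uu, smul_smul, smul_eq_zero] at this
      rcases mul_eq_zero.1 (this.resolve_right (hv0 l)) with h | h
      · exact h
      · exact absurd (show (1 : F) = 0 by linear_combination h - h3) one_ne_zero
    have hspan := li.span_eq_top_of_card_eq_finrank (by rw [Fintype.card_fin, Module.finrank_fin_fun])
    refine hv0 k (h_nondeg hF fun y => ?_)
    have hy : y ∈ Submodule.span F (Set.range v) := hspan ▸ Submodule.mem_top
    induction hy using Submodule.span_induction with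
    | mem x hx =>
      obtain ⟨l, rfl⟩ := hx
      by_cases hl : k = l
      · subst hl; exact e
      · exact orth k l hl
    | zero => exact h_zero_right hF _
    | add x y _ _ h1 h2 => rw [h_add_right hF, h1, h2, add_zero]
    | smul c x _ h1 => rw [h_smul_right hF, h1, mul_zero]
  choose c hc0 hc using fun k => exists_unit_smul hF (aniso k)
  set M : Matrix (Fin 4) (Fin 4) F := Matrix.of fun i k => c k * v k i with hM
  have hUM : UMat hF M := by
    unfold UMat
    ext k l
    rw [Matrix.mul_apply, Matrix.one_apply]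
    have e : ∑ i, Mᵀ k i * (M.map (frob hF)) i l = Cfsg.hermForm 4 F q (c k • v k) (c l • v l) := by
      simp only [hM, Cfsg.hermForm, Matrix.transpose_apply, Matrix.map_apply, Matrix.of_apply, Pi.smul_apply,
        smul_eq_mul, frob_apply]
    rw [e]
    by_cases hkl : k = l
    · subst hkl; rw [if_pos rfl, hc]
    · rw [if_neg hkl, h_smul_left, h_smul_right hF, orth k l hkl, mul_zero, mul_zero]
  have hd : M.det * frob hF M.det = 1 := by
    have := congrArg Matrix.det hUM
    rwa [Matrix.det_mul, Matrix.det_transpose, Matrix.det_one, ← RingHom.mapMatrix_apply, ← RingHom.map_det] at this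
  have hd0 : M.det ≠ 0 := fun e => by simp [e] at hd
  set D : Matrix (Fin 4) (Fin 4) F := diagonal ![M.det⁻¹, 1, 1, 1] with hD
  have hDU : Dᵀ * D.map (frob hF) = 1 := by
    rw [hD, Matrix.diagonal_transpose, Matrix.diagonal_map (map_zero _), Matrix.diagonal_mul_diagonal,
      ← Matrix.diagonal_one]
    refine congrArg Matrix.diagonal (funext fun k => ?_)
    fin_cases k <;> simp [map_inv₀, ← mul_inv, hd]
  have hU' : UMat hF (M * D) := by
    unfold UMat at hUM ⊢
    rw [Matrix.transpose_mul, Matrix.map_mul, Matrix.mul_assoc, ← Matrix.mul_assoc Mᵀ, hUM, Matrix.one_mul, hDU]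
  have hdet' : (M * D).det = 1 := by
    rw [Matrix.det_mul, hD, Matrix.det_diagonal, Fin.prod_univ_four]
    simp [hd0]
  refine ⟨toSU hF (M * D) hU' hdet', ?_, ?_⟩
  all_goals
    rw [mat_mul, mat_mul, mat_toSU, Matrix.mul_assoc]
  · have hcol : mat Z * M = M * diagonal sgnI := by
      ext i k
      have := congrFun (hvZ k) i
      simp only [Matrix.mulVec, dotProduct, Pi.smul_apply, smul_eq_mul] at this
      rw [Matrix.mul_diagonal, Matrix.mul_apply]
      simp only [hM, Matrix.of_apply, mul_left_comm _ (c k), ← Finset.mul_sum, this]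
      ring
    rw [← Matrix.mul_assoc (mat Z), hcol, Matrix.mul_assoc M,
      show diagonal sgnI * D = D * diagonal sgnI by
        rw [hD, Matrix.diagonal_mul_diagonal, Matrix.diagonal_mul_diagonal]; simp [mul_comm],
      ← Matrix.mul_assoc M, ← Matrix.mul_assoc]
    show mat _⁻¹ * mat (toSU hF (M * D) hU' hdet') * _ = _
    rw [← mat_mul, inv_mul_cancel, mat_one, Matrix.one_mul]
  · have hcol : mat W * M = M * diagonal sgnJ := by
      ext i k
      have := congrFun (hvW k) i
      simp only [Matrix.mulVec, dotProduct, Pi.smul_apply, smul_eq_mul] at this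
      rw [Matrix.mul_diagonal, Matrix.mul_apply]
      simp only [hM, Matrix.of_apply, mul_left_comm _ (c k), ← Finset.mul_sum, this]
      ring
    rw [← Matrix.mul_assoc (mat W), hcol, Matrix.mul_assoc M,
      show diagonal sgnJ * D = D * diagonal sgnJ by
        rw [hD, Matrix.diagonal_mul_diagonal, Matrix.diagonal_mul_diagonal]; simp [mul_comm],
      ← Matrix.mul_assoc M, ← Matrix.mul_assoc]
    show mat _⁻¹ * mat (toSU hF (M * D) hU' hdet') * _ = _
    rw [← mat_mul, inv_mul_cancel, mat_one, Matrix.one_mul]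

/-! ### Windows -/

theorem diag_commute {n : ℕ} {g z : Cfsg.SU n F q} {c : F} (hz : mat z = diagonal fun _ => c) : Commute g z :=
  su_eq_of_mat (by
    rw [mat_mul, mat_mul, hz]
    ext i j
    rw [Matrix.mul_diagonal, Matrix.diagonal_mul, mul_comm])

include hF in
/-- An embedding with image in a window factors through it. -/
theorem exists_lift {H : Type*} [Group H] {k n i : ℕ} (h : i + k ≤ n) (f : H →* Cfsg.SU n F q)
    (hf : Function.Injective f) (hS : ∀ x, f x ∈ (Supp (wset k n i) : Subgroup (Cfsg.SU n F q))) :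
    ∃ A : H →* Cfsg.SU k F q, Function.Injective A ∧ ∀ x, emb hF k n i h (A x) = f x := by
  choose A hA using fun x => exists_emb hF h (hS x)
  refine ⟨MonoidHom.mk' A fun x y => emb_injective hF h (by rw [map_mul, hA, hA, hA, map_mul]),
    fun x y e => hf ?_, hA⟩
  have e' : A x = A y := e
  rw [← hA x, ← hA y, e']

theorem emb_entry {k n i : ℕ} (h : i + k ≤ n) (A : Cfsg.SU k F q) (x y : Fin k) :
    mat (emb hF k n i h A) (win k n i h x) (win k n i h y) = mat A x y := by
  rw [emb, mat_embS, embM_apply]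

/-- Twists respect windows. -/
theorem twist_emb {k n i : ℕ} (h : i + k ≤ n) {d : Fin n → F} (hd : ∀ j, d j ≠ 0) {τ : F ≃+* F}
    {T : Cfsg.SU n F q ≃* Cfsg.SU n F q} (hT : ∀ x i j, mat (T x) i j = d i * τ (mat x i j) * (d j)⁻¹)
    {x y : Cfsg.SU k F q}
    (hy : ∀ r c, mat y r c = d (win k n i h r) * τ (mat x r c) * (d (win k n i h c))⁻¹) :
    T (emb hF k n i h x) = emb hF k n i h y := by
  refine su_eq_of_mat (Matrix.ext fun r c => ?_)
  rw [hT, emb, mat_embS, mat_embS]
  by_cases hr : r ∈ Set.range (win k n i h)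
  swap
  · rw [embM_apply_row _ hr, embM_apply_row _ hr, Matrix.one_apply]
    split_ifs with e
    · subst e; rw [map_one, mul_one, mul_inv_cancel₀ (hd r)]
    · rw [map_zero, mul_zero, zero_mul]
  by_cases hc : c ∈ Set.range (win k n i h)
  swap
  · rw [embM_apply_col _ hc, embM_apply_col _ hc, Matrix.one_apply]
    split_ifs with e
    · subst e; rw [map_one, mul_one, mul_inv_cancel₀ (hd r)]
    · rw [map_zero, mul_zero, zero_mul]
  obtain ⟨r, rfl⟩ := hr
  obtain ⟨c, rfl⟩ := hc
  rw [embM_apply, embM_apply, hy]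

include hF in
/-- The two blocks generate `SU 3`. -/
theorem su3_gen (hq : 3 ≤ q) (H : Subgroup (Cfsg.SU 3 F q)) (h0 : ∀ x, e0 hF x ∈ H) (h1 : ∀ x, e1 hF x ∈ H) :
    H = ⊤ := by
  refine eq_top_iff.2 fun g _ => ?_
  have hg : g ∈ (Supp ({0, 1, 2} : Finset (Fin 3)) : Subgroup (Cfsg.SU 3 F q)) := fun j hj => by
    exfalso; revert hj; revert j; decide
  have hle : (Supp ({0, 1} : Finset (Fin 3)) : Subgroup (Cfsg.SU 3 F q)) ⊔ Supp {1, 2} ≤ H := by
    refine sup_le (fun x hx => ?_) fun x hx => ?_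
    · obtain ⟨y, rfl⟩ := exists_emb hF (show 0 + 2 ≤ 3 by omega)
        (show x ∈ Supp (wset 2 3 0) by rwa [show wset 2 3 0 = ({0, 1} : Finset (Fin 3)) by decide])
      exact h0 y
    · obtain ⟨y, rfl⟩ := exists_emb hF (show 1 + 2 ≤ 3 by omega)
        (show x ∈ Supp (wset 2 3 1) by rwa [show wset 2 3 1 = ({1, 2} : Finset (Fin 3)) by decide])
      exact h1 y
  exact hle (supp_gen_two hF (by decide) (by decide) (by decide) hq hg)

include hF in
set_option maxHeartbeats 4000000 in
/-- The base case in the given eigenframe. -/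
theorem four_three_frame (hq : q = 3) {m : F} (hm : m * m = -1) {t w : Cfsg.SU 2 F q}
    (ht : mat t = !![m, 0; 0, -m]) (hw : mat w = !![0, 1; -1, 0])
    (a b : Cfsg.SU 3 F q →* Cfsg.SU 4 F q) (ha : Function.Injective a) (hb : Function.Injective b)
    (hagree : ∀ x, a (e1 hF x) = b (e0 hF x)) (hcomm : ∀ x y, Commute (a (e0 hF x)) (b (e1 hF y)))
    (hI : mat (a (e0 hF (t * t))) = diagonal (sgnI : Fin 4 → F))
    (hJ : mat (a (e1 hF (t * t))) = diagonal (sgnJ : Fin 4 → F)) :
    ∃ th : Cfsg.SU 4 F q ≃* Cfsg.SU 4 F q, (∀ x, a x = th (emb hF 3 4 0 (by omega) x)) ∧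
      ∀ x, b x = th (emb hF 3 4 1 (by omega) x) := by
  classical
  have h2 := two_ne hF hq
  have h11 : (1 : F) ≠ -1 := fun e => h2 (by linear_combination e)
  have m0 : m ≠ 0 := fun e => by simp [e] at hm
  obtain ⟨N, hN⟩ : ∃ N, N = t * t := ⟨_, rfl⟩
  rw [← hN] at hI hJ
  have hNm : mat N = !![-1, 0; 0, -1] := by
    rw [hN, mat_mul, ht]
    ext i j
    fin_cases i <;> fin_cases j <;> simp [Matrix.mul_apply, Fin.sum_univ_two, hm]
  have mt0 : mat (e0 hF t) = !![m, 0, 0; 0, -m, 0; 0, 0, 1] := by rw [mat_e0, ht]; rfl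
  have mt1 : mat (e1 hF t) = !![1, 0, 0; 0, m, 0; 0, 0, -m] := by rw [mat_e1, ht]; rfl
  have mN0 : mat (e0 hF N) = !![-1, 0, 0; 0, -1, 0; 0, 0, 1] := by rw [mat_e0, hNm]; rfl
  have mN1 : mat (e1 hF N) = !![1, 0, 0; 0, -1, 0; 0, 0, -1] := by rw [mat_e1, hNm]; rfl
  have mw0 : mat (e0 hF w) = !![0, 1, 0; -1, 0, 0; 0, 0, 1] := by rw [mat_e0, hw]; rfl
  have mw1 : mat (e1 hF w) = !![1, 0, 0; 0, 0, 1; 0, -1, 0] := by rw [mat_e1, hw]; rfl
  -- relations in `SU 3`
  have R0 : e0 hF w * e1 hF N = e0 hF N * e1 hF N * e0 hF w := su_eq_of_mat (by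
    simp only [mat_mul, mw0, mN0, mN1]; ext i j; fin_cases i <;> fin_cases j <;> simp [Matrix.mul_apply, Fin.sum_univ_three])
  have R1 : e1 hF w * e0 hF N = e0 hF N * e1 hF N * e1 hF w := su_eq_of_mat (by
    simp only [mat_mul, mw1, mN0, mN1]; ext i j; fin_cases i <;> fin_cases j <;> simp [Matrix.mul_apply, Fin.sum_univ_three])
  have C01 : e0 hF t * e1 hF N = e1 hF N * e0 hF t := su_eq_of_mat (by
    simp only [mat_mul, mt0, mN1]; ext i j; fin_cases i <;> fin_cases j <;> simp [Matrix.mul_apply, Fin.sum_univ_three])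
  have C10 : e1 hF t * e0 hF N = e0 hF N * e1 hF t := su_eq_of_mat (by
    simp only [mat_mul, mt1, mN0]; ext i j; fin_cases i <;> fin_cases j <;> simp [Matrix.mul_apply, Fin.sum_univ_three])
  have CN : e0 hF N * e1 hF N = e1 hF N * e0 hF N := su_eq_of_mat (by
    simp only [mat_mul, mN0, mN1]; ext i j; fin_cases i <;> fin_cases j <;> simp [Matrix.mul_apply, Fin.sum_univ_three])
  have Rw : w * t = t * t * t * w := su_eq_of_mat (by
    simp only [mat_mul, ht, hw]
    ext i j
    fin_cases i <;> fin_cases j <;> simp [Matrix.mul_apply, Fin.sum_univ_two, hm])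
  have Cw : w * N = N * w := su_eq_of_mat (by
    simp only [mat_mul, hNm, hw]
    ext i j
    fin_cases i <;> fin_cases j <;> simp [Matrix.mul_apply, Fin.sum_univ_two])
  have CtN : t * N = N * t := by rw [hN]; group
  -- the product of the two involutions
  have hP : mat (a (e0 hF N * e1 hF N)) = diagonal (![-1, 1, -1, 1] : Fin 4 → F) := by
    rw [map_mul, mat_mul, hI, hJ, Matrix.diagonal_mul_diagonal]
    refine congrArg _ (funext fun i => ?_)
    fin_cases i <;> simp [sgnI, sgnJ]
  -- shapes: commuting with the two involutions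
  have dg : ∀ g : Cfsg.SU 4 F q, g * a (e0 hF N) = a (e0 hF N) * g → g * a (e1 hF N) = a (e1 hF N) * g →
      ∀ i j, i ≠ j → mat g i j = 0 := by
    intro g c1 c2 i j hij
    by_cases h : (sgnI j : F) = sgnI i
    · refine entry_zero hJ hJ c2 ?_
      fin_cases i <;> fin_cases j <;> simp [sgnI, sgnJ, h11, h11.symm] at h hij ⊢
    · exact entry_zero hI hI c1 h
  have col_of : ∀ {g : Cfsg.SU 4 F q} {d d' : Fin 4 → F} (z z' : Cfsg.SU 4 F q), mat z = diagonal d →
      mat z' = diagonal d' → g * z = z' * g → ∀ i j, d j ≠ d' i → mat g i j = 0 :=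
    fun z z' hz hz' e i j h => entry_zero hz hz' e h
  -- the first outer block on the torus and the Weyl element
  have t0d := dg (a (e0 hF t)) (by rw [← map_mul, ← map_mul, ← map_mul, ← map_mul, CtN])
    (by rw [← map_mul, ← map_mul, C01])
  have t1d := dg (a (e1 hF t)) (by rw [← map_mul, ← map_mul, C10])
    (by rw [← map_mul, ← map_mul, ← map_mul, ← map_mul, CtN])
  have t2d := dg (b (e1 hF t)) (hcomm N t).eq.symm (by
    rw [hagree, ← map_mul, ← map_mul, C10])
  have dm : ∀ g : Cfsg.SU 4 F q, (∀ i j, i ≠ j → mat g i j = 0) → mat g = diagonal fun i => mat g i i :=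
    fun g hg => by
      ext i j
      by_cases h : i = j
      · subst h; rw [Matrix.diagonal_apply_eq]
      · rw [Matrix.diagonal_apply_ne _ h, hg i j h]
  have W0I : a (e0 hF w) * a (e0 hF N) = a (e0 hF N) * a (e0 hF w) := by
    rw [← map_mul, ← map_mul, ← map_mul, ← map_mul, Cw]
  have W0J : a (e0 hF w) * a (e1 hF N) = a (e0 hF N * e1 hF N) * a (e0 hF w) := by
    rw [← map_mul, ← map_mul, R0]
  have W1J : a (e1 hF w) * a (e1 hF N) = a (e1 hF N) * a (e1 hF w) := by
    rw [← map_mul, ← map_mul, ← map_mul, ← map_mul, Cw]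
  have W1I : a (e1 hF w) * a (e0 hF N) = a (e0 hF N * e1 hF N) * a (e1 hF w) := by
    rw [← map_mul, ← map_mul, R1]
  have w0c0 : ∀ k, k ≠ 1 → mat (a (e0 hF w)) k 0 = 0 := fun k hk => by
    fin_cases k
    · exact col_of _ _ hJ hP W0J _ _ (by simp [sgnJ, h11])
    · exact absurd rfl hk
    all_goals exact col_of _ _ hI hI W0I _ _ (by simp [sgnI, h11, h11.symm])
  have w0c1 : ∀ k, k ≠ 0 → mat (a (e0 hF w)) k 1 = 0 := fun k hk => by
    fin_cases k
    · exact absurd rfl hk
    · exact col_of _ _ hJ hP W0J _ _ (by simp [sgnJ, h11.symm])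
    all_goals exact col_of _ _ hI hI W0I _ _ (by simp [sgnI, h11, h11.symm])
  have w0c3 : ∀ k, k ≠ 3 → mat (a (e0 hF w)) k 3 = 0 := fun k hk => by
    fin_cases k
    · exact col_of _ _ hI hI W0I _ _ (by simp [sgnI, h11])
    · exact col_of _ _ hI hI W0I _ _ (by simp [sgnI, h11])
    · exact col_of _ _ hJ hP W0J _ _ (by simp [sgnJ, h11])
    · exact absurd rfl hk
  have w1c2 : ∀ k, k ≠ 1 → mat (a (e1 hF w)) k 2 = 0 := fun k hk => by
    fin_cases k
    · exact col_of _ _ hJ hJ W1J _ _ (by simp [sgnJ, h11.symm])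
    · exact absurd rfl hk
    · exact col_of _ _ hI hP W1I _ _ (by simp [sgnI, h11])
    · exact col_of _ _ hJ hJ W1J _ _ (by simp [sgnJ, h11.symm])
  have w1c3 : ∀ k, k ≠ 3 → mat (a (e1 hF w)) k 3 = 0 := fun k hk => by
    fin_cases k
    · exact col_of _ _ hI hP W1I _ _ (by simp [sgnI, h11])
    · exact col_of _ _ hJ hJ W1J _ _ (by simp [sgnJ, h11])
    · exact col_of _ _ hJ hJ W1J _ _ (by simp [sgnJ, h11])
    · exact absurd rfl hk
  -- powers of the diagonal images
  set β : Fin 4 → F := fun i => mat (a (e0 hF t)) i i with hβ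
  set ν : Fin 4 → F := fun i => mat (b (e1 hF t)) i i with hν
  have hβm : mat (a (e0 hF t)) = diagonal β := dm _ t0d
  have hνm : mat (b (e1 hF t)) = diagonal ν := dm _ t2d
  have hβ2 : ∀ i, β i * β i = sgnI i := fun i => by
    have e : mat (a (e0 hF N)) = diagonal β * diagonal β := by rw [hN, map_mul, map_mul, mat_mul, hβm]
    rw [hI, Matrix.diagonal_mul_diagonal] at e
    exact (congrFun (Matrix.diagonal_injective e) i).symm
  have β01 : β 0 ≠ β 1 := by
    intro e
    have hrel : a (e0 hF w) * a (e0 hF t) = a (e0 hF (t * t * t)) * a (e0 hF w) := by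
      rw [← map_mul, ← map_mul, ← map_mul, ← map_mul, Rw]
    have h3 : mat (a (e0 hF (t * t * t))) = diagonal fun i => β i * β i * β i := by
      rw [map_mul, map_mul, map_mul, map_mul, mat_mul, mat_mul, hβm, Matrix.diagonal_mul_diagonal,
        Matrix.diagonal_mul_diagonal]
    have e' : β 0 = β 1 * β 1 * β 1 := by
      by_contra hne
      exact col_ne w0c0 (col_of _ _ hβm h3 hrel 1 0 hne)
    rw [hβ2, ← e] at e'
    simp only [sgnI, Matrix.cons_val_one, Matrix.cons_val_zero] at e'
    have hb0 : β 0 ≠ 0 := fun z => by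
      have := hβ2 0
      simp [z, sgnI] at this
    exact h11 (mul_right_cancel₀ hb0 (by linear_combination e'))
  -- the third involution
  set κ : Fin 4 → F := fun i => ν i * ν i with hκdef
  have hK : mat (b (e1 hF N)) = diagonal κ := by
    rw [hN, map_mul, map_mul, mat_mul, hνm, Matrix.diagonal_mul_diagonal]
  have κsq : ∀ i, κ i * κ i = 1 := fun i => by
    have e : N * N = 1 := su_eq_of_mat (by
      rw [mat_mul, hNm, mat_one]
      ext i j
      fin_cases i <;> fin_cases j <;> simp [Matrix.mul_apply, Fin.sum_univ_two])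
    have e' : mat (b (e1 hF N) * b (e1 hF N)) = 1 := by rw [← map_mul, ← map_mul, e, map_one, map_one, mat_one]
    rw [mat_mul, hK, Matrix.diagonal_mul_diagonal, ← Matrix.diagonal_one] at e'
    exact congrFun (Matrix.diagonal_injective e') i
  have κ01 : κ 0 = κ 1 := by
    by_contra hne
    exact col_ne w0c0 (col_of _ _ hK hK (hcomm w N).eq 1 0 hne)
  have κ23 : κ 2 = κ 3 := by
    have hd : (mat (b (e1 hF N))).det = 1 := (b (e1 hF N)).1.2
    rw [hK, Matrix.det_diagonal, Fin.prod_univ_four, ← κ01, κsq, one_mul] at hd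
    calc κ 2 = κ 2 * (κ 3 * κ 3) := by rw [κsq, mul_one]
      _ = κ 3 := by rw [← mul_assoc, hd, one_mul]
  have κns : κ 0 ≠ κ 2 := fun e => by
    have hs : mat (b (e1 hF N)) = diagonal fun _ => κ 0 := by
      rw [hK]
      refine congrArg _ (funext fun i => ?_)
      fin_cases i
      exacts [rfl, κ01.symm, e.symm, (e.trans κ23).symm]
    have := hb (show b (e0 hF w * e1 hF N) = b (e1 hF N * e0 hF w) by
      rw [map_mul, map_mul]; exact diag_commute hs)
    have h' := congrFun (congrFun (congrArg mat this) 0) 1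
    simp [mat_mul, mw0, mN1, Matrix.mul_apply, Fin.sum_univ_three] at h'
    exact h11 h'.symm
  have hWJ2 : b (e1 hF w) * a (e1 hF N) = b (e0 hF N * e1 hF N) * b (e1 hF w) := by
    rw [hagree, ← map_mul, ← map_mul, R1]
  have hP2 : mat (b (e0 hF N * e1 hF N)) = diagonal fun i => sgnJ i * κ i := by
    rw [map_mul, mat_mul, ← hagree, hJ, hK, Matrix.diagonal_mul_diagonal]
  have κ0 : κ 0 = 1 := by
    rcases mul_self_eq_one_iff.1 (κsq 0) with h | h
    · exact h
    exfalso
    have h20 : κ 2 = 1 := (mul_self_eq_one_iff.1 (κsq 2)).resolve_right fun e => κns (h.trans e.symm)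
    have c0 : ∀ k, k ≠ 1 → mat (b (e1 hF w)) k 0 = 0 := fun k hk => by
      fin_cases k
      · exact col_of _ _ hJ hP2 hWJ2 _ _ (by simp [sgnJ, h, h11])
      · exact absurd rfl hk
      all_goals exact col_of _ _ hI hI (hcomm N w).eq.symm _ _ (by simp [sgnI, h11.symm])
    exact col_ne c0 (col_of _ _ hβm hβm (hcomm t w).eq.symm 1 0 β01)
  have κ2 : κ 2 = -1 := (mul_self_eq_one_iff.1 (κsq 2)).resolve_left fun e => κns (κ0.trans e.symm)
  have hκ : κ = ![1, 1, -1, -1] := by
    funext i
    fin_cases i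
    exacts [κ0, κ01 ▸ κ0, κ2, κ23 ▸ κ2]
  rw [hκ] at hK
  simp only [hκ] at hP2
  have ν23 : ν 2 ≠ ν 3 := by
    intro e
    have c2 : ∀ k, k ≠ 3 → mat (b (e1 hF w)) k 2 = 0 := fun k hk => by
      fin_cases k
      · exact col_of _ _ hI hI (hcomm N w).eq.symm _ _ (by simp [sgnI, h11])
      · exact col_of _ _ hI hI (hcomm N w).eq.symm _ _ (by simp [sgnI, h11])
      · exact col_of _ _ hJ hP2 hWJ2 _ _ (by simp [sgnJ, h11.symm])
      · exact absurd rfl hk
    have hrel : b (e1 hF w) * b (e1 hF t) = b (e1 hF (t * t * t)) * b (e1 hF w) := by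
      rw [← map_mul, ← map_mul, ← map_mul, ← map_mul, Rw]
    have h3 : mat (b (e1 hF (t * t * t))) = diagonal fun i => ν i * ν i * ν i := by
      rw [map_mul, map_mul, map_mul, map_mul, mat_mul, mat_mul, hνm, Matrix.diagonal_mul_diagonal,
        Matrix.diagonal_mul_diagonal]
    have e' : ν 2 = ν 3 * ν 3 * ν 3 := by
      by_contra hne
      exact col_ne c2 (col_of _ _ hνm h3 hrel 3 2 hne)
    rw [← e] at e'
    have hk : ν 2 * ν 2 = -1 := κ2
    rw [hk] at e'
    have hn0 : ν 2 ≠ 0 := fun z => by simp [z] at hk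
    exact h11 (mul_right_cancel₀ hn0 (by linear_combination e'))
  -- the three blocks
  have cI : ∀ x, a (e0 hF x) * a (e0 hF N) = a (e0 hF N) * a (e0 hF x) := fun x => by
    have : x * N = N * x := su_eq_of_mat (by
      rw [mat_mul, mat_mul, hNm]
      ext i j
      fin_cases i <;> fin_cases j <;> simp [Matrix.mul_apply, Fin.sum_univ_two])
    rw [← map_mul, ← map_mul, ← map_mul, ← map_mul, this]
  have A2 : ∀ x, mat (a (e0 hF x)) *ᵥ ev1 2 = ev1 2 := fix_col hF hq (a.comp (e0 hF)) 2 fun x k hk => by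
    fin_cases k
    · exact col_of _ _ hI hI (cI x) _ _ (by simp [sgnI, h11])
    · exact col_of _ _ hI hI (cI x) _ _ (by simp [sgnI, h11])
    · exact absurd rfl hk
    · exact col_of _ _ hνm hνm (hcomm x t).eq _ _ ν23
  have A3 : ∀ x, mat (a (e0 hF x)) *ᵥ ev1 3 = ev1 3 := fix_col hF hq (a.comp (e0 hF)) 3 fun x k hk => by
    fin_cases k
    · exact col_of _ _ hI hI (cI x) _ _ (by simp [sgnI, h11])
    · exact col_of _ _ hI hI (cI x) _ _ (by simp [sgnI, h11])
    · exact col_of _ _ hνm hνm (hcomm x t).eq _ _ ν23.symm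
    · exact absurd rfl hk
  have cK : ∀ y, b (e1 hF y) * b (e1 hF N) = b (e1 hF N) * b (e1 hF y) := fun y => by
    have : y * N = N * y := su_eq_of_mat (by
      rw [mat_mul, mat_mul, hNm]
      ext i j
      fin_cases i <;> fin_cases j <;> simp [Matrix.mul_apply, Fin.sum_univ_two])
    rw [← map_mul, ← map_mul, ← map_mul, ← map_mul, this]
  have B0 : ∀ y, mat (b (e1 hF y)) *ᵥ ev1 0 = ev1 0 := fix_col hF hq (b.comp (e1 hF)) 0 fun y k hk => by
    fin_cases k
    · exact absurd rfl hk
    · exact col_of _ _ hβm hβm (hcomm t y).eq.symm _ _ β01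
    all_goals exact col_of _ _ hK hK (cK y) _ _ (by simp [h11, h11.symm])
  have B1 : ∀ y, mat (b (e1 hF y)) *ᵥ ev1 1 = ev1 1 := fix_col hF hq (b.comp (e1 hF)) 1 fun y k hk => by
    fin_cases k
    · exact col_of _ _ hβm hβm (hcomm t y).eq.symm _ _ β01.symm
    · exact absurd rfl hk
    all_goals exact col_of _ _ hK hK (cK y) _ _ (by simp [h11, h11.symm])
  -- the middle block is conjugate to the first one
  set P := e0 hF w * e1 hF w with hPdef
  have hP2' : mat P *ᵥ ev1 2 = ev1 0 := by
    rw [hPdef, mat_mul, mw0, mw1, ev1, mulVec_single_one]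
    funext i
    fin_cases i <;> simp [ev1, Matrix.mul_apply, Fin.sum_univ_three]
  obtain ⟨c2, hc20, hc2⟩ : ∃ c : F, c ≠ 0 ∧ mat (a P) *ᵥ ev1 2 = c • ev1 0 := by
    refine ⟨mat (a (e1 hF w)) 1 2 * mat (a (e0 hF w)) 0 1, mul_ne_zero (col_ne w1c2) (col_ne w0c1), ?_⟩
    rw [hPdef, map_mul, mat_mul, ← mulVec_mulVec, col_single w1c2, mulVec_smul, col_single w0c1, smul_smul]
  obtain ⟨c3, hc30, hc3⟩ : ∃ c : F, c ≠ 0 ∧ mat (a P) *ᵥ ev1 3 = c • ev1 3 := by
    refine ⟨mat (a (e1 hF w)) 3 3 * mat (a (e0 hF w)) 3 3, mul_ne_zero (col_ne w1c3) (col_ne w0c3), ?_⟩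
    rw [hPdef, map_mul, mat_mul, ← mulVec_mulVec, col_single w1c3, mulVec_smul, col_single w0c3, smul_smul]
  have M03 : ∀ y, mat (a (e1 hF y)) *ᵥ ev1 0 = ev1 0 ∧ mat (a (e1 hF y)) *ᵥ ev1 3 = ev1 3 := fun y => by
    obtain ⟨x, hx⟩ := exists_emb hF (show 0 + 2 ≤ 3 by omega) (g := P⁻¹ * e1 hF y * P) (fun j hj => by
      obtain rfl : j = 2 := by revert hj; revert j; decide
      rw [mat_mul, mat_mul, ← mulVec_mulVec, hP2', ← mulVec_mulVec,
        show mat (e1 hF y) *ᵥ ev1 0 = ev1 0 from emb_fix hF _ y (by decide), ← hP2', mat_inv_mulVec'])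
    have hx' : a (e1 hF y) * a P = a P * a (e0 hF x) := by
      rw [← map_mul, ← map_mul, show e0 hF x = P⁻¹ * e1 hF y * P from hx]
      exact congrArg a (by group)
    constructor
    · refine smul_right_injective (Fin 4 → F) hc20 ?_
      show c2 • (mat (a (e1 hF y)) *ᵥ ev1 0) = c2 • ev1 0
      rw [← mulVec_smul, ← hc2, mulVec_mulVec, ← mat_mul, hx', mat_mul, ← mulVec_mulVec, A2]
    · refine smul_right_injective (Fin 4 → F) hc30 ?_
      show c3 • (mat (a (e1 hF y)) *ᵥ ev1 3) = c3 • ev1 3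
      rw [← mulVec_smul, ← hc3, mulVec_mulVec, ← mat_mul, hx', mat_mul, ← mulVec_mulVec, A3]
  -- the windows
  have aS : ∀ x, a x ∈ (Supp (wset 3 4 0) : Subgroup (Cfsg.SU 4 F q)) := fun x => by
    have := su3_gen hF (le_of_eq hq.symm) ((Supp (wset 3 4 0)).comap a)
      (fun x j hj => by obtain rfl : j = 3 := by revert hj; revert j; decide
                        exact A3 x)
      (fun x j hj => by obtain rfl : j = 3 := by revert hj; revert j; decide
                        exact (M03 x).2)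
    exact Subgroup.mem_comap.1 (this ▸ Subgroup.mem_top x)
  have bS : ∀ x, b x ∈ (Supp (wset 3 4 1) : Subgroup (Cfsg.SU 4 F q)) := fun x => by
    have := su3_gen hF (le_of_eq hq.symm) ((Supp (wset 3 4 1)).comap b)
      (fun x j hj => by obtain rfl : j = 0 := by revert hj; revert j; decide
                        rw [← hagree]; exact (M03 x).1)
      (fun x j hj => by obtain rfl : j = 0 := by revert hj; revert j; decide
                        exact B0 x)
    exact Subgroup.mem_comap.1 (this ▸ Subgroup.mem_top x)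
  obtain ⟨A, hAi, hA⟩ := exists_lift hF (show 0 + 3 ≤ 4 by omega) a ha aS
  obtain ⟨B, hBi, hB⟩ := exists_lift hF (show 1 + 3 ≤ 4 by omega) b hb bS
  obtain ⟨α, hαi, hα⟩ := exists_lift hF (show 0 + 2 ≤ 3 by omega) (A.comp (e0 hF))
    (hAi.comp (emb_injective hF _)) (fun x j hj => by
      obtain rfl : j = 2 := by revert hj; revert j; decide
      have := (emb_ev hF (show 0 + 3 ≤ 4 by omega) (A (e0 hF x)) 2 2 1).1
      simp only [one_smul] at this
      exact this (by rw [hA]; exact A2 x))
  obtain ⟨β', hβi, hβ'⟩ := exists_lift hF (show 1 + 2 ≤ 3 by omega) (A.comp (e1 hF))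
    (hAi.comp (emb_injective hF _)) (fun x j hj => by
      obtain rfl : j = 0 := by revert hj; revert j; decide
      have := (emb_ev hF (show 0 + 3 ≤ 4 by omega) (A (e1 hF x)) 0 0 1).1
      simp only [one_smul] at this
      exact this (by rw [hA]; exact (M03 x).1))
  obtain ⟨γ, hγi, hγ⟩ := exists_lift hF (show 1 + 2 ≤ 3 by omega) (B.comp (e1 hF))
    (hBi.comp (emb_injective hF _)) (fun x j hj => by
      obtain rfl : j = 0 := by revert hj; revert j; decide
      have := (emb_ev hF (show 1 + 3 ≤ 4 by omega) (B (e1 hF x)) 0 0 1).1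
      simp only [one_smul] at this
      exact this (by rw [hB]; exact B1 x))
  have eα : ∀ x, a (e0 hF x) = emb hF 2 4 0 (by omega) (α x) := fun x => by
    rw [← hA, ← show emb hF 2 3 0 (by omega) (α x) = A (e0 hF x) from hα x, emb_emb]
  have eβ : ∀ x, a (e1 hF x) = emb hF 2 4 1 (by omega) (β' x) := fun x => by
    rw [← hA, ← show emb hF 2 3 1 (by omega) (β' x) = A (e1 hF x) from hβ' x, emb_emb]
  have eγ : ∀ x, b (e1 hF x) = emb hF 2 4 2 (by omega) (γ x) := fun x => by
    rw [← hB, ← show emb hF 2 3 1 (by omega) (γ x) = B (e1 hF x) from hγ x, emb_emb]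
  have hBe0 : ∀ x, B (e0 hF x) = e0 hF (β' x) := fun x => emb_injective hF (show 1 + 3 ≤ 4 by omega) (by
    rw [hB, ← hagree, eβ, e0, emb_emb])
  -- the torus is preserved
  have pres : ∀ (f : Cfsg.SU 2 F q →* Cfsg.SU 2 F q), Function.Injective f → Diag2 (f t) →
      ∀ g, Diag2 g → Diag2 (f g) := by
    intro f hfi hft g hg
    have hc : f g * f t = f t * f g := by
      rw [← map_mul, ← map_mul, diag2_commute hg (show Diag2 t by constructor <;> simp [ht])]
    have hne : mat (f t) 0 0 ≠ mat (f t) 1 1 := fun e => by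
      have hs : mat (f t) = diagonal fun _ => mat (f t) 0 0 := by
        ext i j
        fin_cases i <;> fin_cases j <;> simp [hft.1, hft.2, e]
      have h' := congrFun (congrFun (congrArg mat (hfi (show f (w * t) = f (t * w) by
        rw [map_mul, map_mul]; exact diag_commute hs))) 0) 1
      simp [mat_mul, ht, hw, Matrix.mul_apply, Fin.sum_univ_two] at h'
      exact h2 (mul_right_cancel₀ m0 (show (2 : F) * m = 0 * m by linear_combination -h'))
    refine diag2_of_zero hF (Or.inl ?_)
    have e := congrFun (congrFun (congrArg mat hc) 0) 1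
    simp [mat_mul, Matrix.mul_apply, Fin.sum_univ_two, hft.1, hft.2] at e
    by_contra h
    exact hne (mul_left_cancel₀ h (by linear_combination -e))
  have d0 : Diag2 (α t) := by
    constructor <;> rw [← emb_entry hF (show 0 + 2 ≤ 4 by omega), ← eα t] <;> exact t0d _ _ (by simp [Fin.ext_iff, win])
  have d1 : Diag2 (β' t) := by
    constructor <;> rw [← emb_entry hF (show 1 + 2 ≤ 4 by omega), ← eβ t] <;> exact t1d _ _ (by simp [Fin.ext_iff, win])
  have d2 : Diag2 (γ t) := by
    constructor <;> rw [← emb_entry hF (show 2 + 2 ≤ 4 by omega), ← eγ t] <;> exact t2d _ _ (by simp [Fin.ext_iff, win])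
  have bij : ∀ (f : Cfsg.SU 2 F q →* Cfsg.SU 2 F q), Function.Injective f → Function.Bijective f :=
    fun f hf => Finite.injective_iff_bijective.1 hf
  obtain ⟨ζ, τ, hζ, fα⟩ := su2_aut_torus hF (by omega) (MulEquiv.ofBijective α (bij α hαi)) (pres α hαi d0)
  obtain ⟨η, τ', hη, fβ⟩ := su2_aut_torus hF (by omega) (MulEquiv.ofBijective β' (bij β' hβi)) (pres β' hβi d1)
  obtain ⟨θ, τ'', hθ, fγ⟩ := su2_aut_torus hF (by omega) (MulEquiv.ofBijective γ (bij γ hγi)) (pres γ hγi d2)
  simp only [MulEquiv.ofBijective_apply] at fα fβ fγ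
  have hζ0 : ζ ≠ 0 := fun e => by simp [e] at hζ
  have hη0 : η ≠ 0 := fun e => by simp [e] at hη
  have hθ0 : θ ≠ 0 := fun e => by simp [e] at hθ
  -- the field automorphisms agree
  obtain ⟨w', hw'⟩ : ∃ w' : Cfsg.SU 2 F q, mat w' = !![0, -m; -m, 0] := by
    have hmσ : m * frob hF m = 1 := by
      rw [frob_apply, ← pow_succ', show q + 1 = 4 by omega]; linear_combination (m * m - 1) * hm
    exact ⟨toSU hF _ (by unfold UMat; ext i j; fin_cases i <;> fin_cases j <;> simp [Matrix.mul_apply, Fin.sum_univ_two, hmσ])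
      (by simp [Matrix.det_fin_two, hm]), rfl⟩
  have relA : ∀ (A : Cfsg.SU 3 F q →* Cfsg.SU 3 F q) (f g : Cfsg.SU 2 F q →* Cfsg.SU 2 F q),
      (∀ x, A (e0 hF x) = e0 hF (f x)) → (∀ x, A (e1 hF x) = e1 hF (g x)) →
      e0 hF (f t) * e1 hF (g w) = e1 hF (g w') * e0 hF (f t) := by
    intro A f g hf hg
    rw [← hf, ← hg, ← hg, ← map_mul, ← map_mul]
    refine congrArg A (su_eq_of_mat ?_)
    simp only [mat_mul, mt0, mw1, mat_e1 hF w', hw']
    ext i j
    fin_cases i <;> fin_cases j <;> simp [Matrix.mul_apply, Fin.sum_univ_three, hm]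
  have field_eq : ∀ (f g : Cfsg.SU 2 F q →* Cfsg.SU 2 F q) (c d : F) (s s' : F ≃+* F), c ≠ 0 → d ≠ 0 →
      (∀ x i j, mat (f x) i j = ![1, c] i * s (mat x i j) * (![1, c] j)⁻¹) →
      (∀ x i j, mat (g x) i j = ![1, d] i * s' (mat x i j) * (![1, d] j)⁻¹) →
      e0 hF (f t) * e1 hF (g w) = e1 hF (g w') * e0 hF (f t) → s = s' := by
    intro f g c d s s' hc hd hf hg e
    refine auto_eq hF hq hm ?_
    have e' := congrFun (congrFun (congrArg mat e) 1) 2
    simp [mat_mul, mat_e0, mat_e1, Matrix.mul_apply, Fin.sum_univ_three, hf, hg, ht, hw, hw', hc] at e'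
    have e'' := e'.resolve_right hd
    rwa [mul_comm c, mul_assoc, mul_inv_cancel₀ hc, mul_one] at e''
  have hτ' : τ = τ' :=
    field_eq α β' ζ η τ τ' hζ0 hη0 fα fβ (relA A α β' (fun x => (hα x).symm) fun x => (hβ' x).symm)
  have hτ'' : τ' = τ'' :=
    field_eq β' γ η θ τ' τ'' hη0 hθ0 fβ fγ (relA B β' γ hBe0 fun x => (hγ x).symm)
  subst hτ'
  subst hτ''
  -- the automorphism
  have hd4 : ∀ i, (![1, ζ, ζ * η, ζ * η * θ] : Fin 4 → F) i * frob hF (![1, ζ, ζ * η, ζ * η * θ] i) = 1 := by
    intro i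
    fin_cases i
    · simp
    · simpa using hζ
    · show ζ * η * frob hF (ζ * η) = 1
      rw [map_mul]; linear_combination (η * frob hF η) * hζ + hη
    · show ζ * η * θ * frob hF (ζ * η * θ) = 1
      rw [map_mul, map_mul]
      linear_combination (η * frob hF η) * (θ * frob hF θ) * hζ + (θ * frob hF θ) * hη + hθ
  obtain ⟨T, hT⟩ := exists_twist hF _ hd4 τ
  have hd0 : ∀ j, (![1, ζ, ζ * η, ζ * η * θ] : Fin 4 → F) j ≠ 0 := fun j e => by
    have := hd4 j
    simp [e] at this
  have T0 : ∀ x, T (emb hF 2 4 0 (by omega) x) = emb hF 2 4 0 (by omega) (α x) := fun x =>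
    twist_emb hF _ hd0 hT fun r c => by
      rw [fα]
      fin_cases r <;> fin_cases c <;> simp [win]
  have T1 : ∀ x, T (emb hF 2 4 1 (by omega) x) = emb hF 2 4 1 (by omega) (β' x) := fun x =>
    twist_emb hF _ hd0 hT fun r c => by
      rw [fβ]
      have i0 : win 2 4 1 (by omega) (0 : Fin 2) = (1 : Fin 4) := Fin.ext rfl
      have i1 : win 2 4 1 (by omega) (1 : Fin 2) = (2 : Fin 4) := Fin.ext rfl
      fin_cases r <;> fin_cases c <;> simp [i0, i1] <;> field_simp
  have T2 : ∀ x, T (emb hF 2 4 2 (by omega) x) = emb hF 2 4 2 (by omega) (γ x) := fun x =>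
    twist_emb hF _ hd0 hT fun r c => by
      rw [fγ]
      have i0 : win 2 4 2 (by omega) (0 : Fin 2) = (2 : Fin 4) := Fin.ext rfl
      have i1 : win 2 4 2 (by omega) (1 : Fin 2) = (3 : Fin 4) := Fin.ext rfl
      fin_cases r <;> fin_cases c <;> simp [i0, i1] <;> field_simp
  refine ⟨T, fun x => ?_, fun x => ?_⟩
  · refine DFunLike.congr_fun (MonoidHom.eq_of_eqOn_dense (s := Set.range (e0 hF) ∪ Set.range (e1 hF))
      (f := a) (g := T.toMonoidHom.comp (emb hF 3 4 0 (by omega))) ?_ ?_) x
    · exact su3_gen hF (le_of_eq hq.symm) _ (fun x => Subgroup.subset_closure (Or.inl ⟨x, rfl⟩))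
        (fun x => Subgroup.subset_closure (Or.inr ⟨x, rfl⟩))
    · rintro _ (⟨x, rfl⟩ | ⟨x, rfl⟩)
      · rw [MonoidHom.comp_apply, MulEquiv.coe_toMonoidHom, e0, emb_emb, T0]; exact eα x
      · rw [MonoidHom.comp_apply, MulEquiv.coe_toMonoidHom, e1, emb_emb, T1]; exact eβ x
  · refine DFunLike.congr_fun (MonoidHom.eq_of_eqOn_dense (s := Set.range (e0 hF) ∪ Set.range (e1 hF))
      (f := b) (g := T.toMonoidHom.comp (emb hF 3 4 1 (by omega))) ?_ ?_) x
    · exact su3_gen hF (le_of_eq hq.symm) _ (fun x => Subgroup.subset_closure (Or.inl ⟨x, rfl⟩))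
        (fun x => Subgroup.subset_closure (Or.inr ⟨x, rfl⟩))
    · rintro _ (⟨x, rfl⟩ | ⟨x, rfl⟩)
      · rw [MonoidHom.comp_apply, MulEquiv.coe_toMonoidHom, ← hagree, e0, emb_emb, T1]; exact eβ x
      · rw [MonoidHom.comp_apply, MulEquiv.coe_toMonoidHom, e1, emb_emb, T2]; exact eγ x

include hF in
/-- Two embeddings of `SU₃(3)` in `SU₄(3)` with common block and commuting outer blocks are standard windows. -/
theorem four_three (hq : q = 3) (a b : Cfsg.SU 3 F q →* Cfsg.SU 4 F q) (ha : Function.Injective a)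
    (hb : Function.Injective b) (hagree : ∀ x, a (e1 hF x) = b (e0 hF x))
    (hcomm : ∀ x y, Commute (a (e0 hF x)) (b (e1 hF y))) :
    ∃ th : Cfsg.SU 4 F q ≃* Cfsg.SU 4 F q, (∀ w, a w = th (emb hF 3 4 0 (by omega) w)) ∧
      ∀ w, b w = th (emb hF 3 4 1 (by omega) w) := by
  classical
  have h2 := two_ne hF hq
  obtain ⟨m, hm, hmσ⟩ := exists_sqrt_neg hF hq
  let t : Cfsg.SU 2 F q := toSU hF !![m, 0; 0, -m]
    (by unfold UMat; ext i j; fin_cases i <;> fin_cases j <;> simp [Matrix.mul_apply, Fin.sum_univ_two, hmσ])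
    (by simp [Matrix.det_fin_two, hm])
  let w : Cfsg.SU 2 F q := toSU hF !![0, 1; -1, 0]
    (by unfold UMat; ext i j; fin_cases i <;> fin_cases j <;> simp [Matrix.mul_apply, Fin.sum_univ_two])
    (by simp [Matrix.det_fin_two_of])
  have ht : mat t = !![m, 0; 0, -m] := rfl
  have hw : mat w = !![0, 1; -1, 0] := rfl
  set N := t * t with hN
  have hNm : mat N = !![-1, 0; 0, -1] := by
    rw [hN, mat_mul, ht]
    ext i j
    fin_cases i <;> fin_cases j <;> simp [Matrix.mul_apply, Fin.sum_univ_two, hm]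
  have mN0 : mat (e0 hF N) = !![-1, 0, 0; 0, -1, 0; 0, 0, 1] := by rw [mat_e0, hNm]; rfl
  have mN1 : mat (e1 hF N) = !![1, 0, 0; 0, -1, 0; 0, 0, -1] := by rw [mat_e1, hNm]; rfl
  have mw0 : mat (e0 hF w) = !![0, 1, 0; -1, 0, 0; 0, 0, 1] := by rw [mat_e0, hw]; rfl
  have mw1 : mat (e1 hF w) = !![1, 0, 0; 0, 0, 1; 0, -1, 0] := by rw [mat_e1, hw]; rfl
  have NN : N * N = 1 := su_eq_of_mat (by
    rw [mat_mul, hNm, mat_one]
    ext i j
    fin_cases i <;> fin_cases j <;> simp [Matrix.mul_apply, Fin.sum_univ_two])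
  have CN : e0 hF N * e1 hF N = e1 hF N * e0 hF N := su_eq_of_mat (by
    simp only [mat_mul, mN0, mN1]; ext i j; fin_cases i <;> fin_cases j <;> simp [Matrix.mul_apply, Fin.sum_univ_three])
  -- each of the three involutions has trace zero
  have key : ∀ z v : Cfsg.SU 3 F q, z * z = 1 → z * v ≠ v * z → (mat (a z)).trace = 0 := by
    intro z v hz hzv
    refine inv_trace hF hq (by rw [← map_mul, hz, map_one]) (fun e => hzv ?_) fun e => hzv (ha ?_)
    · rw [ha (e.trans (map_one a).symm), one_mul, mul_one]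
    · rw [map_mul, map_mul]
      refine (diag_commute (c := (-1 : F)) ?_).eq.symm
      rw [e, ← Matrix.diagonal_one, Matrix.diagonal_neg]
  have hI1 : e0 hF N * e0 hF N = 1 := by rw [← map_mul, NN, map_one]
  have hJ1 : e1 hF N * e1 hF N = 1 := by rw [← map_mul, NN, map_one]
  have hP1 : e0 hF N * e1 hF N * (e0 hF N * e1 hF N) = 1 := by
    rw [mul_assoc, ← mul_assoc (e1 hF N), ← CN, mul_assoc (e0 hF N), hJ1, mul_one, hI1]
  have h11 : (1 : F) ≠ -1 := fun e => h2 (by linear_combination e)
  have nI : e0 hF N * e1 hF w ≠ e1 hF w * e0 hF N := fun e => by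
    have := congrFun (congrFun (congrArg mat e) 1) 2
    simp [mat_mul, mN0, mw1, Matrix.mul_apply, Fin.sum_univ_three] at this
    exact h11 this.symm
  have nJ : e1 hF N * e0 hF w ≠ e0 hF w * e1 hF N := fun e => by
    have := congrFun (congrFun (congrArg mat e) 0) 1
    simp [mat_mul, mN1, mw0, Matrix.mul_apply, Fin.sum_univ_three] at this
    exact h11 this
  have nP : e0 hF N * e1 hF N * e0 hF w ≠ e0 hF w * (e0 hF N * e1 hF N) := fun e => by
    have := congrFun (congrFun (congrArg mat e) 0) 1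
    simp [mat_mul, mN0, mN1, mw0, Matrix.mul_apply, Fin.sum_univ_three] at this
    exact h11 this.symm
  obtain ⟨g, gI, gJ⟩ := exists_frame hF hq (Z := a (e0 hF N)) (W := a (e1 hF N))
    (by rw [← map_mul, hI1, map_one]) (by rw [← map_mul, hJ1, map_one])
    (show _ = _ by rw [← map_mul, ← map_mul, CN])
    (key _ _ hI1 nI) (key _ _ hJ1 nJ) (by rw [← map_mul]; exact key _ _ hP1 nP)
  set c : Cfsg.SU 4 F q ≃* Cfsg.SU 4 F q := MulAut.conj g⁻¹ with hc
  have hcz : ∀ z, c z = g⁻¹ * z * g := fun z => by rw [hc, MulAut.conj_apply, inv_inv]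
  obtain ⟨th, hta, htb⟩ := four_three_frame hF hq hm ht hw (c.toMonoidHom.comp a) (c.toMonoidHom.comp b)
    (c.injective.comp ha) (c.injective.comp hb) (fun x => congrArg c (hagree x))
    (fun x y => (hcomm x y).map c.toMonoidHom)
    (show mat (c (a (e0 hF N))) = _ by rw [hcz]; exact gI) (show mat (c (a (e1 hF N))) = _ by rw [hcz]; exact gJ)
  refine ⟨th.trans c.symm, fun x => ?_, fun x => ?_⟩
  · rw [MulEquiv.trans_apply, ← hta x, MonoidHom.comp_apply, MulEquiv.coe_toMonoidHom, MulEquiv.symm_apply_apply]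
  · rw [MulEquiv.trans_apply, ← htb x, MonoidHom.comp_apply, MulEquiv.coe_toMonoidHom, MulEquiv.symm_apply_apply]

end CfsgLib.Phan
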