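import Cfsg.Agent.Lib.Phan.GlueTwo
import Cfsg.Agent.Lib.Phan.LiftThree

/-!
Recognition from a weak Phan system over the field with four elements.
-/

set_option autoImplicit false
set_option linter.unusedSectionVars false

namespace CfsgLib.Phan

open Matrix CfsgLib.UnitaryTransvection CfsgLib.UnitarySimple CfsgLib.SUCover CfsgLib.SUShort

universe u v

variable {F : Type u} [Field F] [Fintype F] {q : ℕ} (hF : Fintype.card F = q ^ 2)

/-- Two compatible windows in `SU 4` are the standard ones up to an automorphism. -/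
def FramedFourTwo : Prop :=
  ∀ a b : Cfsg.SU 3 F q →* Cfsg.SU 4 F q, a.ker ≤ Subgroup.center (Cfsg.SU 3 F q) →
    b.ker ≤ Subgroup.center (Cfsg.SU 3 F q) →
    (∀ x, a (e1 hF x) = b (e0 hF x)) → (∀ x y, Commute (a (e0 hF x)) (b (e1 hF y))) →
    ∃ th : Cfsg.SU 4 F q ≃* Cfsg.SU 4 F q, (∀ w, a w = th (emb hF 3 4 0 (by omega) w)) ∧
      ∀ w, b w = th (emb hF 3 4 1 (by omega) w)

variable {G : Type v} [Group G]

include hF in
theorem center_four_two (hq : q = 2) : Subgroup.center (Cfsg.SU 4 F q) = ⊥ :=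
  Subgroup.eq_bot_of_card_eq _ (by rw [(center_cyclic hF (n := 4) (by omega)).2, hq]; decide)

include hF in
/-- The windows of size four. -/
theorem exists_four_two (hq : q = 2) (hfour : FramedFourTwo hF) (g : Cfsg.SU 4 F q →* G) {A B C V V' : Subgroup G}
    {ψ φ : Cfsg.SU 3 F q →* G} (wψ : IsWindow hF A B V ψ) (wφ : IsWindow hF B C V' φ) (hV : V ≤ g.range)
    (hV' : V' ≤ g.range) (hagree : ∀ x, ψ (e1 hF x) = φ (e0 hF x)) (hfar : ∀ x ∈ A, ∀ y ∈ C, Commute x y) :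
    ∃ Ψ : Cfsg.SU 4 F q →* G, (∀ w, Ψ (emb hF 3 4 0 (by omega) w) = ψ w) ∧
      ∀ w, Ψ (emb hF 3 4 1 (by omega) w) = φ w := by
  have hψr : ψ.range ≤ g.range := wψ.le.trans hV
  have hφr : φ.range ≤ g.range := wφ.le.trans hV'
  have hg1 : g ≠ 1 := by
    intro e
    obtain ⟨w, z, hw, -, hz1, -⟩ := exists_diag hF (show 2 ≤ q by omega)
    obtain ⟨y, hy⟩ := hψr ⟨e0 hF w, rfl⟩
    have h1 : ψ (e0 hF w) = 1 := by rw [← hy, e]; rfl
    have h2 : w = 1 := wψ.inj0 (by rw [map_one]; exact h1)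
    have := congrFun (congrFun (congrArg mat h2) 0) 0
    rw [hw, mat_one] at this
    exact hz1 (by simpa using this)
  have hgi : Function.Injective g :=
    (MonoidHom.ker_eq_bot_iff _).1 (le_bot_iff.1 (center_four_two hF hq ▸ ker_le_center hF g hg1))
  let e := MonoidHom.ofInjective hgi
  let a : Cfsg.SU 3 F q →* Cfsg.SU 4 F q :=
    e.symm.toMonoidHom.comp (ψ.codRestrict g.range fun x => hψr ⟨x, rfl⟩)
  let b : Cfsg.SU 3 F q →* Cfsg.SU 4 F q :=
    e.symm.toMonoidHom.comp (φ.codRestrict g.range fun x => hφr ⟨x, rfl⟩)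
  have ha : ∀ x, g (a x) = ψ x := fun x => MonoidHom.apply_ofInjective_symm hgi ⟨ψ x, hψr ⟨x, rfl⟩⟩
  have hb : ∀ x, g (b x) = φ x := fun x => MonoidHom.apply_ofInjective_symm hgi ⟨φ x, hφr ⟨x, rfl⟩⟩
  obtain ⟨th, tha, thb⟩ := hfour a b
    (fun x hx => wψ.ker (by rw [MonoidHom.mem_ker, ← ha, MonoidHom.mem_ker.1 hx, map_one]))
    (fun x hx => wφ.ker (by rw [MonoidHom.mem_ker, ← hb, MonoidHom.mem_ker.1 hx, map_one]))
    (fun x => hgi (by rw [ha, hb, hagree]))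
    (fun x y => by
      refine hgi ?_
      rw [map_mul, map_mul, ha, hb]
      exact (hfar _ (wψ.left.le ⟨x, rfl⟩) _ (wφ.right.le ⟨y, rfl⟩)).eq)
  exact ⟨g.comp th.toMonoidHom, fun w => by rw [MonoidHom.comp_apply, MulEquiv.coe_toMonoidHom, ← tha, ha],
    fun w => by rw [MonoidHom.comp_apply, MulEquiv.coe_toMonoidHom, ← thb, hb]⟩

include hF in
/-- Recognition over the field with four elements. -/
theorem weak_phan_two (hq : q = 2) (hfour : FramedFourTwo hF) {n : ℕ} (hn : 4 ≤ n) (U : Fin n → Subgroup G)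
    (V : Fin n → Fin n → Subgroup G) (h1 : ∀ i j : Fin n, (i : ℕ) + 2 ≤ j → ∀ x ∈ U i, ∀ y ∈ U j, x * y = y * x)
    (h2 : ∀ i j : Fin n, (i : ℕ) + 1 = j → Cfsg.IsStandardUnitaryPair (V i j) (U i) (U j) F q)
    (hgen : (⨆ i, U i) ⊔ (⨆ (i : Fin n) (j : Fin n) (_ : (i : ℕ) + 1 = j), V i j) = ⊤)
    (h4 : ∀ i j k : Fin n, (i : ℕ) + 1 = j → (j : ℕ) + 1 = k →
      ∃ g : Cfsg.SU 4 F q →* (V i j ⊔ V j k : Subgroup G), Function.Surjective g)
    (h5 : ∀ i j k : Fin n, (j : ℕ) + 1 = k → ((i : ℕ) + 2 ≤ j ∨ (k : ℕ) + 2 ≤ i) →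
      ∀ x ∈ U i, ∀ y ∈ V j k, x * y = y * x)
    (h6 : ∀ i j k l : Fin n, (i : ℕ) + 1 = j → (k : ℕ) + 1 = l → (j : ℕ) + 2 ≤ k →
      ∀ x ∈ V i j, ∀ y ∈ V k l, x * y = y * x) :
    ∃ f : Cfsg.SU (n + 1) F q →* G, Function.Surjective f := by
  classical
  obtain ⟨f, hw, hfc⟩ := exists_family hF (show 2 ≤ q by omega) (extends_of_two_le hF (by omega)) (by omega)
    U V h1 h2
  let U' : ℕ → Subgroup G := fun i => if h : i < n then U ⟨i, h⟩ else ⊥
  have hU' : ∀ (i : ℕ) (h : i < n), U' i = U ⟨i, h⟩ := fun i h => dif_pos h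
  let D : TwoData hF n G :=
    { hq := hq
      hn := hn
      U := U'
      f := f
      mem0 := fun i hi x => by rw [hU' i (by omega)]; exact (hw i hi).left.le ⟨x, rfl⟩
      mem1 := fun i hi x => by rw [hU' (i + 1) hi]; exact (hw i hi).right.le ⟨x, rfl⟩
      agree := hfc
      far := fun i j hij hj x hx y hy => by
        rw [hU' i (by omega)] at hx
        rw [hU' j hj] at hy
        exact h1 ⟨i, by omega⟩ ⟨j, hj⟩ hij x hx y hy
      h5 := fun i j hi hj hij x hx w => by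
        rw [hU' i hi] at hx
        exact h5 ⟨i, hi⟩ ⟨j, by omega⟩ ⟨j + 1, hj⟩ rfl
          (by rcases hij with h | h; exacts [Or.inl h, Or.inr (by show j + 1 + 2 ≤ i; omega)]) x hx _
          ((hw j hj).le ⟨w, rfl⟩)
      h6 := fun i j hij hj v w =>
        h6 ⟨i, by omega⟩ ⟨i + 1, by omega⟩ ⟨j, by omega⟩ ⟨j + 1, hj⟩ rfl rfl (by show i + 1 + 2 ≤ j; omega) _
          ((hw i (by omega)).le ⟨v, rfl⟩) _ ((hw j hj).le ⟨w, rfl⟩)
      four := fun i hi => by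
        obtain ⟨g₀, hg₀⟩ := h4 ⟨i, by omega⟩ ⟨i + 1, by omega⟩ ⟨i + 1 + 1, by omega⟩ rfl rfl
        obtain ⟨Ψ, hΨ0, hΨ1⟩ := exists_four_two hF hq hfour
          ((V ⟨i, by omega⟩ ⟨i + 1, by omega⟩ ⊔ V ⟨i + 1, by omega⟩ ⟨i + 1 + 1, by omega⟩).subtype.comp g₀)
          (hw i (by omega)) (hw (i + 1) (by omega))
          (fun v hv => by
            obtain ⟨y, hy⟩ := hg₀ ⟨v, Subgroup.mem_sup_left hv⟩
            exact ⟨y, congrArg Subtype.val hy⟩)
          (fun v hv => by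
            obtain ⟨y, hy⟩ := hg₀ ⟨v, Subgroup.mem_sup_right hv⟩
            exact ⟨y, congrArg Subtype.val hy⟩)
          (hfc i hi) (fun x hx y hy => h1 _ _ (by show i + 2 ≤ i + 1 + 1; omega) x hx y hy)
        refine ⟨Ψ, fun j hj w => ?_⟩
        obtain rfl | rfl : j = 0 ∨ j = 1 := by omega
        · rw [hΨ0, Nat.add_zero]
        · exact hΨ1 w }
  obtain ⟨f', hf'⟩ := D.exists_hom
  refine ⟨f', MonoidHom.range_eq_top.1 (top_le_iff.1 (hgen ▸ sup_le (iSup_le fun i => ?_)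
    (iSup_le fun i => iSup_le fun j => iSup_le fun hij => ?_)))⟩
  · by_cases hi : (i : ℕ) + 1 < n
    · intro x hx
      obtain ⟨y, hy⟩ := (hw i hi).left.symm.le hx
      exact hf' i hi ⟨_, hy⟩
    · obtain ⟨k, hk⟩ : ∃ k, (i : ℕ) = k + 1 := ⟨(i : ℕ) - 1, by omega⟩
      have hk' : k + 1 < n := by omega
      intro x hx
      rw [show i = (⟨k + 1, hk'⟩ : Fin n) from Fin.ext hk] at hx
      obtain ⟨y, hy⟩ := (hw k hk').right.symm.le hx
      exact hf' k hk' ⟨_, hy⟩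
  · have hj : (i : ℕ) + 1 < n := by omega
    rw [show j = (⟨(i : ℕ) + 1, hj⟩ : Fin n) from Fin.ext hij.symm]
    exact (hw i hj).cover.trans (hf' i hj)

end CfsgLib.Phan
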