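import Cfsg.Agent.Lib.Phan.FourTwoEigen
import Cfsg.Agent.Lib.Phan.Two

/-!
Two compatible windows of `SU₄(2)` are the standard ones up to an automorphism (the base case of Phan's theorem
for `q = 2`).
-/

set_option autoImplicit false
set_option linter.unusedSectionVars false

namespace CfsgLib.Phan

open Equiv Matrix CfsgLib.UnitaryTransvection CfsgLib.UnitarySimple CfsgLib.SUCover CfsgLib.SUShort

variable {F : Type*} [Field F] [Fintype F] {q : ℕ} (hF : Fintype.card F = q ^ 2) (hq : q = 2)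

include hF hq

set_option maxHeartbeats 4000000 in
/-- The base case in the standard eigenframe. -/
theorem four_two_frame {t : Cfsg.SU 2 F q} {z : F} (ht : mat t = !![z, 0; 0, z⁻¹]) (hz0 : z ≠ 0) (hz1 : z ≠ 1)
    {c c' : F} (hc0 : c ≠ 0) (hc1 : c ≠ 1) (hc'0 : c' ≠ 0) (hc'1 : c' ≠ 1)
    (a b : Cfsg.SU 3 F q →* Cfsg.SU 4 F q) (ha : Function.Injective a) (hb : Function.Injective b)
    (hagree : ∀ x, a (e1 hF x) = b (e0 hF x)) (hcomm : ∀ x y, Commute (a (e0 hF x)) (b (e1 hF y)))
    (h1 : mat (a (e0 hF t)) = diagonal ![c, c * c, 1, 1]) (h2 : mat (a (e1 hF t)) = diagonal ![1, c, c * c, 1])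
    (h3 : mat (b (e1 hF t)) = diagonal ![1, c' * c' * c, c' * c' * (c * c), c' * c'])
    (A3 : ∀ x, mat (a x) *ᵥ ev1 3 = ev1 3) (B0 : ∀ x, mat (b x) *ᵥ ev1 0 = ev1 0) :
    ∃ th : Cfsg.SU 4 F q ≃* Cfsg.SU 4 F q, (∀ w, a w = th (emb hF 3 4 0 (by omega) w)) ∧
      ∀ w, b w = th (emb hF 3 4 1 (by omega) w) := by
  classical
  have c3 := cube_one hF hq hc0
  have c2 : c * c ≠ 1 := fun e => hc1 (sq_one hF hq e)
  have cc : c * c ≠ c := fun e => hc1 (mul_left_cancel₀ hc0 (by rw [e, mul_one]))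
  -- the middle of the outer blocks
  have colZ : ∀ (g z : Cfsg.SU 4 F q) (d : Fin 4 → F), mat z = diagonal d → Commute g z → ∀ j,
      (∀ i, i ≠ j → d j ≠ d i) → ∀ i, i ≠ j → mat g i j = 0 :=
    fun g z d hd hgz j hj i hi => entry_zero hd hd hgz.eq (hj i hi)
  have hcc' : c' = c := by
    rcases cases_four hF hq hc0 hc1 c' with h | h | h | h
    · exact absurd h hc'0
    · exact absurd h hc'1
    · exact h
    exfalso
    subst h
    have e : c * c * (c * c) = c := by linear_combination c * c3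
    rw [e] at h3
    rw [show c * (c * c) = 1 by linear_combination c3] at h3
    have hcol : ∀ x, ∀ i, i ≠ 1 → mat ((a.comp (e0 hF)) x) i 1 = 0 := fun x =>
      colZ _ _ _ h3 (hcomm x t) 1 fun i hi => by
        fin_cases i <;> simp [c2, cc] at hi ⊢
    have := congrFun (fix_line hF hq (a.comp (e0 hF)) 1 hcol t) 1
    rw [MonoidHom.comp_apply, h1, mulVec_diagonal] at this
    simp [ev1] at this
    exact c2 this
  subst hcc'
  have h3' : mat (b (e1 hF t)) = diagonal ![1, 1, c', c' * c'] := by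
    rw [h3]
    refine congrArg _ (funext fun i => ?_)
    fin_cases i <;> simp [c3] <;> linear_combination c' * c3
  -- the supports of the blocks
  have A2 : ∀ x, mat (a (e0 hF x)) *ᵥ ev1 2 = ev1 2 := fun x =>
    fix_line hF hq (a.comp (e0 hF)) 2 (fun x => colZ _ _ _ h3' (hcomm x t) 2 fun i hi => by
      fin_cases i <;> simp [hc1, cc.symm] at hi ⊢) x
  have B1 : ∀ x, mat (b (e1 hF x)) *ᵥ ev1 1 = ev1 1 := fun x =>
    fix_line hF hq (b.comp (e1 hF)) 1 (fun x => colZ _ _ _ h1 (hcomm t x).symm 1 fun i hi => by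
      fin_cases i <;> simp [c2, cc] at hi ⊢) x
  have M0 : ∀ x, mat (a (e1 hF x)) *ᵥ ev1 0 = ev1 0 := fun x => by rw [hagree]; exact B0 _
  -- lifts
  obtain ⟨A, hAi, hA⟩ := exists_lift hF (show 0 + 3 ≤ 4 by omega) a ha (fun x j hj => by
    obtain rfl : j = 3 := by revert hj; revert j; decide
    exact A3 x)
  obtain ⟨B, hBi, hB⟩ := exists_lift hF (show 1 + 3 ≤ 4 by omega) b hb (fun x j hj => by
    obtain rfl : j = 0 := by revert hj; revert j; decide
    exact B0 x)
  obtain ⟨α, hαi, hα⟩ := exists_lift hF (show 0 + 2 ≤ 3 by omega) (A.comp (e0 hF))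
    (hAi.comp (emb_injective hF _)) (fun x j hj => by
      obtain rfl : j = 2 := by revert hj; revert j; decide
      have := (emb_ev hF (show 0 + 3 ≤ 4 by omega) (A (e0 hF x)) 2 2 1).1
      simp only [one_smul] at this
      exact this (by rw [hA]; exact A2 x))
  obtain ⟨β', hβi, hβ'⟩ := exists_lift hF (show 1 + 2 ≤ 3 by omega) (A.comp (e1 hF))
    (hAi.comp (emb_injective hF _)) (fun x j hj => by
      obtain rfl : j = 0 := by revert hj; revert j; decide
      have := (emb_ev hF (show 0 + 3 ≤ 4 by omega) (A (e1 hF x)) 0 0 1).1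
      simp only [one_smul] at this
      exact this (by rw [hA]; exact M0 x))
  obtain ⟨γ, hγi, hγ⟩ := exists_lift hF (show 1 + 2 ≤ 3 by omega) (B.comp (e1 hF))
    (hBi.comp (emb_injective hF _)) (fun x j hj => by
      obtain rfl : j = 0 := by revert hj; revert j; decide
      have := (emb_ev hF (show 1 + 3 ≤ 4 by omega) (B (e1 hF x)) 0 0 1).1
      simp only [one_smul] at this
      exact this (by rw [hB]; exact B1 x))
  have eα : ∀ x, a (e0 hF x) = emb hF 2 4 0 (by omega) (α x) := fun x => by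
    rw [← hA, ← show emb hF 2 3 0 (by omega) (α x) = A (e0 hF x) from hα x, emb_emb]
  have eβ : ∀ x, a (e1 hF x) = emb hF 2 4 1 (by omega) (β' x) := fun x => by
    rw [← hA, ← show emb hF 2 3 1 (by omega) (β' x) = A (e1 hF x) from hβ' x, emb_emb]
  have eγ : ∀ x, b (e1 hF x) = emb hF 2 4 2 (by omega) (γ x) := fun x => by
    rw [← hB, ← show emb hF 2 3 1 (by omega) (γ x) = B (e1 hF x) from hγ x, emb_emb]
  have hBe0 : ∀ x, B (e0 hF x) = e0 hF (β' x) := fun x => emb_injective hF (show 1 + 3 ≤ 4 by omega) (by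
    rw [hB, ← hagree, eβ, e0, emb_emb])
  -- the torus is preserved
  have pres : ∀ (f : Cfsg.SU 2 F q →* Cfsg.SU 2 F q), Diag2 (f t) → mat (f t) 0 0 ≠ mat (f t) 1 1 →
      ∀ g, Diag2 g → Diag2 (f g) := by
    intro f hft hne g hg
    have hcc : f g * f t = f t * f g := by
      rw [← map_mul, ← map_mul, diag2_commute hg (show Diag2 t by constructor <;> simp [ht])]
    refine diag2_of_zero hF (Or.inl ?_)
    have e := congrFun (congrFun (congrArg mat hcc) 0) 1
    simp [mat_mul, Matrix.mul_apply, Fin.sum_univ_two, hft.1, hft.2] at e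
    by_contra h
    exact hne (mul_left_cancel₀ h (by linear_combination -e))
  have tval : ∀ (i : ℕ) (hi : i + 2 ≤ 4) (y : Cfsg.SU 2 F q) (d : Fin 4 → F),
      mat (emb hF 2 4 i hi y) = diagonal d →
      Diag2 y ∧ mat y 0 0 = d (win 2 4 i hi 0) ∧ mat y 1 1 = d (win 2 4 i hi 1) := fun i hi y d e => by
    refine ⟨⟨?_, ?_⟩, ?_, ?_⟩ <;> rw [← emb_entry hF hi, e]
    · exact Matrix.diagonal_apply_ne _ (by simp [Fin.ext_iff])
    · exact Matrix.diagonal_apply_ne _ (by simp [Fin.ext_iff])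
    · exact Matrix.diagonal_apply_eq _ _
    · exact Matrix.diagonal_apply_eq _ _
  obtain ⟨d0, α0, α1⟩ := tval 0 (by omega) (α t) _ (by rw [← eα]; exact h1)
  obtain ⟨d1, β0, β1⟩ := tval 1 (by omega) (β' t) _ (by rw [← eβ]; exact h2)
  obtain ⟨d2, γ0, γ1⟩ := tval 2 (by omega) (γ t) _ (by rw [← eγ]; exact h3')
  rw [show win 2 4 0 (by omega) (0 : Fin 2) = (0 : Fin 4) from Fin.ext rfl] at α0
  rw [show win 2 4 0 (by omega) (1 : Fin 2) = (1 : Fin 4) from Fin.ext rfl] at α1
  rw [show win 2 4 1 (by omega) (0 : Fin 2) = (1 : Fin 4) from Fin.ext rfl] at β0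
  rw [show win 2 4 1 (by omega) (1 : Fin 2) = (2 : Fin 4) from Fin.ext rfl] at β1
  rw [show win 2 4 2 (by omega) (0 : Fin 2) = (2 : Fin 4) from Fin.ext rfl] at γ0
  rw [show win 2 4 2 (by omega) (1 : Fin 2) = (3 : Fin 4) from Fin.ext rfl] at γ1
  simp only [Matrix.cons_val] at α0 α1 β0 β1 γ0 γ1
  have bij : ∀ (f : Cfsg.SU 2 F q →* Cfsg.SU 2 F q), Function.Injective f → Function.Bijective f :=
    fun f hf => Finite.injective_iff_bijective.1 hf
  obtain ⟨ζ, τ, hζ, fα⟩ := su2_aut_torus hF (by omega) (MulEquiv.ofBijective α (bij α hαi))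
    (pres α d0 (by rw [α0, α1]; exact cc.symm))
  obtain ⟨η, τ', hη, fβ⟩ := su2_aut_torus hF (by omega) (MulEquiv.ofBijective β' (bij β' hβi))
    (pres β' d1 (by rw [β0, β1]; exact cc.symm))
  obtain ⟨θ, τ'', hθ, fγ⟩ := su2_aut_torus hF (by omega) (MulEquiv.ofBijective γ (bij γ hγi))
    (pres γ d2 (by rw [γ0, γ1]; exact cc.symm))
  simp only [MulEquiv.ofBijective_apply] at fα fβ fγ
  -- the field automorphisms agree
  have tz : ∀ (f : Cfsg.SU 2 F q →* Cfsg.SU 2 F q) (d : F) (s : F ≃+* F),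
      (∀ x i j, mat (f x) i j = ![1, d] i * s (mat x i j) * (![1, d] j)⁻¹) → mat (f t) 0 0 = s z :=
    fun f d s hf => by rw [hf, ht]; simp
  obtain rfl : τ = τ' := auto_eq_two hF hq hz0 hz1 (by rw [← tz α ζ τ fα, ← tz β' η τ' fβ, α0, β0])
  obtain rfl : τ = τ'' := auto_eq_two hF hq hz0 hz1 (by rw [← tz α ζ τ fα, ← tz γ θ τ'' fγ, α0, γ0])
  have hζ0 : ζ ≠ 0 := fun e => by simp [e] at hζ
  have hη0 : η ≠ 0 := fun e => by simp [e] at hη
  have hθ0 : θ ≠ 0 := fun e => by simp [e] at hθ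
  -- the automorphism
  obtain ⟨d, hd⟩ : ∃ d : Fin 4 → F, d = ![1, ζ, ζ * η, ζ * η * θ] := ⟨_, rfl⟩
  have hd0 : ∀ j, d j ≠ 0 := fun j => by fin_cases j <;> simp [hd, hζ0, hη0, hθ0]
  have hdn : ∀ j, d j * frob hF (d j) = 1 := fun j => by
    rw [frob_two hF hq, ← mul_assoc]; exact cube_one hF hq (hd0 j)
  obtain ⟨T, hT⟩ := exists_twist hF d hdn τ
  obtain ⟨TA, hTA⟩ := exists_twist hF (d ∘ win 3 4 0 (by omega)) (fun j => hdn _) τ
  obtain ⟨TB, hTB⟩ := exists_twist hF (d ∘ win 3 4 1 (by omega)) (fun j => hdn _) τ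
  have i00 : win 3 4 0 (by omega) (0 : Fin 3) = (0 : Fin 4) := Fin.ext rfl
  have i01 : win 3 4 0 (by omega) (1 : Fin 3) = (1 : Fin 4) := Fin.ext rfl
  have i02 : win 3 4 0 (by omega) (2 : Fin 3) = (2 : Fin 4) := Fin.ext rfl
  have i10 : win 3 4 1 (by omega) (0 : Fin 3) = (1 : Fin 4) := Fin.ext rfl
  have i11 : win 3 4 1 (by omega) (1 : Fin 3) = (2 : Fin 4) := Fin.ext rfl
  have i12 : win 3 4 1 (by omega) (2 : Fin 3) = (3 : Fin 4) := Fin.ext rfl
  have w00 : win 2 3 0 (by omega) (0 : Fin 2) = (0 : Fin 3) := Fin.ext rfl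
  have w01 : win 2 3 0 (by omega) (1 : Fin 2) = (1 : Fin 3) := Fin.ext rfl
  have w10 : win 2 3 1 (by omega) (0 : Fin 2) = (1 : Fin 3) := Fin.ext rfl
  have w11 : win 2 3 1 (by omega) (1 : Fin 2) = (2 : Fin 3) := Fin.ext rfl
  have hda : ∀ j, (d ∘ win 3 4 0 (by omega)) j ≠ 0 := fun j => hd0 _
  have hdb : ∀ j, (d ∘ win 3 4 1 (by omega)) j ≠ 0 := fun j => hd0 _
  have A0' : ∀ x, TA (e0 hF x) = A (e0 hF x) := fun x =>
    (twist_emb hF (y := α x) _ hda hTA fun r s => by
      rw [fα]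
      fin_cases r <;> fin_cases s <;> simp [w00, w01, i00, i01, hd]).trans (hα x)
  have A1' : ∀ x, TA (e1 hF x) = A (e1 hF x) := fun x =>
    (twist_emb hF (y := β' x) _ hda hTA fun r s => by
      rw [fβ]
      fin_cases r <;> fin_cases s <;> simp [w10, w11, i01, i02, hd] <;> field_simp).trans (hβ' x)
  have B0' : ∀ x, TB (e0 hF x) = B (e0 hF x) := fun x =>
    (twist_emb hF (y := β' x) _ hdb hTB fun r s => by
      rw [fβ]
      fin_cases r <;> fin_cases s <;> simp [w00, w01, i10, i11, hd] <;> field_simp).trans (hBe0 x).symm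
  have B1' : ∀ x, TB (e1 hF x) = B (e1 hF x) := fun x =>
    (twist_emb hF (y := γ x) _ hdb hTB fun r s => by
      rw [fγ]
      fin_cases r <;> fin_cases s <;> simp [w10, w11, i11, i12, hd] <;> field_simp).trans (hγ x)
  have rA : ∀ w, TA.symm (A w) = w := rigid hF hq (TA.symm.toMonoidHom.comp A)
    (fun x => by rw [MonoidHom.comp_apply, ← A0']; exact TA.symm_apply_apply _)
    fun x => by rw [MonoidHom.comp_apply, ← A1']; exact TA.symm_apply_apply _
  have rB : ∀ w, TB.symm (B w) = w := rigid hF hq (TB.symm.toMonoidHom.comp B)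
    (fun x => by rw [MonoidHom.comp_apply, ← B0']; exact TB.symm_apply_apply _)
    fun x => by rw [MonoidHom.comp_apply, ← B1']; exact TB.symm_apply_apply _
  refine ⟨T, fun w => ?_, fun w => ?_⟩
  · rw [← hA, show A w = TA w by rw [← TA.apply_symm_apply (A w), rA]]
    exact (twist_emb hF _ hd0 hT fun r s => by rw [hTA]; rfl).symm
  · rw [← hB, show B w = TB w by rw [← TB.apply_symm_apply (B w), rB]]
    exact (twist_emb hF _ hd0 hT fun r s => by rw [hTB]; rfl).symm

set_option maxHeartbeats 1000000 in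
/-- The base case in an arbitrary eigenframe. -/
theorem four_two_diag {t : Cfsg.SU 2 F q} {z : F} (ht : mat t = !![z, 0; 0, z⁻¹]) (hz0 : z ≠ 0) (hz1 : z ≠ 1)
    (a b : Cfsg.SU 3 F q →* Cfsg.SU 4 F q) (ha : Function.Injective a) (hb : Function.Injective b)
    (hagree : ∀ x, a (e1 hF x) = b (e0 hF x)) (hcomm : ∀ x y, Commute (a (e0 hF x)) (b (e1 hF y)))
    {d1 d2 d3 : Fin 4 → F} (h1 : mat (a (e0 hF t)) = diagonal d1) (h2 : mat (a (e1 hF t)) = diagonal d2)
    (h3 : mat (b (e1 hF t)) = diagonal d3) :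
    ∃ th : Cfsg.SU 4 F q ≃* Cfsg.SU 4 F q, (∀ w, a w = th (emb hF 3 4 0 (by omega) w)) ∧
      ∀ w, b w = th (emb hF 3 4 1 (by omega) w) := by
  classical
  have z3 := cube_one hF hq hz0
  obtain ⟨W, hW⟩ := exists_swap hF hq
  -- the generator of the centre
  obtain ⟨Z, hZdef⟩ : ∃ Z, Z = e0 hF t * e1 hF t * e1 hF t := ⟨_, rfl⟩
  have hZ : mat Z = diagonal fun _ => z := by
    rw [hZdef, mat_mul, mat_mul, mat_e0, mat_e1, ht]
    ext i j
    fin_cases i <;> fin_cases j <;> simp [Matrix.mul_apply, Fin.sum_univ_three, hz0] <;> field_simp <;>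
      linear_combination -z3
  have hZc : ∀ x, Z * x = x * Z := fun x => (diag_commute (g := x) hZ).eq.symm
  have hZ1 : Z ≠ 1 := fun e => by
    have := congrFun (congrFun (congrArg mat e) 0) 0
    rw [hZ, mat_one] at this
    exact hz1 (by simpa using this)
  have ne_one : ∀ (f : Cfsg.SU 3 F q →* Cfsg.SU 4 F q), Function.Injective f → f Z ≠ 1 :=
    fun f hf e => hZ1 (hf (by rw [e, map_one]))
  have hza : mat (a Z) = diagonal fun j => d1 j * d2 j * d2 j := by
    rw [hZdef, map_mul, map_mul, mat_mul, mat_mul, h1, h2, Matrix.diagonal_mul_diagonal, Matrix.diagonal_mul_diagonal]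
  have hzb : mat (b Z) = diagonal fun j => d2 j * d3 j * d3 j := by
    rw [hZdef, map_mul, map_mul, mat_mul, mat_mul, ← hagree, h2, h3, Matrix.diagonal_mul_diagonal,
      Matrix.diagonal_mul_diagonal]
  obtain ⟨p, c, hc0, hc1, hp, hpo, hprc, hpfix⟩ := central_pattern hF hq a Z hZc hza (ne_one a ha)
  obtain ⟨p', c', hc'0, hc'1, hp', hpo', hprc', hpfix'⟩ := central_pattern hF hq b Z hZc hzb (ne_one b hb)
  -- the values on the fixed lines
  have val : ∀ (g : Cfsg.SU 4 F q) (d : Fin 4 → F) (j : Fin 4), mat g = diagonal d → mat g *ᵥ ev1 j = ev1 j →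
      d j = 1 := fun g d j hg e => by
    have := congrFun e j
    rw [hg, mulVec_diagonal] at this
    simpa [ev1] using this
  have v2 : d2 p = 1 := val _ _ p h2 (hpfix _)
  have v2' : d2 p' = 1 := val _ _ p' h2 (by rw [hagree]; exact hpfix' _)
  have v1 : d1 p = 1 := val _ _ p h1 (hpfix _)
  have v3' : d3 p' = 1 := val _ _ p' h3 (hpfix' _)
  have nz : ∀ (g : Cfsg.SU 4 F q) (d : Fin 4 → F), mat g = diagonal d → ∀ j, d j ≠ 0 := fun g d hg j e => by
    have hd : (mat g).det = 1 := g.1.2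
    rw [hg, Matrix.det_diagonal, Finset.prod_eq_zero (Finset.mem_univ j) e] at hd
    exact zero_ne_one hd
  have cube : ∀ (g : Cfsg.SU 4 F q) (d : Fin 4 → F), mat g = diagonal d → ∀ j, d j * d j * d j = 1 :=
    fun g d hg j => cube_one hF hq (nz g d hg j)
  have r1 : ∀ j, j ≠ p → d1 j = c * d2 j := fun j hj => by
    linear_combination d2 j * hpo j hj - d1 j * cube _ _ h2 j
  have r3 : ∀ j, j ≠ p' → d3 j = c' * c' * d2 j := fun j hj => by
    have hc3 := cube_one hF hq hc'0
    linear_combination c' * c' * d2 j * 0 - d3 j * hc3 + c' * c' * d3 j * (-hpo' j hj) + (c' * c' * d2 j) * cube _ _ h3 j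
  -- the middle values are distinct off the first fixed line
  have dist : ∀ i j, i ≠ p → j ≠ p → i ≠ j → d2 i ≠ d2 j := by
    obtain ⟨v, hv⟩ : ∃ v : Fin 3 → F, v = fun i => d2 (p.succAbove i) := ⟨_, rfl⟩
    have hprod : v 0 * v 1 * v 2 = 1 := by
      have hd : (mat (a (e1 hF t))).det = 1 := (a (e1 hF t)).1.2
      rw [h2, Matrix.det_diagonal, Fin.prod_univ_succAbove _ p, v2, one_mul, Fin.prod_univ_three] at hd
      rw [hv]; exact hd
    have hv3 : ∀ i, v i * v i * v i = 1 := fun i => by rw [hv]; exact cube _ _ h2 _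
    have hnot : ¬ (v 0 = v 1 ∧ v 1 = v 2) := by
      rintro ⟨e01, e12⟩
      have hall : ∀ j, j ≠ p → d2 j = v 0 := fun j hj => by
        obtain ⟨i, rfl⟩ := Fin.exists_succAbove_eq hj
        fin_cases i
        · rw [hv]; rfl
        · rw [e01, hv]; rfl
        · rw [e01, e12, hv]; rfl
      have hcomm' : a (e0 hF W) * a (e1 hF t) = a (e1 hF t) * a (e0 hF W) := su_eq_of_mat (by
        rw [mat_mul, mat_mul, h2]
        ext i j
        rw [Matrix.mul_diagonal, Matrix.diagonal_mul]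
        by_cases hi : i = p <;> by_cases hj : j = p
        · subst hi hj; rw [mul_comm]
        · subst hi; rw [(hprc _ j hj).2, zero_mul, mul_zero]
        · subst hj; rw [(hprc _ i hi).1, zero_mul, mul_zero]
        · rw [hall i hi, hall j hj, mul_comm])
      rw [← map_mul, ← map_mul] at hcomm'
      have e := congrFun (congrFun (congrArg mat (ha hcomm')) 0) 1
      simp only [mat_mul, mat_e0, mat_e1, hW, ht] at e
      simp [Matrix.mul_apply, Fin.sum_univ_three] at e
      exact hz1 e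
    have hinj : ∀ i j : Fin 3, i ≠ j → v i ≠ v j := by
      have a0 := hv3 0
      have a1 := hv3 1
      have a2 := hv3 2
      have k01 : v 0 ≠ v 1 := fun e => hnot ⟨e, by
        linear_combination v 1 * (-hprod) + v 2 * (v 0 * v 1 * v 1 - 1) * 0 + v 2 * a1 + (v 1 * v 1 * v 2) * e⟩
      have k12 : v 1 ≠ v 2 := fun e => hnot ⟨by
        linear_combination v 1 * hprod - v 0 * a1 + (v 0 * v 1 * v 1) * e, e⟩
      have k02 : v 0 ≠ v 2 := fun e => by
        have e10 : v 1 = v 0 := by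
          linear_combination v 0 * hprod - v 1 * a0 + (v 0 * v 0 * v 1) * e
        exact hnot ⟨e10.symm, e10.trans e⟩
      intro i j hij
      fin_cases i <;> fin_cases j
      all_goals first
        | exact absurd rfl hij
        | exact k01
        | exact k01.symm
        | exact k12
        | exact k12.symm
        | exact k02
        | exact k02.symm
    intro i j hi hj hij
    obtain ⟨i', rfl⟩ := Fin.exists_succAbove_eq hi
    obtain ⟨j', rfl⟩ := Fin.exists_succAbove_eq hj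
    have := hinj i' j' fun e => hij (e ▸ rfl)
    rw [hv] at this
    exact this
  -- the two fixed lines differ
  have hpp : p' ≠ p := by
    rintro rfl
    have hdiag : ∀ i j, i ≠ j → mat (a (e0 hF W)) i j = 0 := fun i j hij => by
      by_cases hi : i = p'
      · rw [hi]; exact (hprc _ j (hi ▸ hij.symm)).2
      by_cases hj : j = p'
      · rw [hj]; exact (hprc _ i hi).1
      refine entry_zero h3 h3 (hcomm W t).eq ?_
      rw [r3 i hi, r3 j hj]
      exact fun e => dist j i hj hi hij.symm (mul_left_cancel₀ (mul_ne_zero hc'0 hc'0) e)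
    have hcomm' : a (e0 hF W) * a (e0 hF t) = a (e0 hF t) * a (e0 hF W) := su_eq_of_mat (by
      rw [mat_mul, mat_mul, h1]
      ext i j
      rw [Matrix.mul_diagonal, Matrix.diagonal_mul]
      by_cases hij : i = j
      · subst hij; rw [mul_comm]
      · rw [hdiag i j hij, zero_mul, mul_zero])
    rw [← map_mul a, ← map_mul a] at hcomm'
    have e := congrFun (congrFun (congrArg mat (ha hcomm')) 0) 1
    simp only [mat_mul, mat_e0, hW, ht] at e
    simp [Matrix.mul_apply, Fin.sum_univ_three] at e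
    have hzz : z * z = 1 := by
      field_simp at e
      linear_combination -e
    exact hz1 (sq_one hF hq hzz)
  -- the other two lines
  have surj : ∀ r, r ≠ 0 → ∃ j, j ≠ p ∧ d2 j = r := by
    have hcard : Fintype.card {j : Fin 4 // j ≠ p} = Fintype.card {r : F // r ≠ 0} := by
      simp [Fintype.card_subtype_compl, hF, hq]
    have hbij := (Fintype.bijective_iff_injective_and_card
      (fun j : {j : Fin 4 // j ≠ p} => (⟨d2 j.1, nz _ _ h2 _⟩ : {r : F // r ≠ 0}))).2 ⟨fun i j e => by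
        by_contra h
        exact dist i.1 j.1 i.2 j.2 (fun e' => h (Subtype.ext e')) (congrArg Subtype.val e), hcard⟩
    intro r hr
    obtain ⟨⟨j, hj⟩, e⟩ := hbij.2 ⟨r, hr⟩
    exact ⟨j, hj, congrArg Subtype.val e⟩
  have hcc : c * c ≠ 1 := fun e => hc1 (sq_one hF hq e)
  obtain ⟨i1, hi1, e1v⟩ := surj c hc0
  obtain ⟨i2, hi2, e2v⟩ := surj (c * c) (mul_ne_zero hc0 hc0)
  have hi1' : i1 ≠ p' := fun e => hc1 (by rw [← e1v, e, v2'])
  have hi2' : i2 ≠ p' := fun e => hcc (by rw [← e2v, e, v2'])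
  have h12 : i1 ≠ i2 := fun e => hc1 (mul_left_cancel₀ hc0 (by rw [mul_one, ← e2v, ← e, e1v]))
  obtain ⟨π, hπ⟩ : ∃ π : Perm (Fin 4), ∀ j, π j = ![p', i1, i2, p] j :=
    ⟨Equiv.ofBijective ![p', i1, i2, p] (Finite.injective_iff_bijective.1 fun i j e => by
      fin_cases i <;> fin_cases j <;>
        first
        | rfl
        | (exfalso; simp [hi1', hi1'.symm, hi2', hi2'.symm, h12, h12.symm, hpp, hpp.symm, hi1, hi1.symm, hi2,
            hi2.symm] at e)), fun j => rfl⟩
  -- conjugate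
  set P := perm2 hF hq 4 π with hP
  set k : Cfsg.SU 4 F q ≃* Cfsg.SU 4 F q := MulAut.conj P⁻¹ with hk
  have hkz : ∀ x, k x = P⁻¹ * x * P := fun x => by rw [hk, MulAut.conj_apply, inv_inv]
  have hPj : ∀ j, mat P *ᵥ (ev1 j : Fin 4 → F) = ev1 (π j) := fun j => perm2_ev1 hF hq π j
  have hPi : ∀ j, mat P⁻¹ *ᵥ (ev1 (π j) : Fin 4 → F) = ev1 j := fun j => by rw [← hPj, mat_inv_mulVec']
  have cdiag : ∀ (x : Cfsg.SU 4 F q) (d e : Fin 4 → F), mat x = diagonal d → (∀ j, d (π j) = e j) →
      mat (k x) = diagonal e := by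
    intro x d e hx he
    ext i j
    have h' : mat (k x) *ᵥ (ev1 j : Fin 4 → F) = e j • ev1 j := by
      rw [hkz, mat_mul, mat_mul, ← mulVec_mulVec, ← mulVec_mulVec, hPj, hx,
        show diagonal d *ᵥ (ev1 (π j) : Fin 4 → F) = d (π j) • ev1 (π j) by
          funext l
          rw [mulVec_diagonal]
          by_cases h : l = π j
          · subst h; simp [ev1]
          · simp [ev1, h],
        mulVec_smul, hPi, he]
    have := congrFun h' i
    rw [mulVec_ev1_eq] at this
    refine this.trans ?_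
    by_cases h : i = j
    · subst h; simp [ev1]
    · simp [ev1, h]
  have cfix : ∀ (x : Cfsg.SU 4 F q) (j : Fin 4), mat x *ᵥ ev1 (π j) = ev1 (π j) →
      mat (k x) *ᵥ ev1 j = ev1 j := fun x j hx => by
    rw [hkz, mat_mul, mat_mul, ← mulVec_mulVec, ← mulVec_mulVec, hPj, hx, hPi]
  have π0 : π 0 = p' := hπ 0
  have π1 : π 1 = i1 := hπ 1
  have π2 : π 2 = i2 := hπ 2
  have π3 : π 3 = p := hπ 3
  obtain ⟨th, tha, thb⟩ := four_two_frame hF hq ht hz0 hz1 hc0 hc1 hc'0 hc'1 (k.toMonoidHom.comp a)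
    (k.toMonoidHom.comp b) (k.injective.comp ha) (k.injective.comp hb) (fun x => congrArg k (hagree x))
    (fun x y => (hcomm x y).map k.toMonoidHom)
    (cdiag _ d1 _ h1 fun j => by
      fin_cases j
      · show d1 (π 0) = c; rw [π0, r1 _ hpp, v2', mul_one]
      · show d1 (π 1) = c * c; rw [π1, r1 _ hi1, e1v]
      · show d1 (π 2) = 1; rw [π2, r1 _ hi2, e2v, ← mul_assoc, cube_one hF hq hc0]
      · show d1 (π 3) = 1; rw [π3, v1])
    (cdiag _ d2 _ h2 fun j => by
      fin_cases j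
      · show d2 (π 0) = 1; rw [π0, v2']
      · show d2 (π 1) = c; rw [π1, e1v]
      · show d2 (π 2) = c * c; rw [π2, e2v]
      · show d2 (π 3) = 1; rw [π3, v2])
    (cdiag _ d3 _ h3 fun j => by
      fin_cases j
      · show d3 (π 0) = 1; rw [π0, v3']
      · show d3 (π 1) = c' * c' * c; rw [π1, r3 _ hi1', e1v]
      · show d3 (π 2) = c' * c' * (c * c); rw [π2, r3 _ hi2', e2v]
      · show d3 (π 3) = c' * c'; rw [π3, r3 _ hpp.symm, v2, mul_one])
    (fun x => cfix _ 3 (by rw [π3]; exact hpfix x)) (fun x => cfix _ 0 (by rw [π0]; exact hpfix' x))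
  exact ⟨th.trans k.symm, fun w => (k.symm_apply_apply _).symm.trans (congrArg k.symm (tha w)),
    fun w => (k.symm_apply_apply _).symm.trans (congrArg k.symm (thb w))⟩

/-- The central kernels vanish. -/
theorem ker_trivial {z : F} (hz0 : z ≠ 0) (hz1 : z ≠ 1) {Z : Cfsg.SU 3 F q} (hZ : mat Z = diagonal fun _ => z)
    (f : Cfsg.SU 3 F q →* Cfsg.SU 4 F q) (hker : f.ker ≤ Subgroup.center (Cfsg.SU 3 F q)) (hne : f Z ≠ 1) :
    Function.Injective f := by
  refine (MonoidHom.ker_eq_bot_iff _).1 ((Subgroup.eq_bot_iff_forall _).2 fun x hx => ?_)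
  obtain ⟨c, hc⟩ := center_scalar hF le_rfl (hker hx)
  rw [Matrix.scalar_apply] at hc
  have hc0 : c ≠ 0 := fun e => by
    have hd : (mat x).det = 1 := x.1.2
    rw [hc, e, Matrix.det_diagonal] at hd
    simp at hd
  rw [MonoidHom.mem_ker] at hx
  rcases cases_four hF hq hz0 hz1 c with h | h | h | h
  · exact absurd h hc0
  · exact su_eq_of_mat (by rw [hc, h, mat_one, Matrix.diagonal_one])
  · exfalso
    exact hne (by rw [show Z = x from su_eq_of_mat (by rw [hZ, hc, h]), hx])
  · exfalso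
    refine hne ?_
    rw [show Z = x * x from su_eq_of_mat (by
      rw [hZ, mat_mul, hc, h, Matrix.diagonal_mul_diagonal]
      exact congrArg _ (funext fun _ => by linear_combination (-z) * cube_one hF hq hz0)), map_mul, hx, one_mul]

/-- Two compatible windows of `SU₄(2)` are standard up to an automorphism. -/
theorem four_two : FramedFourTwo hF := by
  classical
  intro a b hka hkb hagree hcomm
  obtain ⟨t, z, ht, hz0, hz1, -⟩ := exists_diag hF (show 2 ≤ q by omega)
  have z3 := cube_one hF hq hz0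
  have hzz : z * z ≠ 1 := fun e => hz1 (sq_one hF hq e)
  obtain ⟨W, hW⟩ := exists_swap hF hq
  obtain ⟨Z, hZdef⟩ : ∃ Z, Z = e0 hF t * e1 hF t * e1 hF t := ⟨_, rfl⟩
  have hZ : mat Z = diagonal fun _ => z := by
    rw [hZdef, mat_mul, mat_mul, mat_e0, mat_e1, ht]
    ext i j
    fin_cases i <;> fin_cases j <;> simp [Matrix.mul_apply, Fin.sum_univ_three, hz0] <;> field_simp <;>
      linear_combination -z3
  have tt : t * t * t = 1 := su_eq_of_mat (by
    rw [mat_mul, mat_mul, ht, mat_one]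
    ext i j
    fin_cases i <;> fin_cases j <;> simp [Matrix.mul_apply, Fin.sum_univ_two, hz0, z3] <;> field_simp <;>
      linear_combination -z3)
  have cube : ∀ (h : Cfsg.SU 2 F q →* Cfsg.SU 4 F q), h t * h t * h t = 1 := fun h => by
    rw [← map_mul, ← map_mul, tt, map_one]
  have same : ∀ (f : Cfsg.SU 3 F q →* Cfsg.SU 4 F q), f Z = 1 → f (e0 hF t) = f (e1 hF t) := fun f e => by
    have h := cube (f.comp (e1 hF))
    simp only [MonoidHom.comp_apply] at h
    rw [hZdef, map_mul, map_mul, mul_assoc] at e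
    rw [mul_assoc] at h
    exact mul_right_cancel (e.trans h.symm)
  have noncomm : ∀ (f : Cfsg.SU 3 F q →* Cfsg.SU 4 F q), f.ker ≤ Subgroup.center (Cfsg.SU 3 F q) →
      ∀ x y, Commute (f x) (f y) → ∃ c : F, mat (x * y) = c • mat (y * x) := by
    intro f hf x y h
    obtain ⟨c, hc⟩ := center_scalar hF le_rfl (hf (show (y * x)⁻¹ * (x * y) ∈ f.ker by
      rw [MonoidHom.mem_ker, map_mul, map_inv, map_mul, map_mul, h.eq, inv_mul_cancel]))
    refine ⟨c, ?_⟩
    have := congrArg mat (mul_inv_cancel_left (y * x) (x * y))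
    rw [mat_mul, hc, Matrix.scalar_apply, ← Matrix.smul_one_eq_diagonal, mul_smul_comm, mul_one] at this
    exact this.symm
  have ha : Function.Injective a := ker_trivial hF hq hz0 hz1 hZ a hka fun e => by
    have h1 : Commute (b (e0 hF t)) (b (e1 hF W)) := by
      rw [← hagree, ← same a e]; exact hcomm t W
    obtain ⟨c, hc⟩ := noncomm b hkb _ _ h1
    have e00 := congrFun (congrFun hc 0) 0
    have e12 := congrFun (congrFun hc 1) 2
    simp only [mat_mul, mat_e0, mat_e1, hW, ht] at e00 e12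
    simp [Matrix.mul_apply, Fin.sum_univ_three] at e00 e12
    have hc1 : c = 1 := mul_right_cancel₀ hz0 (by linear_combination -e00)
    rw [hc1] at e12
    field_simp at e12
    exact hz1 (by linear_combination -e12)
  have hb : Function.Injective b := ker_trivial hF hq hz0 hz1 hZ b hkb fun e => by
    have h1 : Commute (a (e1 hF t)) (a (e0 hF W)) := by
      rw [hagree, same b e]; exact (hcomm W t).symm
    obtain ⟨c, hc⟩ := noncomm a hka _ _ h1
    have e22 := congrFun (congrFun hc 2) 2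
    have e01 := congrFun (congrFun hc 0) 1
    simp only [mat_mul, mat_e0, mat_e1, hW, ht] at e22 e01
    simp [Matrix.mul_apply, Fin.sum_univ_three] at e22 e01
    have hc1 : c = 1 := mul_right_cancel₀ (inv_ne_zero hz0) (by linear_combination -e22)
    rw [hc1, one_mul] at e01
    exact hz1 e01.symm
  -- the common eigenframe
  have hcm : Commute (a (e0 hF t)) (a (e1 hF t)) := by
    refine Commute.map (su_eq_of_mat ?_) a
    rw [mat_mul, mat_mul, mat_e0, mat_e1, ht]
    ext i j
    fin_cases i <;> fin_cases j <;> simp [Matrix.mul_apply, Fin.sum_univ_three, mul_comm]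
  have hcm' : Commute (a (e1 hF t)) (b (e1 hF t)) := by
    rw [hagree]
    refine Commute.map (su_eq_of_mat ?_) b
    rw [mat_mul, mat_mul, mat_e0, mat_e1, ht]
    ext i j
    fin_cases i <;> fin_cases j <;> simp [Matrix.mul_apply, Fin.sum_univ_three, mul_comm]
  obtain ⟨g, hg⟩ := exists_frame_two hF hq ![a (e0 hF t), a (e1 hF t), b (e1 hF t)]
    (fun l => by fin_cases l; exacts [cube (a.comp (e0 hF)), cube (a.comp (e1 hF)), cube (b.comp (e1 hF))])
    (fun l m => by
      fin_cases l <;> fin_cases m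
      exacts [Commute.refl _, hcm, hcomm t t, hcm.symm, Commute.refl _, hcm', (hcomm t t).symm, hcm'.symm,
        Commute.refl _])
  obtain ⟨d1, h1⟩ := hg 0
  obtain ⟨d2, h2⟩ := hg 1
  obtain ⟨d3, h3⟩ := hg 2
  set c : Cfsg.SU 4 F q ≃* Cfsg.SU 4 F q := MulAut.conj g⁻¹ with hc
  have hcz : ∀ x, c x = g⁻¹ * x * g := fun x => by rw [hc, MulAut.conj_apply, inv_inv]
  obtain ⟨th, hta, htb⟩ := four_two_diag hF hq ht hz0 hz1 (c.toMonoidHom.comp a) (c.toMonoidHom.comp b)
    (c.injective.comp ha) (c.injective.comp hb) (fun x => congrArg c (hagree x))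
    (fun x y => (hcomm x y).map c.toMonoidHom) (d1 := d1) (d2 := d2) (d3 := d3)
    (show mat (c (a (e0 hF t))) = _ by rw [hcz]; exact h1)
    (show mat (c (a (e1 hF t))) = _ by rw [hcz]; exact h2)
    (show mat (c (b (e1 hF t))) = _ by rw [hcz]; exact h3)
  exact ⟨th.trans c.symm, fun w => (c.symm_apply_apply _).symm.trans (congrArg c.symm (hta w)),
    fun w => (c.symm_apply_apply _).symm.trans (congrArg c.symm (htb w))⟩

end CfsgLib.Phan
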