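import Cfsg.Agent.Lib.Phan.PermTwo
import Cfsg.Agent.Lib.Phan.FourThree

/-!
Elementary facts on unitary groups over the field with four elements, and the rigidity of the two blocks of
`SU₃(2)` (for Phan's theorem, `q = 2`).
-/

set_option autoImplicit false
set_option linter.unusedSectionVars false

namespace CfsgLib.Phan

open Equiv Matrix CfsgLib.UnitaryTransvection CfsgLib.UnitarySimple CfsgLib.SUCover CfsgLib.SUShort

variable {F : Type*} [Field F] [Fintype F] {q : ℕ} (hF : Fintype.card F = q ^ 2) (hq : q = 2)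

include hF hq

theorem cube_one {x : F} (hx : x ≠ 0) : x * x * x = 1 := by
  have := FiniteField.pow_card_sub_one_eq_one x hx
  rwa [hF, hq, show 2 ^ 2 - 1 = 3 by norm_num, pow_succ, sq] at this

theorem frob_two (x : F) : frob hF x = x * x := by rw [frob_apply, hq, sq]

theorem frob_inv {x : F} (hx : x ≠ 0) : frob hF x = x⁻¹ := by
  rw [frob_two hF hq]
  exact eq_inv_of_mul_eq_one_left (cube_one hF hq hx)

theorem sq_one {x : F} (h : x * x = 1) : x = 1 := by
  have h2 := two_eq_zero hF hq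
  have : (x - 1) * (x - 1) = 0 := by linear_combination h + (1 - x) * h2
  exact sub_eq_zero.1 (mul_self_eq_zero.1 this)

theorem root_sum {c : F} (hc : c ≠ 0) (hc1 : c ≠ 1) : c * c + c + 1 = 0 :=
  (mul_eq_zero.1 (show (c - 1) * (c * c + c + 1) = 0 by linear_combination cube_one hF hq hc)).resolve_left
    (sub_ne_zero.2 hc1)

theorem cases_four {c : F} (hc : c ≠ 0) (hc1 : c ≠ 1) (x : F) : x = 0 ∨ x = 1 ∨ x = c ∨ x = c * c := by
  classical
  have h2 : c * c ≠ 1 := fun e => hc1 (sq_one hF hq e)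
  have h3 : c * c ≠ c := fun e => hc1 (mul_left_cancel₀ hc (by rw [e, mul_one]))
  have hcard : ({0, 1, c, c * c} : Finset F).card = Fintype.card F := by
    rw [hF, hq]
    simp [hc, hc.symm, hc1.symm, h2.symm, h3.symm]
  have := Finset.eq_univ_of_card _ hcard
  have hx : x ∈ ({0, 1, c, c * c} : Finset F) := this ▸ Finset.mem_univ x
  simpa using hx

theorem auto_eq_two {τ τ' : F ≃+* F} {c : F} (hc : c ≠ 0) (hc1 : c ≠ 1) (h : τ c = τ' c) : τ = τ' :=
  RingEquiv.ext fun x => by
    rcases cases_four hF hq hc hc1 x with rfl | rfl | rfl | rfl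
    · simp
    · simp
    · exact h
    · rw [map_mul, map_mul, h]

/-- A homomorphism of `SU n` to the field is trivial. -/
theorem hom_trivial {n : ℕ} (χ : Cfsg.SU n F q →* F) (x : Cfsg.SU n F q) : χ x = 1 := by
  obtain ⟨p, hp⟩ := CharP.exists F
  haveI := hp
  obtain ⟨hpp, j, hj, hpj⟩ := q_pow (F := F) hF (p := p)
  obtain rfl : p = 2 := (Nat.prime_dvd_prime_iff_eq hpp Nat.prime_two).1
    (by rw [← hq, hpj]; exact dvd_pow_self p (by omega))
  have hker : (⊤ : Subgroup (Cfsg.SU n F q)) ≤ χ.ker := by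
    refine (pgen_SU hF (p := 2) n).trans ((Subgroup.closure_le _).2 ?_)
    rintro y ⟨-, k, hk⟩
    have h : ∀ k : ℕ, ∀ r : F, r ^ (2 ^ k) = 1 → r = 1 := fun k => by
      induction k with
      | zero => intro r hr; simpa using hr
      | succ k ih =>
        intro r hr
        rw [pow_succ, pow_mul] at hr
        exact ih r (sq_one hF hq (by rw [← sq]; exact hr))
    exact MonoidHom.mem_ker.2 (h k _ (by rw [← map_pow, hk, map_one]))
  exact MonoidHom.mem_ker.1 (hker (Subgroup.mem_top x))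

/-- A stable coordinate line of the image of `SU k` is fixed pointwise. -/
theorem fix_line {k n : ℕ} (f : Cfsg.SU k F q →* Cfsg.SU n F q) (j : Fin n)
    (hj : ∀ x, ∀ i, i ≠ j → mat (f x) i j = 0) (x : Cfsg.SU k F q) : mat (f x) *ᵥ ev1 j = ev1 j := by
  let χ : Cfsg.SU k F q →* F :=
    { toFun := fun x => mat (f x) j j
      map_one' := by simp [mat_one]
      map_mul' := fun x y => by
        show mat (f (x * y)) j j = mat (f x) j j * mat (f y) j j
        have e : mat (f (x * y)) *ᵥ ev1 j = (mat (f x) j j * mat (f y) j j) • ev1 j := by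
          rw [map_mul, mat_mul, ← mulVec_mulVec, col_single (hj y), mulVec_smul, col_single (hj x), smul_smul,
            mul_comm]
        have := congrFun e j
        rw [mulVec_ev1_eq] at this
        simpa [ev1] using this }
  have h1 : mat (f x) j j = 1 := hom_trivial hF hq χ x
  rw [col_single (hj x), h1, one_smul]

/-- The diagonal elements of `SU 2`. -/
theorem exists_dg2 {z : F} (hz : z ≠ 0) : ∃ g : Cfsg.SU 2 F q, mat g = !![z, 0; 0, z⁻¹] := by
  refine ⟨toSU hF _ ?_ (by simp [Matrix.det_fin_two, hz]), rfl⟩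
  unfold UMat
  ext i j
  fin_cases i <;> fin_cases j <;> simp [Matrix.mul_apply, Fin.sum_univ_two, frob_inv hF hq hz, hz]

theorem exists_swap : ∃ g : Cfsg.SU 2 F q, mat g = !![0, 1; 1, 0] := by
  refine ⟨toSU hF _ ?_ (by simp [Matrix.det_fin_two_of]; linear_combination -two_eq_zero hF hq), rfl⟩
  unfold UMat
  ext i j
  fin_cases i <;> fin_cases j <;> simp [Matrix.mul_apply, Fin.sum_univ_two]

/-- An endomorphism of `SU₃(2)` fixing both blocks pointwise is the identity. -/
theorem rigid (A : Cfsg.SU 3 F q →* Cfsg.SU 3 F q) (h0 : ∀ x, A (e0 hF x) = e0 hF x)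
    (h1 : ∀ x, A (e1 hF x) = e1 hF x) (g : Cfsg.SU 3 F q) : A g = g := by
  classical
  have h2 := two_eq_zero hF hq
  obtain ⟨W, hW⟩ := exists_swap hF hq
  let H : Subgroup (Cfsg.SU 3 F q) := A.eqLocus (MonoidHom.id _)
  have H0 : ∀ x, e0 hF x ∈ H := h0
  have H1 : ∀ x, e1 hF x ∈ H := h1
  -- diagonal elements
  have hdiag : ∀ r s : F, r ≠ 0 → s ≠ 0 → ∃ D ∈ H, mat D = diagonal ![r, s, (r * s)⁻¹] := by
    intro r s hr hs
    obtain ⟨u, hu⟩ := exists_dg2 hF hq hr
    obtain ⟨v, hv⟩ := exists_dg2 hF hq (mul_ne_zero hr hs)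
    refine ⟨e0 hF u * e1 hF v, mul_mem (H0 u) (H1 v), ?_⟩
    rw [mat_mul, mat_e0, mat_e1, hu, hv]
    ext i j
    fin_cases i <;> fin_cases j <;> simp [Matrix.mul_apply, Fin.sum_univ_three, hr]
  obtain ⟨P, hPdef⟩ : ∃ P, P = e0 hF W * e1 hF W := ⟨_, rfl⟩
  have hPH : P ∈ H := hPdef ▸ mul_mem (H0 W) (H1 W)
  have hP : mat P = !![0, 0, 1; 1, 0, 0; 0, 1, 0] := by
    rw [hPdef, mat_mul, mat_e0, mat_e1, hW]
    ext i j
    fin_cases i <;> fin_cases j <;> simp [Matrix.mul_apply, Fin.sum_univ_three]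
  obtain ⟨t, w, -, hw0, hw1, -⟩ := exists_diag hF (show 2 ≤ q by omega)
  have hw3 := cube_one hF hq hw0
  have hws := root_sum hF hq hw0 hw1
  have hw2 : w * w ≠ 1 := fun e => hw1 (sq_one hF hq e)
  have hwi : w⁻¹ = w * w := inv_eq_of_mul_eq_one_right (by linear_combination hw3)
  -- the elements moving the first coordinate line off the axes
  have hx : ∀ r s : F, r ≠ 0 → s ≠ 0 → ∃ x ∈ H, mat x *ᵥ ev1 0 = ![1, r, s] := by
    intro r s hr hs
    let d : Fin 3 → F := ![1, r, s]
    let X : Matrix (Fin 3) (Fin 3) F := !![1, 1, 1; 1, w, w * w; 1, w * w, w]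
    have hd : ∀ i, d i ≠ 0 := fun i => by fin_cases i <;> simp [d, hr, hs]
    have hd3 : ∀ i, d i ^ (q + 1) = 1 := fun i => by
      rw [hq, pow_succ, sq]; exact cube_one hF hq (hd i)
    have hd3' : ∀ i, (d i)⁻¹ ^ (q + 1) = 1 := fun i => by rw [inv_pow, hd3, inv_one]
    have hX : UMat hF X := by
      unfold UMat
      ext i j
      fin_cases i <;> fin_cases j <;>
        simp [X, Matrix.mul_apply, Fin.sum_univ_three, frob_two hF hq] <;> grind
    have hXdet : X.det = 1 := by
      simp [X, Matrix.det_fin_three]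
      grind
    obtain ⟨x, hx⟩ : ∃ x : Cfsg.SU 3 F q, mat x = diagonal d * X * diagonal fun i => (d i)⁻¹ :=
      ⟨toSU hF _ (umat_mul hF (umat_mul hF (umat_diagonal hF hd3) hX) (umat_diagonal hF hd3')) (by
        rw [Matrix.det_mul, Matrix.det_mul, hXdet, mul_one, ← Matrix.det_mul, Matrix.diagonal_mul_diagonal]
        simp [hd]), rfl⟩
    have hxe : ∀ i j, mat x i j = d i * X i j * (d j)⁻¹ := fun i j => by
      rw [hx, Matrix.mul_diagonal, Matrix.diagonal_mul]
    obtain ⟨D, hD, hDm⟩ := hdiag r (s / r) hr (div_ne_zero hs hr)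
    obtain ⟨E, hE, hEm⟩ := hdiag 1 w one_ne_zero hw0
    have hM : P * D ∈ H := mul_mem hPH hD
    have R1 : x * (P * D) = E * x := su_eq_of_mat (by
      rw [mat_mul, mat_mul, mat_mul, hP, hDm, hEm]
      ext i j
      simp only [Matrix.mul_apply, Fin.sum_univ_three, hxe, Matrix.diagonal]
      fin_cases i <;> fin_cases j <;> simp [d, X, hwi] <;> field_simp <;> grind)
    have R2 : P * D * x * E = x := su_eq_of_mat (by
      rw [mat_mul, mat_mul, mat_mul, hP, hDm, hEm]
      ext i j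
      simp only [Matrix.mul_apply, Fin.sum_univ_three, hxe, Matrix.diagonal]
      fin_cases i <;> fin_cases j <;> simp [d, X, hwi] <;> field_simp <;> grind)
    obtain ⟨v, hv⟩ := exists_dg2 hF hq (div_ne_zero hr hs)
    have R3 : x * x = e1 hF v * e1 hF W := su_eq_of_mat (by
      rw [mat_mul, mat_mul, mat_e1, mat_e1, hv, hW]
      ext i j
      fin_cases i <;> fin_cases j <;>
        simp [Matrix.mul_apply, Fin.sum_univ_three, hxe, d, X] <;> field_simp <;> grind)
    obtain ⟨y, hy⟩ : ∃ y, y = x⁻¹ * A x := ⟨_, rfl⟩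
    have eM : A (P * D) = P * D := hM
    have eE : A E = E := hE
    have A1 : A x * (P * D) = E * A x := by
      conv_lhs => rw [← eM, ← map_mul, R1, map_mul, eE]
    have A2 : P * D * A x * E = A x := by
      conv_lhs => rw [← eM, ← eE, ← map_mul, ← map_mul, R2]
    have cE : y * E = E * y := by
      have e1 : A x * E = (P * D)⁻¹ * A x := eq_inv_mul_of_mul_eq (by rw [← mul_assoc]; exact A2)
      have e2 : x * E = (P * D)⁻¹ * x := eq_inv_mul_of_mul_eq (by rw [← mul_assoc]; exact R2)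
      have e3 : E * x⁻¹ = x⁻¹ * (P * D)⁻¹ := by
        rw [show E = x⁻¹ * (x * E) by group, e2]; group
      rw [hy, mul_assoc, e1, ← mul_assoc, ← e3, mul_assoc]
    have cM : y * (P * D) = P * D * y := by
      have e3 : P * D * x⁻¹ = x⁻¹ * E := by
        rw [show P * D = x⁻¹ * (x * (P * D)) by group, R1]; group
      rw [hy, mul_assoc, A1, ← mul_assoc, ← e3, mul_assoc]
    have yoff : ∀ i j, i ≠ j → mat y i j = 0 := fun i j hij => by
      refine entry_zero hEm hEm cE ?_
      fin_cases i <;> fin_cases j <;> simp [hwi, hw1, hw1.symm, hw2, hw2.symm] at hij ⊢ <;> grind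
    obtain ⟨c, hc⟩ : ∃ c, mat y = diagonal fun _ => c := by
      have e := congrArg mat cM
      simp only [mat_mul, hP, hDm] at e
      have e10 := congrFun (congrFun e 1) 0
      have e21 := congrFun (congrFun e 2) 1
      simp only [Matrix.mul_apply, Fin.sum_univ_three, Matrix.diagonal] at e10 e21
      simp [yoff] at e10 e21
      refine ⟨mat y 0 0, Matrix.ext fun i j => ?_⟩
      by_cases hij : i = j
      · subst hij
        rw [Matrix.diagonal_apply_eq]
        have a1 : mat y 1 1 = mat y 0 0 := by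
          refine mul_right_cancel₀ hr ?_
          linear_combination e10
        have a2 : mat y 2 2 = mat y 1 1 := by
          refine mul_right_cancel₀ (div_ne_zero hs hr) ?_
          linear_combination e21
        fin_cases i
        · rfl
        · exact a1
        · exact a2.trans a1
      · rw [Matrix.diagonal_apply_ne _ hij, yoff i j hij]
    have hyc : Commute x y := diag_commute hc
    have hAx : A x = x * y := by rw [hy, mul_inv_cancel_left]
    have hxx : x * x ∈ H := by rw [R3]; exact mul_mem (H1 v) (H1 W)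
    have hxx' : A x * A x = x * x := by rw [← map_mul]; exact hxx
    rw [hAx, show x * y * (x * y) = x * x * (y * y) by
      rw [mul_assoc, ← mul_assoc y x, ← hyc.eq, mul_assoc x y y, ← mul_assoc x x]] at hxx'
    have hy2 : y * y = 1 := mul_left_cancel (hxx'.trans (mul_one _).symm)
    have hc2 : c * c = 1 := by
      have := congrFun (congrFun (congrArg mat hy2) 0) 0
      simpa [mat_mul, hc, mat_one] using this
    have hy1 : y = 1 := su_eq_of_mat (by rw [hc, sq_one hF hq hc2, mat_one, Matrix.diagonal_one])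
    refine ⟨x, show A x = x by rw [hAx, hy1, mul_one], ?_⟩
    rw [mulVec_ev1_eq]
    funext i
    rw [hxe]
    fin_cases i <;> simp [d, X]
  -- transitivity
  have htrans : ∀ v : Fin 3 → F, Cfsg.hermForm 3 F q v v = 1 → ∃ h ∈ H, mat h *ᵥ ev1 0 = v := by
    intro v hv
    have hn : ∀ r : F, r * r ^ q = if r = 0 then 0 else 1 := fun r => by
      split
      · next h => simp [h]
      · next h => rw [hq, sq, ← mul_assoc, cube_one hF hq h]
    simp only [Cfsg.hermForm, Fin.sum_univ_three, hn] at hv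
    have hcases : (v 0 ≠ 0 ∧ v 1 ≠ 0 ∧ v 2 ≠ 0) ∨ (v 0 ≠ 0 ∧ v 1 = 0 ∧ v 2 = 0) ∨
        (v 0 = 0 ∧ v 1 ≠ 0 ∧ v 2 = 0) ∨ (v 0 = 0 ∧ v 1 = 0 ∧ v 2 ≠ 0) := by
      by_cases a0 : v 0 = 0 <;> by_cases a1 : v 1 = 0 <;> by_cases a2 : v 2 = 0 <;>
        simp [a0, a1, a2] at hv ⊢ <;> grind
    have sc : ∀ r : F, r ≠ 0 → ∃ k ∈ H, mat k *ᵥ ev1 0 = r • (ev1 0 : Fin 3 → F) := fun r hr => by
      obtain ⟨u, hu⟩ := exists_dg2 hF hq hr
      refine ⟨e0 hF u, H0 u, ?_⟩
      rw [mulVec_ev1_eq]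
      funext i
      rw [mat_e0, hu]
      fin_cases i <;> simp [ev1]
    have mW0 : mat (e0 hF W) *ᵥ ev1 0 = (ev1 1 : Fin 3 → F) := by
      rw [mulVec_ev1_eq]
      funext i
      rw [mat_e0, hW]
      fin_cases i <;> simp [ev1]
    have mW1 : mat (e1 hF W) *ᵥ ev1 1 = (ev1 2 : Fin 3 → F) := by
      rw [mulVec_ev1_eq]
      funext i
      rw [mat_e1, hW]
      fin_cases i <;> simp [ev1]
    rcases hcases with ⟨a0, a1, a2⟩ | ⟨a0, a1, a2⟩ | ⟨a0, a1, a2⟩ | ⟨a0, a1, a2⟩
    · obtain ⟨x, hxH, hx'⟩ := hx (v 1 / v 0) (v 2 / v 0) (div_ne_zero a1 a0) (div_ne_zero a2 a0)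
      obtain ⟨k, hk, hk'⟩ := sc (v 0) a0
      refine ⟨x * k, mul_mem hxH hk, ?_⟩
      rw [mat_mul, ← mulVec_mulVec, hk', mulVec_smul, hx']
      funext i
      fin_cases i <;> simp [mul_div_cancel₀, a0]
    · obtain ⟨k, hk, hk'⟩ := sc (v 0) a0
      refine ⟨k, hk, hk'.trans ?_⟩
      funext i
      fin_cases i <;> simp [ev1, a1, a2]
    · obtain ⟨k, hk, hk'⟩ := sc (v 1) a1
      refine ⟨e0 hF W * k, mul_mem (H0 W) hk, ?_⟩
      rw [mat_mul, ← mulVec_mulVec, hk', mulVec_smul, mW0]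
      funext i
      fin_cases i <;> simp [ev1, a0, a2]
    · obtain ⟨k, hk, hk'⟩ := sc (v 2) a2
      refine ⟨e1 hF W * e0 hF W * k, mul_mem (mul_mem (H1 W) (H0 W)) hk, ?_⟩
      rw [mat_mul, ← mulVec_mulVec, hk', mulVec_smul, mat_mul, ← mulVec_mulVec, mW0, mW1]
      funext i
      fin_cases i <;> simp [ev1, a0, a1]
  obtain ⟨h, hH, hh⟩ := htrans (mat g *ᵥ ev1 0) (by rw [su_h, h_ev1_self hF])
  obtain ⟨y, hy⟩ := exists_emb hF (show 1 + 2 ≤ 3 by omega) (g := h⁻¹ * g) (fun j hj => by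
    obtain rfl : j = 0 := by revert hj; revert j; decide
    rw [mat_mul, ← mulVec_mulVec, ← hh, mat_inv_mulVec'])
  have : h⁻¹ * g ∈ H := by rw [← hy]; exact H1 y
  have hg : g ∈ H := by simpa using mul_mem hH this
  exact hg

end CfsgLib.Phan
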