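import Cfsg.Agent.Lib.Phan.FourTwoBase

/-!
Common eigenframes and the central patterns in `SU₄(2)` (for Phan's theorem, `q = 2`).
-/

set_option autoImplicit false
set_option linter.unusedSectionVars false

namespace CfsgLib.Phan

open Equiv Matrix CfsgLib.UnitaryTransvection CfsgLib.UnitarySimple CfsgLib.SUCover CfsgLib.SUShort

variable {F : Type*} [Field F] [Fintype F] {q : ℕ} (hF : Fintype.card F = q ^ 2) (hq : q = 2)

include hF hq

/-- A vector of norm one has an eigencomponent of norm one for an element of order three. -/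
theorem split_eigen {n : ℕ} (X : Cfsg.SU n F q) (hX : X * X * X = 1) (v : Fin n → F)
    (hv : Cfsg.hermForm n F q v v = 1) :
    ∃ (c : F) (u : Fin n → F), u = v + c • (mat X *ᵥ v) + (c * c) • (mat X *ᵥ (mat X *ᵥ v)) ∧ c ≠ 0 ∧
      Cfsg.hermForm n F q u u = 1 ∧ mat X *ᵥ u = (c * c) • u := by
  classical
  have h2 := two_eq_zero hF hq
  obtain ⟨t, w, -, hw0, hw1, -⟩ := exists_diag hF (show 2 ≤ q by omega)
  have hw3 := cube_one hF hq hw0
  have hws := root_sum hF hq hw0 hw1
  have hw2 : w * w ≠ 1 := fun e => hw1 (sq_one hF hq e)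
  obtain ⟨U, hU⟩ : ∃ U : F → (Fin n → F),
      U = fun c => v + c • (mat X *ᵥ v) + (c * c) • (mat X *ᵥ (mat X *ᵥ v)) := ⟨_, rfl⟩
  have hXXX : mat X *ᵥ (mat X *ᵥ (mat X *ᵥ v)) = v := by
    rw [mulVec_mulVec, mulVec_mulVec, ← mat_mul, ← mat_mul, hX, mat_one, one_mulVec]
  have heig : ∀ c : F, c ≠ 0 → mat X *ᵥ U c = (c * c) • U c := fun c hc => by
    have h3 := cube_one hF hq hc
    simp only [hU, mulVec_add, mulVec_smul, hXXX, smul_add, smul_smul]
    rw [h3, show c * c * (c * c) = c by linear_combination c * h3, one_smul]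
    abel
  have orth : ∀ c d : F, c ≠ 0 → d ≠ 0 → c ≠ d → Cfsg.hermForm n F q (U c) (U d) = 0 := by
    intro c d hc hd hcd
    have e := su_h X (U c) (U d)
    rw [heig c hc, heig d hd, h_smul_left, h_smul_right hF, frob_two hF hq] at e
    refine (mul_eq_zero.1 (show (c * c * (d * d * (d * d)) - 1) * Cfsg.hermForm n F q (U c) (U d) = 0 by
      linear_combination e)).resolve_left fun e' => hcd ?_
    have hd3 := cube_one hF hq hd
    have hc3 := cube_one hF hq hc
    linear_combination (-c) * (e') + (c * c * c - c) * 0 + (d * d * d * d) * hc3 + d * hd3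
  have hsum : v = U 1 + U w + U (w * w) := by
    funext i
    simp only [hU, Pi.add_apply, Pi.smul_apply, smul_eq_mul]
    linear_combination (-(v i)) * h2 - ((mat X *ᵥ v) i) * hws - ((mat X *ᵥ (mat X *ᵥ v)) i) * hws -
      (w * (mat X *ᵥ (mat X *ᵥ v)) i) * hw3
  have hS : Cfsg.hermForm n F q (U 1) (U 1) + Cfsg.hermForm n F q (U w) (U w) +
      Cfsg.hermForm n F q (U (w * w)) (U (w * w)) = 1 := by
    have a := mul_ne_zero hw0 hw0
    have b : w * w ≠ w := fun e => hw1 (mul_left_cancel₀ hw0 (by rw [e, mul_one]))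
    refine Eq.trans ?_ ((congrArg (fun x => Cfsg.hermForm n F q x x) hsum).symm.trans hv)
    simp only [h_add_left, h_add_right hF, orth 1 w one_ne_zero hw0 hw1.symm, orth w 1 hw0 one_ne_zero hw1,
      orth 1 _ one_ne_zero a hw2.symm, orth _ 1 a one_ne_zero hw2, orth w _ hw0 a b.symm, orth _ w a hw0 b,
      add_zero, zero_add]
  obtain ⟨c, hc, hne⟩ : ∃ c, c ≠ 0 ∧ Cfsg.hermForm n F q (U c) (U c) ≠ 0 := by
    by_contra hcon
    push Not at hcon
    rw [hcon 1 one_ne_zero, hcon w hw0, hcon _ (mul_ne_zero hw0 hw0)] at hS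
    simp at hS
  refine ⟨c, U c, by rw [hU], hc, ?_, heig c hc⟩
  have hs := h_swap hF (U c) (U c)
  rw [frob_two hF hq] at hs
  exact mul_left_cancel₀ hne (by rw [hs, mul_one])

/-- Commuting elements of order three have a common orthonormal eigenframe. -/
theorem exists_frame_two (X : Fin 3 → Cfsg.SU 4 F q) (hX : ∀ l, X l * X l * X l = 1)
    (hc : ∀ l m, Commute (X l) (X m)) :
    ∃ g : Cfsg.SU 4 F q, ∀ l, ∃ d : Fin 4 → F, mat (g⁻¹ * X l * g) = diagonal d := by
  classical
  let Eig : (Fin 4 → F) → Fin 3 → Prop := fun u l => ∃ μ : F, μ ≠ 0 ∧ mat (X l) *ᵥ u = μ • u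
  have hgo : ∀ k, k ≤ 4 → ∃ s : Fin k → Fin 4 → F,
      (∀ i j, Cfsg.hermForm 4 F q (s i) (s j) = if i = j then 1 else 0) ∧ ∀ i l, Eig (s i) l := by
    intro k
    induction k with
    | zero => exact fun _ => ⟨fun i => i.elim0, fun i => i.elim0, fun i => i.elim0⟩
    | succ k ih =>
      intro hk
      obtain ⟨s, hs, hse⟩ := ih (by omega)
      obtain ⟨v, hvp, hv⟩ := unit_perp hF s s (fun i => Submodule.subset_span ⟨i, rfl⟩) hs (show k < 4 by omega)
      have perp : ∀ l (x : Fin 4 → F) i, Cfsg.hermForm 4 F q x (s i) = 0 →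
          Cfsg.hermForm 4 F q (mat (X l) *ᵥ x) (s i) = 0 := fun l x i hx => by
        obtain ⟨μ, hμ, e⟩ := hse i l
        have e' := su_h (X l) x (s i)
        rw [e, h_smul_right hF, hx] at e'
        exact (mul_eq_zero.1 e').resolve_left ((map_ne_zero _).2 hμ)
      have refine1 : ∀ l (x : Fin 4 → F), Cfsg.hermForm 4 F q x x = 1 → (∀ i, Cfsg.hermForm 4 F q x (s i) = 0) →
          ∃ u, Cfsg.hermForm 4 F q u u = 1 ∧ (∀ i, Cfsg.hermForm 4 F q u (s i) = 0) ∧ Eig u l ∧
            ∀ m, Eig x m → Eig u m := by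
        intro l x hx hxp
        obtain ⟨c, u, hu, hc0, hu1, hue⟩ := split_eigen hF hq (X l) (hX l) x hx
        refine ⟨u, hu1, fun i => ?_, ⟨c * c, mul_ne_zero hc0 hc0, hue⟩, fun m hm => ?_⟩
        · rw [hu, h_add_left, h_add_left, h_smul_left, h_smul_left, hxp i, perp l x i (hxp i),
            perp l _ i (perp l x i (hxp i))]
          ring
        · obtain ⟨μ, hμ, e⟩ := hm
          refine ⟨μ, hμ, ?_⟩
          have cm : mat (X m) * mat (X l) = mat (X l) * mat (X m) := by rw [← mat_mul, ← mat_mul, (hc m l).eq]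
          have e1 : mat (X m) *ᵥ (mat (X l) *ᵥ x) = μ • (mat (X l) *ᵥ x) := by
            rw [mulVec_mulVec, cm, ← mulVec_mulVec, e, mulVec_smul]
          have e2 : mat (X m) *ᵥ (mat (X l) *ᵥ (mat (X l) *ᵥ x)) = μ • (mat (X l) *ᵥ (mat (X l) *ᵥ x)) := by
            rw [mulVec_mulVec, cm, ← mulVec_mulVec, e1, mulVec_smul]
          rw [hu, mulVec_add, mulVec_add, mulVec_smul, mulVec_smul, e, e1, e2]
          simp only [smul_add, smul_smul, mul_comm μ]
      obtain ⟨u1, a1, b1, c1, -⟩ := refine1 0 v hv hvp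
      obtain ⟨u2, a2, b2, c2, d2⟩ := refine1 1 u1 a1 b1
      obtain ⟨u3, a3, b3, c3, d3⟩ := refine1 2 u2 a2 b2
      refine ⟨Fin.cons u3 s, fun i j => ?_, fun i l => ?_⟩
      · induction i using Fin.cases with
        | zero =>
          induction j using Fin.cases with
          | zero => simpa using a3
          | succ j => simp [b3 j, (Fin.succ_ne_zero j).symm]
        | succ i =>
          induction j using Fin.cases with
          | zero =>
            simp only [Fin.cons_succ, Fin.cons_zero, Fin.succ_ne_zero, if_false]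
            rw [← h_swap hF, b3 i, map_zero]
          | succ j => simpa [Fin.succ_inj] using hs i j
      · induction i using Fin.cases with
        | zero =>
          simp only [Fin.cons_zero]
          fin_cases l
          · exact d3 0 (d2 0 c1)
          · exact d3 1 c2
          · exact c3
        | succ i => simpa using hse i l
  obtain ⟨s, hs, hse⟩ := hgo 4 le_rfl
  set M : Matrix (Fin 4) (Fin 4) F := Matrix.of fun i k => s k i with hM
  have hUM : UMat hF M := by
    unfold UMat
    ext k l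
    rw [Matrix.mul_apply, Matrix.one_apply]
    have e : ∑ i, Mᵀ k i * (M.map (frob hF)) i l = Cfsg.hermForm 4 F q (s k) (s l) := by
      simp only [hM, Cfsg.hermForm, Matrix.transpose_apply, Matrix.map_apply, Matrix.of_apply, frob_apply]
    rw [e, hs]
  have hdet0 : M.det ≠ 0 := fun e => by
    have := congrArg Matrix.det hUM
    rw [Matrix.det_mul, Matrix.det_transpose, e, zero_mul, Matrix.det_one] at this
    exact zero_ne_one this
  set D : Matrix (Fin 4) (Fin 4) F := diagonal ![M.det⁻¹, 1, 1, 1] with hD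
  have hU' : UMat hF (M * D) := umat_mul hF hUM (umat_diagonal hF fun i => by
    have : (![M.det⁻¹, 1, 1, 1] : Fin 4 → F) i ≠ 0 := by fin_cases i <;> simp [hdet0]
    rw [hq, pow_succ, sq]
    exact cube_one hF hq this)
  obtain ⟨g, hg⟩ : ∃ g : Cfsg.SU 4 F q, mat g = M * D := ⟨toSU hF (M * D) hU' (by
    rw [Matrix.det_mul, hD, Matrix.det_diagonal, Fin.prod_univ_four]
    simp [hdet0]), rfl⟩
  refine ⟨g, fun l => ?_⟩
  choose μ _ hμ using fun i => hse i l
  refine ⟨μ, ?_⟩
  have hcol : mat (X l) * M = M * diagonal μ := by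
    ext i k
    have := congrFun (hμ k) i
    simp only [Matrix.mulVec, dotProduct, Pi.smul_apply, smul_eq_mul] at this
    rw [Matrix.mul_diagonal, Matrix.mul_apply]
    simp only [hM, Matrix.of_apply, this]
    ring
  rw [mat_mul, mat_mul, hg, Matrix.mul_assoc, ← Matrix.mul_assoc (mat (X l)), hcol, Matrix.mul_assoc M,
    show diagonal μ * D = D * diagonal μ by
      rw [hD, Matrix.diagonal_mul_diagonal, Matrix.diagonal_mul_diagonal]; simp [mul_comm],
    ← Matrix.mul_assoc M, ← hg, ← Matrix.mul_assoc, ← mat_mul, inv_mul_cancel, mat_one, Matrix.one_mul]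

/-- The image of a central element of order three is a scalar on a hyperplane and fixes the orthogonal line. -/
theorem central_pattern {k : ℕ} (f : Cfsg.SU k F q →* Cfsg.SU 4 F q) (z : Cfsg.SU k F q) (hz : ∀ x, z * x = x * z)
    {ζ : Fin 4 → F} (hζ : mat (f z) = diagonal ζ) (hne : f z ≠ 1) :
    ∃ (p : Fin 4) (c : F), c ≠ 0 ∧ c ≠ 1 ∧ ζ p = 1 ∧ (∀ j, j ≠ p → ζ j = c) ∧
      (∀ x j, j ≠ p → mat (f x) j p = 0 ∧ mat (f x) p j = 0) ∧ ∀ x, mat (f x) *ᵥ ev1 p = ev1 p := by
  classical
  have hcomm : ∀ x, f x * f z = f z * f x := fun x => by rw [← map_mul, ← map_mul, hz]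
  have off : ∀ x i j, ζ j ≠ ζ i → mat (f x) i j = 0 := fun x i j h => entry_zero hζ hζ (hcomm x) h
  have hnz : ∀ i, ζ i ≠ 0 := fun i e => by
    have hd : (mat (f z)).det = 1 := (f z).1.2
    rw [hζ, Matrix.det_diagonal, Finset.prod_eq_zero (Finset.mem_univ i) e] at hd
    exact zero_ne_one hd
  -- the determinant on an eigenspace
  have key : ∀ c : F, c ^ (Finset.univ.filter fun j => ζ j = c).card = 1 := by
    intro c
    let B : Cfsg.SU k F q → Matrix {j // ζ j = c} {j // ζ j = c} F := fun x =>
      (mat (f x)).submatrix Subtype.val Subtype.val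
    have hB : ∀ x y, B (x * y) = B x * B y := fun x y => by
      ext i j
      simp only [B, Matrix.submatrix_apply, Matrix.mul_apply, map_mul, mat_mul]
      rw [← Finset.sum_subtype (s := Finset.univ.filter fun j => ζ j = c) (by simp)
        (fun l => mat (f x) i.1 l * mat (f y) l j.1)]
      exact (Finset.sum_filter_of_ne fun l _ hl => by
        by_contra h
        exact hl (by rw [off x i.1 l (by rw [i.2]; exact h), zero_mul])).symm
    let χ : Cfsg.SU k F q →* F :=
      { toFun := fun x => (B x).det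
        map_one' := by
          show (B 1).det = 1
          simp only [B, map_one, mat_one, Matrix.submatrix_one _ Subtype.val_injective, Matrix.det_one]
        map_mul' := fun x y => by show (B (x * y)).det = _; rw [hB, Matrix.det_mul] }
    have h1 : (B z).det = 1 := hom_trivial hF hq χ z
    have hBz : B z = diagonal fun _ => c := by
      simp only [B, hζ, Matrix.submatrix_diagonal _ _ Subtype.val_injective]
      exact congrArg _ (funext fun j => j.2)
    rw [hBz, Matrix.det_diagonal, Finset.prod_const, Finset.card_univ, Fintype.card_subtype] at h1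
    exact h1
  obtain ⟨i, hi⟩ : ∃ i, ζ i ≠ 1 := by
    by_contra hcon
    push Not at hcon
    exact hne (su_eq_of_mat (by rw [hζ, mat_one, ← Matrix.diagonal_one]; exact congrArg _ (funext hcon)))
  set c := ζ i with hcdef
  set S := Finset.univ.filter fun j => ζ j = c with hSdef
  have hS3 : S.card = 3 := by
    have h0 : 0 < S.card := Finset.card_pos.2 ⟨i, by simp [hSdef, hcdef]⟩
    have h4 : S.card ≤ 4 := (Finset.card_le_univ _).trans_eq (Fintype.card_fin 4)
    have hk := key c
    rw [← hSdef] at hk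
    have h3 := cube_one hF hq (hnz i)
    rw [← hcdef] at h3
    obtain h | h | h | h : S.card = 1 ∨ S.card = 2 ∨ S.card = 3 ∨ S.card = 4 := by omega
    · rw [h, pow_one] at hk; exact absurd hk hi
    · rw [h, sq] at hk; exact absurd (sq_one hF hq hk) hi
    · exact h
    · rw [h] at hk; exact absurd (show c = 1 by linear_combination hk - c * h3) hi
  obtain ⟨p, hp⟩ : ∃ p, Finset.univ.filter (fun j => ¬ ζ j = c) = {p} := by
    refine Finset.card_eq_one.1 ?_
    have := Finset.card_filter_add_card_filter_not (s := (Finset.univ : Finset (Fin 4))) fun j => ζ j = c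
    rw [← hSdef, hS3, Finset.card_univ, Fintype.card_fin] at this
    omega
  have hpc : ζ p ≠ c := by
    have : p ∈ Finset.univ.filter (fun j => ¬ ζ j = c) := hp ▸ Finset.mem_singleton_self p
    simpa using this
  have hoth : ∀ j, j ≠ p → ζ j = c := fun j hj => by
    by_contra h
    have : j ∈ Finset.univ.filter (fun j => ¬ ζ j = c) := by simp [h]
    rw [hp, Finset.mem_singleton] at this
    exact hj this
  have hp1 : ζ p = 1 := by
    have := key (ζ p)
    rwa [show (Finset.univ.filter fun j => ζ j = ζ p) = {p} by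
      ext j
      simp only [Finset.mem_filter, Finset.mem_univ, true_and, Finset.mem_singleton]
      refine ⟨fun h => ?_, fun h => h ▸ rfl⟩
      by_contra hj
      exact hpc (h ▸ hoth j hj), Finset.card_singleton, pow_one] at this
  have hrc : ∀ x j, j ≠ p → mat (f x) j p = 0 ∧ mat (f x) p j = 0 := fun x j hj =>
    ⟨off x j p (by rw [hoth j hj]; exact hpc), off x p j (by rw [hoth j hj]; exact hpc.symm)⟩
  exact ⟨p, c, hnz i, hi, hp1, hoth, hrc, fix_line hF hq f p fun x j hj => (hrc x j hj).1⟩

end CfsgLib.Phan
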