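import Cfsg.Agent.Lib.Phan.Basic

/-!
Two windows of `SU 3` with commuting outer blocks induce on the common block an automorphism
preserving the diagonal torus (the rigidity step of Phan's theorem).
-/

set_option autoImplicit false
set_option linter.unusedSectionVars false

namespace CfsgLib.Phan

open Matrix CfsgLib.UnitaryTransvection CfsgLib.UnitarySimple CfsgLib.SUCover CfsgLib.SUShort

variable {F : Type*} [Field F] [Fintype F] {q : ℕ} (hF : Fintype.card F = q ^ 2)

/-- The first block of `SU 3`. -/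
noncomputable def e0 : Cfsg.SU 2 F q →* Cfsg.SU 3 F q := emb hF 2 3 0 (by omega)

/-- The second block of `SU 3`. -/
noncomputable def e1 : Cfsg.SU 2 F q →* Cfsg.SU 3 F q := emb hF 2 3 1 (by omega)

/-- A diagonal element of `SU 2`. -/
def Diag2 (g : Cfsg.SU 2 F q) : Prop := mat g 0 1 = 0 ∧ mat g 1 0 = 0

theorem mat_e0 (x : Cfsg.SU 2 F q) :
    mat (e0 hF x) = !![mat x 0 0, mat x 0 1, 0; mat x 1 0, mat x 1 1, 0; 0, 0, 1] := by
  have h2 : (2 : Fin 3) ∉ Set.range (win 2 3 0 (by omega)) := by
    rintro ⟨a, ha⟩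
    have := congrArg Fin.val ha
    simp at this
    omega
  have r := embM_apply_row (F := F) (win 2 3 0 (by omega)) h2 (mat x)
  have c := fun j => embM_apply_col (F := F) (win 2 3 0 (by omega)) h2 (mat x) (x := j)
  have a00 := embM_apply (win 2 3 0 (by omega)) (mat x) 0 0
  have a01 := embM_apply (win 2 3 0 (by omega)) (mat x) 0 1
  have a10 := embM_apply (win 2 3 0 (by omega)) (mat x) 1 0
  have a11 := embM_apply (win 2 3 0 (by omega)) (mat x) 1 1
  ext i j
  rw [e0, emb, mat_embS]
  fin_cases i <;> fin_cases j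
  · exact a00
  · exact a01
  · exact (c 0).trans (Matrix.one_apply_ne (by decide))
  · exact a10
  · exact a11
  · exact (c 1).trans (Matrix.one_apply_ne (by decide))
  · exact (r 0).trans (Matrix.one_apply_ne (by decide))
  · exact (r 1).trans (Matrix.one_apply_ne (by decide))
  · exact (r 2).trans (Matrix.one_apply_eq _)

theorem mat_e1 (x : Cfsg.SU 2 F q) :
    mat (e1 hF x) = !![1, 0, 0; 0, mat x 0 0, mat x 0 1; 0, mat x 1 0, mat x 1 1] := by
  have h2 : (0 : Fin 3) ∉ Set.range (win 2 3 1 (by omega)) := by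
    rintro ⟨a, ha⟩
    have := congrArg Fin.val ha
    simp at this
  have r := embM_apply_row (F := F) (win 2 3 1 (by omega)) h2 (mat x)
  have c := fun j => embM_apply_col (F := F) (win 2 3 1 (by omega)) h2 (mat x) (x := j)
  have a00 := embM_apply (win 2 3 1 (by omega)) (mat x) 0 0
  have a01 := embM_apply (win 2 3 1 (by omega)) (mat x) 0 1
  have a10 := embM_apply (win 2 3 1 (by omega)) (mat x) 1 0
  have a11 := embM_apply (win 2 3 1 (by omega)) (mat x) 1 1
  ext i j
  rw [e1, emb, mat_embS]
  fin_cases i <;> fin_cases j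
  · exact (r 0).trans (Matrix.one_apply_eq _)
  · exact (r 1).trans (Matrix.one_apply_ne (by decide))
  · exact (r 2).trans (Matrix.one_apply_ne (by decide))
  · exact (c 1).trans (Matrix.one_apply_ne (by decide))
  · exact a00
  · exact a01
  · exact (c 2).trans (Matrix.one_apply_ne (by decide))
  · exact a10
  · exact a11

include hF in
/-- A unitary matrix of size two is diagonal as soon as it is triangular. -/
theorem diag2_of_zero {g : Cfsg.SU 2 F q} (h : mat g 0 1 = 0 ∨ mat g 1 0 = 0) : Diag2 g := by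
  have hu : (mat g)ᵀ * (mat g).map (frob hF) = 1 := umat_su hF g
  have e00 := congrFun (congrFun hu 0) 0
  have e01 := congrFun (congrFun hu 0) 1
  have e11 := congrFun (congrFun hu 1) 1
  simp only [Matrix.mul_apply, Fin.sum_univ_two, Matrix.transpose_apply, Matrix.map_apply, Matrix.one_apply,
    Fin.isValue, if_pos, if_neg (show (0 : Fin 2) ≠ 1 by decide)] at e00 e01 e11
  rcases h with h | h
  · refine ⟨h, ?_⟩
    rw [h, map_zero, mul_zero, zero_add, mul_eq_zero, map_eq_zero] at e01
    refine e01.resolve_right fun e => ?_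
    simp [h, e] at e11
  · refine ⟨?_, h⟩
    rw [h, zero_mul, add_zero, mul_eq_zero, map_eq_zero] at e01
    refine e01.resolve_left fun e => ?_
    simp [h, e] at e00

theorem diag2_commute {g k : Cfsg.SU 2 F q} (hg : Diag2 g) (hk : Diag2 k) : g * k = k * g := by
  refine su_eq_of_mat ?_
  rw [mat_mul, mat_mul]
  obtain ⟨g1, g2⟩ := hg
  obtain ⟨k1, k2⟩ := hk
  ext i j
  fin_cases i <;> fin_cases j <;> simp [Matrix.mul_apply, Fin.sum_univ_two, g1, g2, k1, k2, mul_comm]

include hF in
/-- A regular element of the diagonal torus. -/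
theorem exists_diag (hq : 2 ≤ q) : ∃ (t : Cfsg.SU 2 F q) (z : F), mat t = !![z, 0; 0, z⁻¹] ∧
    z ≠ 0 ∧ z ≠ 1 ∧ z * z ≠ 1 := by
  obtain ⟨z, hz⟩ := UnitaryBasic.exists_zeta hF
  have hp : (z : F) ^ (q + 1) = 1 := by
    rw [← Units.val_pow_eq_pow_val, ← hz, pow_orderOf_eq_one, Units.val_one]
  have hzz : (z : F) * frob hF z = 1 := by rw [frob_apply, ← pow_succ']; exact hp
  have hz0 : (z : F) ≠ 0 := z.ne_zero
  have hsz : frob hF (z : F) = (z : F)⁻¹ := eq_inv_of_mul_eq_one_right hzz
  have hu : UMat hF (!![(z : F), 0; 0, (z : F)⁻¹] : Matrix (Fin 2) (Fin 2) F) := by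
    unfold UMat
    ext i j
    fin_cases i <;> fin_cases j <;> simp [Matrix.mul_apply, Fin.sum_univ_two, hsz, hz0]
  refine ⟨toSU hF _ hu (by simp [Matrix.det_fin_two, hz0]), z, rfl, hz0, fun e => ?_, fun e => ?_⟩
  · have : z = 1 := Units.ext e
    rw [this, orderOf_one] at hz
    omega
  · have h2 : z ^ 2 = 1 := Units.ext (by simpa [sq] using e)
    have := Nat.le_of_dvd (by omega) (orderOf_dvd_of_pow_eq_one h2)
    omega

/-- The transition automorphism of the common block preserves the diagonal torus. -/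
theorem transition_diag (hq : 2 ≤ q) {G : Type*} [Group G] (ψ φ : Cfsg.SU 3 F q →* G)
    (hφ : φ.ker ≤ Subgroup.center (Cfsg.SU 3 F q))
    (hc : ∀ x y : Cfsg.SU 2 F q, Commute (ψ (e0 hF x)) (φ (e1 hF y)))
    (α : Cfsg.SU 2 F q ≃* Cfsg.SU 2 F q) (hα : ∀ x, ψ (e1 hF x) = φ (e0 hF (α x)))
    (t : Cfsg.SU 2 F q) (ht : Diag2 t) : Diag2 (α t) := by
  classical
  obtain ⟨d, z, hd, hz0, hz1, hzz⟩ := exists_diag hF hq
  -- commuting with the far torus element forces a diagonal matrix
  have step : ∀ g : Cfsg.SU 2 F q, Commute (φ (e0 hF g)) (φ (e1 hF d)) → Diag2 g := by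
    intro g hg
    have hk : (e1 hF d * e0 hF g)⁻¹ * (e0 hF g * e1 hF d) ∈ φ.ker := by
      rw [MonoidHom.mem_ker, map_mul, map_inv, map_mul, map_mul, hg.eq, inv_mul_cancel]
    obtain ⟨c, hc'⟩ := center_scalar hF le_rfl (hφ hk)
    have e : mat (e0 hF g) * mat (e1 hF d) = c • (mat (e1 hF d) * mat (e0 hF g)) := by
      have := congrArg mat (mul_inv_cancel_left (e1 hF d * e0 hF g) (e0 hF g * e1 hF d))
      rw [mat_mul, hc', mat_mul, mat_mul, Matrix.scalar_apply, ← Matrix.smul_one_eq_diagonal, mul_smul_comm,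
        mul_one] at this
      exact this.symm
    rw [mat_e0, mat_e1, hd] at e
    have e22 := congrFun (congrFun e 2) 2
    have e01 := congrFun (congrFun e 0) 1
    simp [Matrix.mul_apply, Fin.sum_univ_three] at e22 e01
    have hc1 : c = 1 := by
      field_simp at e22
      exact e22.symm
    refine diag2_of_zero hF (Or.inl ?_)
    rw [hc1, one_mul] at e01
    by_contra hb
    exact hz1 ((mul_eq_left₀ hb).1 e01)
  -- every preimage of a diagonal element is diagonal
  have pre : ∀ g, Diag2 (α g) → Diag2 g := by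
    intro g hg
    have hmem : e0 hF d * e1 hF g * (e0 hF d)⁻¹ ∈ (Supp (wset 2 3 1) : Subgroup (Cfsg.SU 3 F q)) := by
      have hfix : ∀ x : Cfsg.SU 2 F q, mat (e1 hF x) *ᵥ (ev1 0 : Fin 3 → F) = ev1 0 := fun x =>
        emb_fix hF _ x (by decide)
      have hd0 : mat (e0 hF d) *ᵥ (ev1 0 : Fin 3 → F) = z • ev1 0 := by
        funext i
        rw [ev1, Matrix.mulVec_single_one, mat_e0, hd]
        fin_cases i <;> simp
      have hd0' : mat (e0 hF d)⁻¹ *ᵥ (ev1 0 : Fin 3 → F) = z⁻¹ • ev1 0 := by
        have := congrArg (fun v => z⁻¹ • (mat (e0 hF d)⁻¹ *ᵥ v)) hd0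
        simp only [mat_inv_mulVec', mulVec_smul, smul_smul, inv_mul_cancel₀ hz0, one_smul] at this
        exact this.symm
      intro j hj
      obtain rfl : j = 0 := by fin_cases j <;> first | rfl | exact absurd (by decide) hj
      rw [mat_mul, mat_mul, ← mulVec_mulVec, ← mulVec_mulVec, hd0', mulVec_smul, hfix, mulVec_smul, hd0, smul_smul,
        inv_mul_cancel₀ hz0, one_smul]
    obtain ⟨g', hg'⟩ := exists_emb hF (show 1 + 2 ≤ 3 by omega) hmem
    change e1 hF g' = _ at hg'
    -- the conjugate is again a preimage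
    have hdiag : Diag2 (α g') := by
      refine step _ ?_
      rw [← hα, hg', map_mul, map_mul, map_inv, hα]
      have h1 : Commute (φ (e0 hF (α g))) (φ (e1 hF d)) := by
        refine Commute.map (su_eq_of_mat ?_) φ
        rw [mat_mul, mat_mul, mat_e0, mat_e1, hd]
        obtain ⟨a1, a2⟩ := hg
        ext i j
        fin_cases i <;> fin_cases j <;> simp [Matrix.mul_apply, Fin.sum_univ_three, a1, a2, mul_comm]
      exact ((hc d d).mul_left h1).mul_left (hc d d).inv_left
    have hcomm : g * g' = g' * g := α.injective (by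
      rw [map_mul, map_mul]; exact diag2_commute hg hdiag)
    have hconj : mat (e1 hF g') * mat (e0 hF d) = mat (e0 hF d) * mat (e1 hF g) := by
      rw [← mat_mul, ← mat_mul, hg', inv_mul_cancel_right]
    rw [mat_e1, mat_e0, mat_e1, hd] at hconj
    have c12 := congrFun (congrFun hconj 1) 2
    have c21 := congrFun (congrFun hconj 2) 1
    simp [Matrix.mul_apply, Fin.sum_univ_three] at c12 c21
    have e00 := congrFun (congrFun (congrArg mat hcomm) 0) 0
    simp [mat_mul, Matrix.mul_apply, Fin.sum_univ_two] at e00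
    have c21' : mat g' 1 0 = mat g 1 0 * z := by
      rw [← c21, inv_mul_cancel_right₀ hz0]
    rw [c12, c21'] at e00
    have hbc : mat g 0 1 * mat g 1 0 * (z * z - 1) = 0 := by
      field_simp at e00
      linear_combination e00
    rcases mul_eq_zero.1 hbc with h | h
    · exact diag2_of_zero hF (mul_eq_zero.1 h)
    · exact absurd (sub_eq_zero.1 h) hzz
  -- finiteness
  let S := {g : Cfsg.SU 2 F q // Diag2 g}
  let f : S → S := fun g => ⟨α.symm g.1, pre _ (by rw [α.apply_symm_apply]; exact g.2)⟩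
  have hf : Function.Injective f := fun a b e => Subtype.ext (α.symm.injective (congrArg Subtype.val e))
  obtain ⟨⟨s, hs⟩, e⟩ := (Finite.injective_iff_surjective.1 hf) ⟨t, ht⟩
  have : α.symm s = t := congrArg Subtype.val e
  rw [← this, α.apply_symm_apply]
  exact hs

end CfsgLib.Phan
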