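import Cfsg.Agent.Lib.Phan.PermTwo
import Cfsg.Agent.Lib.Phan.Torus
import Cfsg.Agent.Lib.Phan.Chain
import Cfsg.Agent.Lib.SUShort.Glue

/-!
The amalgam of `SU 4`-windows over the field with four elements (for Phan's theorem, `q = 2`).
-/

set_option autoImplicit false
set_option linter.unusedSectionVars false

namespace CfsgLib.Phan

open Equiv Matrix CfsgLib.UnitaryTransvection CfsgLib.UnitarySimple CfsgLib.SUCover CfsgLib.SUShort

/-- The adjacent transposition inside a pair, in the small windows. -/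
theorem swap_facts :
    (∀ a : Fin 2, swap (0 : Fin 3) 1 (win 2 3 0 (by decide) a) = win 2 3 0 (by decide) (swap 0 1 a)) ∧
    (∀ x : Fin 3, x ∉ wset 2 3 0 → swap (0 : Fin 3) 1 x = x) ∧
    (∀ a : Fin 2, swap (1 : Fin 3) 2 (win 2 3 1 (by decide) a) = win 2 3 1 (by decide) (swap 0 1 a)) ∧
    (∀ x : Fin 3, x ∉ wset 2 3 1 → swap (1 : Fin 3) 2 x = x) := by decide

theorem swap_facts_four :
    (∀ a : Fin 2, swap (0 : Fin 4) 1 (win 2 4 0 (by decide) a) = win 2 4 0 (by decide) (swap 0 1 a)) ∧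
    (∀ x : Fin 4, x ∉ wset 2 4 0 → swap (0 : Fin 4) 1 x = x) ∧
    (∀ a : Fin 2, swap (1 : Fin 4) 2 (win 2 4 1 (by decide) a) = win 2 4 1 (by decide) (swap 0 1 a)) ∧
    (∀ x : Fin 4, x ∉ wset 2 4 1 → swap (1 : Fin 4) 2 x = x) ∧
    (∀ a : Fin 2, swap (2 : Fin 4) 3 (win 2 4 2 (by decide) a) = win 2 4 2 (by decide) (swap 0 1 a)) ∧
    (∀ x : Fin 4, x ∉ wset 2 4 2 → swap (2 : Fin 4) 3 x = x) := by decide

theorem cycle_facts :
    (∀ y : Fin 3, (swap (0 : Fin 4) 1 * swap 1 2 * swap 2 3 : Perm (Fin 4)) (win 3 4 0 (by decide) y) = win 3 4 1 (by decide) y) ∧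
    (swap (0 : Fin 4) 1 * swap 1 2 * swap 2 3 : Perm (Fin 4)) 3 = 0 ∧ (swap (0 : Fin 3) 1 * swap 1 2) ^ 3 = 1 := by decide

variable {n : ℕ}

/-- The permutation carrying the window at `i` to the next one. -/
def step (i : ℕ) (h : i + 2 < n) : Perm (Fin (n + 1)) :=
  swap (⟨i, by omega⟩ : Fin (n + 1)) ⟨i + 1, by omega⟩ * swap (⟨i + 1, by omega⟩ : Fin (n + 1)) ⟨i + 2, by omega⟩ *
    swap (⟨i + 2, by omega⟩ : Fin (n + 1)) ⟨i + 3, by omega⟩

theorem step_apply {i : ℕ} (h : i + 2 < n) (x : Fin (n + 1)) (h1 : i ≤ x) (h2 : (x : ℕ) < i + 3) :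
    (step (n := n) i h x : ℕ) = x + 1 := by
  obtain ⟨x, hx⟩ := x
  dsimp at h1 h2
  obtain rfl | rfl | rfl : x = i ∨ x = i + 1 ∨ x = i + 2 := by omega
  all_goals simp [step, swap_apply_def, Fin.ext_iff]

variable {F : Type*} [Field F] [Fintype F] {q : ℕ} (hF : Fintype.card F = q ^ 2)

/-- The data of a Phan system over the field with four elements, with its `SU 4`-windows. -/
structure TwoData (n : ℕ) (G : Type*) [Group G] where
  hq : q = 2
  hn : 4 ≤ n
  U : ℕ → Subgroup G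
  f : ℕ → Cfsg.SU 3 F q →* G
  mem0 : ∀ i, i + 1 < n → ∀ x, f i (e0 hF x) ∈ U i
  mem1 : ∀ i, i + 1 < n → ∀ x, f i (e1 hF x) ∈ U (i + 1)
  agree : ∀ i, i + 2 < n → ∀ x, f i (e1 hF x) = f (i + 1) (e0 hF x)
  far : ∀ i j, i + 2 ≤ j → j < n → ∀ x ∈ U i, ∀ y ∈ U j, Commute x y
  h5 : ∀ i j, i < n → j + 1 < n → (i + 2 ≤ j ∨ j + 3 ≤ i) → ∀ x ∈ U i, ∀ w, Commute x (f j w)
  h6 : ∀ i j, i + 3 ≤ j → j + 1 < n → ∀ v w, Commute (f i v) (f j w)
  four : ∀ i, i + 2 < n → ∃ Ψ : Cfsg.SU 4 F q →* G,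
    ∀ j, ∀ h : j + 3 ≤ 4, ∀ w, Ψ (emb hF 3 4 j h w) = f (i + j) w

namespace TwoData

variable {hF} {G : Type*} [Group G] (D : TwoData hF n G)

local notation "N" => n + 1

/-- Transposition matrix. -/
noncomputable def W2 : Cfsg.SU 2 F q := perm2 hF D.hq 2 (swap 0 1)

/-- The transpositions in the group. -/
noncomputable def w (i : ℕ) : G :=
  if i + 1 < n then D.f i (e0 hF D.W2) else D.f (n - 2) (e1 hF D.W2)

theorem w_fst {i : ℕ} (h : i + 1 < n) : D.w i = D.f i (e0 hF D.W2) := if_pos h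

theorem w_snd {i : ℕ} (h : i + 1 < n) : D.w (i + 1) = D.f i (e1 hF D.W2) := by
  by_cases h2 : i + 2 < n
  · rw [D.w_fst h2, D.agree i h2]
  · rw [w, if_neg h2, show n - 2 = i by omega]

theorem w_mem {i : ℕ} (h : i < n) : D.w i ∈ D.U i := by
  by_cases h1 : i + 1 < n
  · rw [D.w_fst h1]; exact D.mem0 i h1 _
  · obtain ⟨j, rfl⟩ : ∃ j, i = j + 1 := ⟨i - 1, by have := D.hn; omega⟩
    rw [D.w_snd h]; exact D.mem1 j h _

theorem e0_perm2 : e0 hF (perm2 hF D.hq 2 (swap 0 1)) = perm2 hF D.hq 3 (swap 0 1) :=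
  emb_perm2 hF D.hq _ _ _ swap_facts.1 swap_facts.2.1

theorem e1_perm2 : e1 hF (perm2 hF D.hq 2 (swap 0 1)) = perm2 hF D.hq 3 (swap 1 2) :=
  emb_perm2 hF D.hq _ _ _ swap_facts.2.2.1 swap_facts.2.2.2

theorem exists_sym : ∃ φ : Perm (Fin N) →* G, ∀ i, ∀ h : i < n,
    φ (swap (⟨i, by omega⟩ : Fin N) ⟨i + 1, by omega⟩) = D.w i := by
  refine exists_sym_hom n D.w (fun i hi => ?_) (fun i hi => ?_)
    (fun i j hij hj => D.far i j hij hj _ (D.w_mem (by omega)) _ (D.w_mem hj))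
  · have hW : D.W2 * D.W2 = 1 := by rw [W2, ← map_mul, Equiv.swap_mul_self, map_one]
    by_cases h1 : i + 1 < n
    · rw [D.w_fst h1, ← map_mul, ← map_mul, hW, map_one, map_one]
    · obtain ⟨j, rfl⟩ : ∃ j, i = j + 1 := ⟨i - 1, by have := D.hn; omega⟩
      rw [D.w_snd hi, ← map_mul, ← map_mul, hW, map_one, map_one]
  · rw [D.w_fst hi, D.w_snd hi, ← map_mul, ← map_pow, W2, D.e0_perm2, D.e1_perm2, ← map_mul, ← map_pow,
      cycle_facts.2.2, map_one, map_one]

/-- The symmetric group in the group. -/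
noncomputable def sg : Perm (Fin N) →* G := D.exists_sym.choose

theorem sg_swap {i : ℕ} (h : i < n) : D.sg (swap (⟨i, by omega⟩ : Fin N) ⟨i + 1, by omega⟩) = D.w i :=
  D.exists_sym.choose_spec i h

/-- The permutation in the product. -/
noncomputable def pr : Perm (Fin N) →* G × Cfsg.SU N F q := D.sg.prod (perm2 hF D.hq N)

theorem sg_fix_commute (a : ℕ) {z : G} (hz : ∀ i, i < n → a ≤ i → Commute (D.w i) z) {s : Perm (Fin N)}
    (hs : ∀ x : Fin N, (x : ℕ) < a → s x = x) : Commute (D.sg s) z := by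
  have := perm_window ((Subgroup.centralizer {z}).comap D.sg) a N
    (fun j h h1 _ => Subgroup.mem_centralizer_singleton_iff.2 (by
      rw [D.sg_swap (show j < n by omega)]; exact (hz j (by omega) h1).eq)) s
    (fun x hx => by
      rcases hx with hx | hx
      · exact hs x hx
      · exact absurd x.isLt (by omega))
  exact Subgroup.mem_centralizer_singleton_iff.1 this

/-- The first window of size four. -/
noncomputable def Ψ0 : Cfsg.SU 4 F q →* G := (D.four 0 (by have := D.hn; omega)).choose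

theorem Ψ0_win {j : ℕ} (h : j + 3 ≤ 4) (x : Cfsg.SU 3 F q) : D.Ψ0 (emb hF 3 4 j h x) = D.f j x := by
  rw [Ψ0, (D.four 0 (by have := D.hn; omega)).choose_spec j h x, Nat.zero_add]

theorem window_succ {i : ℕ} (h : i + 2 < n) (x : Cfsg.SU 3 F q) :
    D.f (i + 1) x = D.sg (step i h) * D.f i x * (D.sg (step i h))⁻¹ := by
  obtain ⟨Ψ, hΨ⟩ := D.four i h
  set c : Perm (Fin 4) := swap 0 1 * swap 1 2 * swap 2 3 with hc
  have hw : ∀ j, ∀ hj : j + 2 ≤ 4, j ≤ 2 → Ψ (emb hF 2 4 j hj D.W2) = D.w (i + j) := by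
    intro j hj hj2
    obtain rfl | rfl | rfl : j = 0 ∨ j = 1 ∨ j = 2 := by omega
    · have e := hΨ 0 (by omega) (e0 hF D.W2)
      rw [e0, emb_emb] at e
      exact e.trans (D.w_fst (i := i) (by omega)).symm
    · have e := hΨ 0 (by omega) (e1 hF D.W2)
      rw [e1, emb_emb] at e
      exact e.trans (D.w_snd (i := i) (by omega)).symm
    · have e := hΨ 1 (by omega) (e1 hF D.W2)
      rw [e1, emb_emb] at e
      exact e.trans (D.w_snd (i := i + 1) (by omega)).symm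
  have hs : Ψ (perm2 hF D.hq 4 c) = D.sg (step i h) := by
    have E0 : perm2 hF D.hq 4 (swap 0 1) = emb hF 2 4 0 (by omega) D.W2 :=
      (emb_perm2 hF D.hq _ _ _ swap_facts_four.1 swap_facts_four.2.1).symm
    have E1 : perm2 hF D.hq 4 (swap 1 2) = emb hF 2 4 1 (by omega) D.W2 :=
      (emb_perm2 hF D.hq _ _ _ swap_facts_four.2.2.1 swap_facts_four.2.2.2.1).symm
    have E2 : perm2 hF D.hq 4 (swap 2 3) = emb hF 2 4 2 (by omega) D.W2 :=
      (emb_perm2 hF D.hq _ _ _ swap_facts_four.2.2.2.2.1 swap_facts_four.2.2.2.2.2).symm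
    rw [hc, step, map_mul, map_mul, map_mul, map_mul, map_mul, map_mul, E0, E1, E2, hw 0 _ (by omega),
      hw 1 _ (by omega), hw 2 _ (by omega), D.sg_swap (show i < n by omega), D.sg_swap (show i + 1 < n by omega),
      D.sg_swap (show i + 2 < n by omega), Nat.add_zero]
  have hmat : emb hF 3 4 1 (by omega) x * perm2 hF D.hq 4 c = perm2 hF D.hq 4 c * emb hF 3 4 0 (by omega) x := by
    refine su_eq_of_mat ?_
    rw [mat_mul, mat_mul]
    refine Matrix.ext fun a b => ?_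
    have hP : ∀ a b, mat (perm2 hF D.hq 4 c) a b = if c⁻¹ a = b then 1 else 0 := fun a b => by
      show ((1 : Matrix (Fin 4) (Fin 4) F).submatrix ⇑c⁻¹ id) a b = _
      rw [Matrix.submatrix_apply, id_eq, Matrix.one_apply]
    simp only [Matrix.mul_apply, hP, mul_ite, mul_one, mul_zero, ite_mul, one_mul, zero_mul]
    rw [Finset.sum_ite_eq, if_pos (Finset.mem_univ _)]
    rw [Finset.sum_eq_single (c b) (fun y _ hy => if_neg (fun e => hy (by rw [← e]; simp)))
      (fun hh => absurd (Finset.mem_univ _) hh), if_pos (by simp)]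
    -- compare the entries
    have hwin : ∀ y : Fin 3, c (win 3 4 0 (by omega) y) = win 3 4 1 (by omega) y := cycle_facts.1
    have hc3 : c (3 : Fin 4) = 0 := cycle_facts.2.1
    have n0 : (3 : Fin 4) ∉ Set.range (win 3 4 0 (by omega)) := by
      rintro ⟨y, hy⟩
      have := congrArg Fin.val hy
      simp at this
      omega
    have n1 : (0 : Fin 4) ∉ Set.range (win 3 4 1 (by omega)) := by
      rintro ⟨y, hy⟩
      have := congrArg Fin.val hy
      simp at this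
    obtain ⟨a', rfl⟩ : ∃ a', c a' = a := ⟨c⁻¹ a, by simp⟩
    rw [show c⁻¹ (c a') = a' by simp, emb, emb, mat_embS, mat_embS]
    by_cases ha : a' = 3
    · subst ha
      rw [hc3, embM_apply_row _ n1, embM_apply_row _ n0, Matrix.one_apply, Matrix.one_apply]
      exact if_congr (by rw [← hc3]; exact c.injective.eq_iff) rfl rfl
    obtain ⟨y, rfl⟩ : ∃ y : Fin 3, win 3 4 0 (by omega) y = a' :=
      ⟨⟨a', by have := a'.isLt; have : (a' : ℕ) ≠ 3 := fun e => ha (Fin.ext e); omega⟩, Fin.ext (by simp)⟩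
    rw [hwin]
    by_cases hb : b = 3
    · subst hb
      rw [hc3, embM_apply_col _ n1, embM_apply_col _ n0, Matrix.one_apply, Matrix.one_apply,
        if_neg (fun e => n1 ⟨y, e⟩), if_neg ha]
    obtain ⟨z, rfl⟩ : ∃ z : Fin 3, win 3 4 0 (by omega) z = b :=
      ⟨⟨b, by have := b.isLt; have : (b : ℕ) ≠ 3 := fun e => hb (Fin.ext e); omega⟩, Fin.ext (by simp)⟩
    rw [hwin, embM_apply, embM_apply]
  have := congrArg Ψ (mul_inv_eq_iff_eq_mul.2 hmat.symm).symm
  rw [map_mul, map_mul, map_inv, hs, hΨ 0 (by omega) x, hΨ 1 (by omega) x, Nat.add_zero] at this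
  exact this

theorem window_conj : ∀ i, i + 1 < n → ∃ t : Perm (Fin N),
    (∀ y : Fin N, (y : ℕ) < 3 → (t y : ℕ) = y + i) ∧ ∀ x, D.f i x = D.sg t * D.f 0 x * (D.sg t)⁻¹ := by
  intro i
  induction i with
  | zero => exact fun _ => ⟨1, fun y _ => rfl, fun x => by rw [map_one, one_mul, inv_one, mul_one]⟩
  | succ i ih =>
    intro hi
    obtain ⟨t, ht, hx⟩ := ih (by omega)
    refine ⟨step i (by omega) * t, fun y hy => ?_, fun x => ?_⟩
    · rw [Perm.mul_apply, step_apply (by omega) _ (by rw [ht y hy]; omega) (by rw [ht y hy]; omega), ht y hy]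
      omega
    · rw [D.window_succ (show i + 2 < n by omega), hx, map_mul]
      group

theorem perm_window_commute {s : Perm (Fin N)} (hs : ∀ y : Fin N, (y : ℕ) < 3 → s y = y) (x : Cfsg.SU 3 F q) :
    Commute (D.sg s) (D.f 0 x) :=
  D.sg_fix_commute 3 (fun i hi h3 => D.h5 i 0 hi (by have := D.hn; omega) (Or.inr (by omega)) _ (D.w_mem hi) x) hs

theorem conj_window {s : Perm (Fin N)} {i : ℕ} (hi : i + 1 < n) (hs : ∀ y : Fin N, (y : ℕ) < 3 → (s y : ℕ) = y + i)
    (x : Cfsg.SU 3 F q) : D.sg s * D.f 0 x * (D.sg s)⁻¹ = D.f i x := by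
  obtain ⟨t, ht, hx⟩ := D.window_conj i hi
  have hc := D.perm_window_commute (s := t⁻¹ * s) (fun y hy => by
    rw [Perm.mul_apply, Perm.inv_eq_iff_eq]
    exact Fin.ext ((hs y hy).trans (ht y hy).symm)) x
  rw [hx]
  calc D.sg s * D.f 0 x * (D.sg s)⁻¹
      = D.sg t * (D.sg (t⁻¹ * s) * D.f 0 x * (D.sg (t⁻¹ * s))⁻¹) * (D.sg t)⁻¹ := by
        rw [map_mul, map_inv]; group
    _ = _ := by rw [hc.eq, mul_inv_cancel_right]

theorem conj_pair {s : Perm (Fin N)} {i : ℕ} (hi : i + 1 < n)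
    (hs : ∀ y : Fin N, (y : ℕ) < 2 → (s y : ℕ) = y + (i + 1)) (x : Cfsg.SU 2 F q) :
    D.sg s * D.f 0 (e0 hF x) * (D.sg s)⁻¹ = D.f i (e1 hF x) := by
  have hn := D.hn
  obtain ⟨t, ht, hx⟩ := D.window_conj i hi
  obtain ⟨t1, ht1, hx1⟩ := D.window_conj 1 (by omega)
  have hc : Commute (D.sg ((t * t1)⁻¹ * s)) (D.f 0 (e0 hF x)) := by
    refine D.sg_fix_commute 2 (fun j hj h2 => ?_) (fun y hy => ?_)
    · exact (D.far 0 j (by omega) hj _ (D.mem0 0 (by omega) x) _ (D.w_mem hj)).symm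
    · rw [Perm.mul_apply, Perm.inv_eq_iff_eq]
      refine Fin.ext ?_
      rw [hs y hy, Perm.mul_apply, ht (t1 y) (by rw [ht1 y (by omega)]; omega), ht1 y (by omega)]
      omega
  rw [hx, D.agree 0 (by omega) x, hx1]
  calc D.sg s * D.f 0 (e0 hF x) * (D.sg s)⁻¹
      = D.sg t * D.sg t1 * (D.sg ((t * t1)⁻¹ * s) * D.f 0 (e0 hF x) * (D.sg ((t * t1)⁻¹ * s))⁻¹) *
          (D.sg t * D.sg t1)⁻¹ := by
        rw [map_mul, map_inv, map_mul]; group
    _ = _ := by rw [hc.eq, mul_inv_cancel_right]; group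

include D in
theorem five : 5 ≤ N := by have := D.hn; omega

theorem E4_eq (x : Cfsg.SU 4 F q) : E4 hF D.five x = emb hF 4 N 0 (by have := D.hn; omega) x := by
  rw [E4, emb]
  congr 2
  exact Function.Embedding.ext fun j => Fin.ext (by simp [Fin.val_castLE])

/-- The first window in the product. -/
noncomputable def ph : Cfsg.SU 4 F q →* G × Cfsg.SU N F q := D.Ψ0.prod (E4 hF D.five)

theorem pr_swap_mem {j : ℕ} (hj : j + 2 ≤ 4) :
    D.pr (swap (⟨j, by have := D.hn; omega⟩ : Fin N) ⟨j + 1, by have := D.hn; omega⟩) ∈ D.ph.range := by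
  have hn := D.hn
  refine ⟨emb hF 2 4 j hj D.W2, Prod.ext ?_ ?_⟩
  · show D.Ψ0 _ = D.sg _
    rw [D.sg_swap (show j < n by omega)]
    obtain rfl | rfl | rfl : j = 0 ∨ j = 1 ∨ j = 2 := by omega
    · have e := D.Ψ0_win (j := 0) (by omega) (e0 hF D.W2)
      rw [e0, emb_emb] at e
      exact e.trans (D.w_fst (i := 0) (by omega)).symm
    · have e := D.Ψ0_win (j := 0) (by omega) (e1 hF D.W2)
      rw [e1, emb_emb] at e
      exact e.trans (D.w_snd (i := 0) (by omega)).symm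
    · have e := D.Ψ0_win (j := 1) (by omega) (e1 hF D.W2)
      rw [e1, emb_emb] at e
      exact e.trans (D.w_snd (i := 1) (by omega)).symm
  · show E4 hF D.five _ = perm2 hF D.hq N _
    rw [D.E4_eq, emb_emb, W2]
    refine emb_perm2 hF D.hq _ _ _ (fun a => ?_) (fun x hx => ?_)
    · fin_cases a <;> simp [win, swap_apply_def, Fin.ext_iff]
    · rw [mem_wset] at hx
      refine swap_apply_of_ne_of_ne (fun e => ?_) (fun e => ?_) <;>
        · rw [e] at hx; simp at hx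

theorem pr_low {s : Perm (Fin N)} (hs : ∀ x : Fin N, 4 ≤ (x : ℕ) → s x = x) : D.pr s ∈ D.ph.range := by
  have hn := D.hn
  refine perm_window (D.ph.range.comap D.pr) 0 4 (fun j h _ h4 => ?_) s (fun x hx => hs x (by omega))
  exact D.pr_swap_mem (show j + 2 ≤ 4 by omega)

/-- The subgroup generated by the graphs. -/
noncomputable def Γ : Subgroup (G × Cfsg.SU N F q) :=
  Subgroup.closure (Set.range D.ph ∪ Set.range (D.pr.comp (alternatingGroup (Fin N)).subtype))

/-- The first window in the generated subgroup. -/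
noncomputable def φΓ : Cfsg.SU 4 F q →* D.Γ :=
  D.ph.codRestrict D.Γ fun x => Subgroup.subset_closure (Or.inl ⟨x, rfl⟩)

/-- The even permutations in the generated subgroup. -/
noncomputable def ρΓ : alternatingGroup (Fin N) →* D.Γ :=
  (D.pr.comp (alternatingGroup (Fin N)).subtype).codRestrict D.Γ fun x => Subgroup.subset_closure (Or.inr ⟨x, rfl⟩)

theorem low3 {x : Cfsg.SU 4 F q} (hx : E4 hF D.five x ∈ Supp (Low 3)) :
    ∃ y, x = emb hF 3 4 0 (by omega) y ∧ D.Ψ0 x = D.f 0 y := by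
  have hn := D.hn
  rw [show (Low 3 : Finset (Fin N)) = wset 3 N 0 by ext j; simp [mem_Low, mem_wset], D.E4_eq] at hx
  obtain ⟨y, hy⟩ := exists_emb hF (show 0 + 3 ≤ N by omega) hx
  have hxy : x = emb hF 3 4 0 (by omega) y := emb_injective hF (show 0 + 4 ≤ N by omega) (by
    rw [emb_emb]; exact hy.symm)
  exact ⟨y, hxy, by rw [hxy, D.Ψ0_win]⟩

theorem low2 {x : Cfsg.SU 4 F q} (hx : E4 hF D.five x ∈ Supp (Low 2)) :
    ∃ y, D.Ψ0 x = D.f 0 (e0 hF y) := by
  have hn := D.hn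
  rw [show (Low 2 : Finset (Fin N)) = wset 2 N 0 by ext j; simp [mem_Low, mem_wset], D.E4_eq] at hx
  obtain ⟨y, hy⟩ := exists_emb hF (show 0 + 2 ≤ N by omega) hx
  have hxy : x = emb hF 3 4 0 (by omega) (e0 hF y) := emb_injective hF (show 0 + 4 ≤ N by omega) (by
    rw [emb_emb, e0, emb_emb]; exact hy.symm)
  exact ⟨y, by rw [hxy, D.Ψ0_win]⟩

/-- The gluing data. -/
noncomputable def glue : GlueData hF D.five D.Γ where
  φ := D.φΓ
  ρ := D.ρΓ
  π := (MonoidHom.snd G (Cfsg.SU N F q)).comp D.Γ.subtype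
  hπφ _ := rfl
  hπρ s := (pmA_eq_perm2 hF D.hq s).symm
  gen := by
    rw [eq_top_iff]
    rintro ⟨x, hx⟩ -
    have := Subgroup.closure_induction (p := fun x hx => (⟨x, hx⟩ : D.Γ) ∈
        Subgroup.closure (Set.range D.φΓ ∪ Set.range D.ρΓ))
      (fun x hx => ?_) (one_mem _) (fun x y hx hy ha hb => mul_mem ha hb) (fun x hx ha => inv_mem ha) hx
    · exact this
    · rcases hx with ⟨z, rfl⟩ | ⟨z, rfl⟩
      · exact Subgroup.subset_closure (Or.inl ⟨z, rfl⟩)
      · exact Subgroup.subset_closure (Or.inr ⟨z, rfl⟩)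
  hA4 s hs := by
    obtain ⟨y, hy⟩ := D.pr_low (s := (s : Perm (Fin N))) (fun x hx => hs x (by rw [mem_Low]; omega))
    exact ⟨y, Subtype.ext hy⟩
  hstab s hs x hx := by
    obtain ⟨y, -, hy⟩ := D.low3 hx
    refine Subtype.ext (Prod.ext ?_ ?_)
    · show D.sg s * D.Ψ0 x = D.Ψ0 x * D.sg s
      rw [hy]
      exact (D.perm_window_commute (fun j hj => hs j (mem_Low.2 hj)) y).eq
    · show perm2 hF D.hq N s * E4 hF D.five x = E4 hF D.five x * perm2 hF D.hq N s
      rw [← pmA_eq_perm2 hF D.hq s]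
      exact (supp_commute disjoint_compl_left hF
        (pmA_mem_supp hF s fun j hj => hs j (by simpa using hj)) hx).eq
  hδ x y hx hy := by
    obtain ⟨z, hxz, hz⟩ := D.low3 hx
    have hn := D.hn
    refine Subtype.ext (Prod.ext ?_ ?_)
    · show D.sg (δA D.five) * D.Ψ0 x * (D.sg (δA D.five))⁻¹ = D.Ψ0 y
      set a : Perm (Fin N) := swap (⟨0, by omega⟩ : Fin N) ⟨0 + 1, by omega⟩ with ha
      set b : Perm (Fin N) := swap (⟨3, by omega⟩ : Fin N) ⟨3 + 1, by omega⟩ with hb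
      have hδ : (δA D.five : Perm (Fin N)) = a * b := rfl
      have hcb : Commute (D.sg b) (D.Ψ0 x) := by
        rw [hz, hb, D.sg_swap (show 3 < n by omega)]
        exact D.h5 3 0 (by omega) (by omega) (Or.inr (by omega)) _ (D.w_mem (by omega)) z
      obtain ⟨u, hu⟩ := D.pr_swap_mem (j := 0) (by omega)
      have hu1 : D.Ψ0 u = D.sg a := congrArg Prod.fst hu
      have hu2 : E4 hF D.five u = perm2 hF D.hq N a := congrArg Prod.snd hu
      have hbx : Commute (perm2 hF D.hq N b) (E4 hF D.five x) := by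
        have hbs : perm2 hF D.hq N b ∈ Supp ((Low 3 : Finset (Fin N))ᶜ) := fun j hj => by
          rw [perm2_ev1]
          simp only [Finset.mem_compl, not_not, mem_Low] at hj
          rw [hb, swap_apply_of_ne_of_ne (fun e => by rw [e] at hj; simp at hj) (fun e => by rw [e] at hj; simp at hj)]
        exact supp_commute disjoint_compl_left hF hbs hx
      have hyu : y = u * x * u⁻¹ := E4_injective hF D.five (by
        rw [hy, map_mul, map_mul, map_inv, hu2, pmA_eq_perm2 hF D.hq, hδ, map_mul, _root_.mul_inv_rev]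
        calc perm2 hF D.hq N a * perm2 hF D.hq N b * E4 hF D.five x * ((perm2 hF D.hq N b)⁻¹ * (perm2 hF D.hq N a)⁻¹)
            = perm2 hF D.hq N a * (perm2 hF D.hq N b * E4 hF D.five x * (perm2 hF D.hq N b)⁻¹) *
              (perm2 hF D.hq N a)⁻¹ := by group
          _ = _ := by rw [hbx.eq, mul_inv_cancel_right])
      rw [hyu, map_mul, map_mul, map_inv, hu1, hδ, map_mul, _root_.mul_inv_rev]
      calc D.sg a * D.sg b * D.Ψ0 x * ((D.sg b)⁻¹ * (D.sg a)⁻¹)
          = D.sg a * (D.sg b * D.Ψ0 x * (D.sg b)⁻¹) * (D.sg a)⁻¹ := by group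
        _ = _ := by rw [hcb.eq, mul_inv_cancel_right]
    · show perm2 hF D.hq N (δA D.five) * E4 hF D.five x * (perm2 hF D.hq N (δA D.five))⁻¹ = E4 hF D.five y
      rw [hy, pmA_eq_perm2 hF D.hq]

theorem glue_comm : D.glue.Comm := by
  have hn := D.hn
  have cjfst : ∀ s y, ((D.glue.cj s y : D.Γ) : G × Cfsg.SU N F q).1 = D.sg s * D.Ψ0 y * (D.sg s)⁻¹ := fun s y => rfl
  have split : ∀ a b : D.Γ, Commute (a : G × Cfsg.SU N F q).1 (b : G × Cfsg.SU N F q).1 →
      Commute (a : G × Cfsg.SU N F q).2 (b : G × Cfsg.SU N F q).2 → Commute a b :=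
    fun a b h h' => Subtype.ext (Prod.ext h.eq h'.eq)
  refine D.glue.comm_of_two (fun x y hx hy => ?_) (fun h6 x y hx hy => ?_)
  · refine split _ _ ?_ ?_
    · obtain ⟨z, -, hz⟩ := D.low3 hx
      obtain ⟨z', hz'⟩ := D.low2 hy
      show Commute (D.Ψ0 x) _
      rw [cjfst, hz, hz', D.conj_pair (i := 2) (by omega) (fun j hj => ?_)]
      · exact (D.h5 3 0 (by omega) (by omega) (Or.inr (by omega)) _ (D.mem1 2 (by omega) _) z).symm
      · have hj5 : j = p5 D.five ⟨j, by omega⟩ := rfl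
        rw [hj5, σ1A_apply, p5_val, p5_val]
        have : ∀ m : Fin 5, (m : ℕ) < 2 → (((swap 0 3 * swap 1 4 : Perm (Fin 5)) m : Fin 5) : ℕ) = (m : ℕ) + (2 + 1) := by
          decide
        exact this ⟨j, by omega⟩ hj
    · have h := img_supp hF (σ1A D.five) hy
      rw [← D.glue.π_cj] at h
      exact supp_commute GlueData.disjoint_σ1 hF hx h
  · refine split _ _ ?_ ?_
    · obtain ⟨z, -, hz⟩ := D.low3 hx
      obtain ⟨z', -, hz'⟩ := D.low3 hy
      show Commute (D.Ψ0 x) _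
      set b : Perm (Fin N) := swap (⟨0, by omega⟩ : Fin N) ⟨0 + 1, by omega⟩ with hb
      have e : D.sg (σ2A h6) = D.sg ((σ2A h6 : Perm (Fin N)) * b) * D.sg b := by
        rw [← map_mul, mul_assoc, hb, Equiv.swap_mul_self, mul_one]
      have hwz : D.sg b * D.f 0 z' * (D.sg b)⁻¹ = D.f 0 (e0 hF D.W2 * z' * (e0 hF D.W2)⁻¹) := by
        rw [map_mul, map_mul, map_inv, hb, D.sg_swap (show 0 < n by omega), D.w_fst (show 0 + 1 < n by omega)]
      rw [cjfst, hz, hz', e, _root_.mul_inv_rev]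
      rw [show D.sg ((σ2A h6 : Perm (Fin N)) * b) * D.sg b * D.f 0 z' *
          ((D.sg b)⁻¹ * (D.sg ((σ2A h6 : Perm (Fin N)) * b))⁻¹) = D.sg ((σ2A h6 : Perm (Fin N)) * b) *
          (D.sg b * D.f 0 z' * (D.sg b)⁻¹) * (D.sg ((σ2A h6 : Perm (Fin N)) * b))⁻¹ by group, hwz,
        D.conj_window (i := 3) (by omega) (fun j hj => ?_)]
      · exact D.h6 0 3 (by omega) (by omega) _ _
      · rw [Perm.mul_apply, hb]
        have hj6 : j = Fin.castLE h6 ⟨j, by omega⟩ := rfl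
        rw [hj6, show (⟨0, by omega⟩ : Fin N) = Fin.castLE h6 0 from rfl,
          show (⟨0 + 1, by omega⟩ : Fin N) = Fin.castLE h6 1 from rfl,
          (Fin.castLE_injective h6).swap_apply, σ2A_apply, Fin.val_castLE, Fin.val_castLE]
        have : ∀ m : Fin 6, (m : ℕ) < 3 →
            (((swap 0 3 * swap 1 4 * swap 2 5 * swap 0 1 : Perm (Fin 6)) (swap 0 1 m) : Fin 6) : ℕ) = (m : ℕ) + 3 := by
          decide
        exact this ⟨j, by omega⟩ hj
    · have h := img_supp hF (σ2A h6) hy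
      rw [← D.glue.π_cj] at h
      exact supp_commute (GlueData.disjoint_σ2 h6) hF hx h

include D in
/-- The homomorphism of the whole group. -/
theorem exists_hom : ∃ f' : Cfsg.SU N F q →* G, ∀ i, i + 1 < n → (D.f i).range ≤ f'.range := by
  have hn := D.hn
  have hsurj : Function.Surjective D.glue.π := fun g => by
    obtain ⟨γ, -, e⟩ := D.glue.exists_lift (S := Finset.univ) (by rw [Finset.card_univ, Fintype.card_fin]; omega)
      (show g ∈ Supp Finset.univ from fun j hj => absurd (Finset.mem_univ j) hj)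
    exact ⟨γ, e⟩
  let e := MulEquiv.ofBijective D.glue.π ⟨D.glue.π_injective D.glue_comm, hsurj⟩
  let f' : Cfsg.SU N F q →* G := ((MonoidHom.fst G (Cfsg.SU N F q)).comp D.Γ.subtype).comp e.symm.toMonoidHom
  have hΓ : ∀ γ : D.Γ, (γ : G × Cfsg.SU N F q).1 ∈ f'.range := fun γ =>
    ⟨e γ, by simp [f']⟩
  have hperm : ∀ s : alternatingGroup (Fin N), D.sg s ∈ f'.range := fun s => hΓ (D.ρΓ s)
  have hΨ : ∀ x, D.Ψ0 x ∈ f'.range := fun x => hΓ (D.φΓ x)
  have h0 : D.sg (swap (⟨0, by omega⟩ : Fin N) ⟨0 + 1, by omega⟩) ∈ f'.range := by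
    obtain ⟨u, hu⟩ := D.pr_swap_mem (j := 0) (by omega)
    rw [← show D.Ψ0 u = D.sg (swap (⟨0, by omega⟩ : Fin N) ⟨0 + 1, by omega⟩) from congrArg Prod.fst hu]
    exact hΨ u
  have hall : ∀ t : Perm (Fin N), D.sg t ∈ f'.range := by
    intro t
    rcases Int.units_eq_one_or (Perm.sign t) with h | h
    · exact hperm ⟨t, Perm.mem_alternatingGroup.2 h⟩
    · have := mul_mem (hperm ⟨t * swap (⟨0, by omega⟩ : Fin N) ⟨0 + 1, by omega⟩, Perm.mem_alternatingGroup.2 (by
        rw [map_mul, h, Perm.sign_swap (by simp)]; rfl)⟩) h0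
      rwa [← map_mul, mul_assoc, Equiv.swap_mul_self, mul_one] at this
  refine ⟨f', fun i hi => ?_⟩
  rintro _ ⟨x, rfl⟩
  obtain ⟨t, -, hx⟩ := D.window_conj i hi
  rw [hx]
  refine mul_mem (mul_mem (hall t) ?_) (inv_mem (hall t))
  rw [← D.Ψ0_win (show 0 + 3 ≤ 4 by omega)]
  exact hΨ _

end TwoData

end CfsgLib.Phan
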