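import Cfsg.Agent.Lib.SUShort.GlueSpace

/-!
Unit vectors orthogonal to a few given vectors, and elementary norm lemmas (for Phan's theorem).
-/

set_option autoImplicit false
set_option linter.unusedSectionVars false

namespace CfsgLib.Phan

open Matrix CfsgLib.UnitaryTransvection CfsgLib.UnitarySimple CfsgLib.SUCover CfsgLib.SUShort

variable {F : Type*} [Field F] [Fintype F] {q n : ℕ} (hF : Fintype.card F = q ^ 2)

local notation "h" => Cfsg.hermForm n F q
local notation "σ" => frob hF

include hF in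
theorem h_self_fixed (v : Fin n → F) : σ (h v v) = h v v := h_swap hF v v

include hF in
theorem swap_zero {u v : Fin n → F} (e : h u v = 0) : h v u = 0 := by
  rw [← h_swap hF u v, e, map_zero]

include hF in
theorem h_neg_right (u v : Fin n → F) : h u (-v) = -h u v := by
  rw [← neg_one_smul F v, h_smul_right hF, map_neg, map_one, neg_one_mul]

include hF in
/-- Normalising an anisotropic vector. -/
theorem exists_unit_smul {v : Fin n → F} (hv : h v v ≠ 0) : ∃ c : F, c ≠ 0 ∧ h (c • v) (c • v) = 1 := by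
  obtain ⟨t, ht⟩ := exists_norm_eq hF (c := (h v v)⁻¹) (by rw [map_inv₀, h_self_fixed hF])
  refine ⟨t, fun e => ?_, ?_⟩
  · rw [e, zero_mul] at ht
    exact hv (inv_eq_zero.1 ht.symm)
  · rw [h_smul_left, h_smul_right hF, ← mul_assoc, ht, inv_mul_cancel₀ hv]

include hF in
theorem norm_ne_zero {a : F} (ha : a ≠ 0) : a * σ a ≠ 0 :=
  mul_ne_zero ha ((map_ne_zero (σ)).2 ha)

include hF in
/-- A phase in general position changes the norm of a sum. -/
theorem phase {A B : F} (hq : 3 ≤ q) (hA : A ≠ 0) (hB : B ≠ 0) :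
    ∃ l : F, l * σ l = 1 ∧ (l * A + B) * σ (l * A + B) ≠ (A + B) * σ (A + B) := by
  by_contra hh
  push Not at hh
  obtain ⟨z, hz⟩ := UnitaryBasic.exists_zeta hF
  have hz1 : (z : F) * σ z = 1 := by
    rw [frob_apply, ← pow_succ', ← Units.val_pow_eq_pow_val, ← hz, pow_orderOf_eq_one, Units.val_one]
  set w := A * σ B with hw
  have hw0 : w ≠ 0 := mul_ne_zero hA ((map_ne_zero (σ)).2 hB)
  have key : ∀ l : F, l * σ l = 1 → l ≠ 1 → w * l = σ w := by
    intro l hl hl1
    have e := hh l hl
    simp only [map_add, map_mul] at e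
    have hsw : σ w = σ A * B := by rw [hw, map_mul, frob_frob]
    have e2 : (l - 1) * (w * l - σ w) = 0 := by
      rw [hsw, hw]
      linear_combination l * e - (σ A * B + l * A * σ A) * hl
    rcases mul_eq_zero.1 e2 with e3 | e3
    · exact absurd (sub_eq_zero.1 e3) hl1
    · exact sub_eq_zero.1 e3
  have hne : ∀ k : ℕ, 0 < k → k ≤ q → (z : F) ^ k ≠ 1 := by
    intro k hk hkq e
    have : z ^ k = 1 := Units.ext (by rw [Units.val_pow_eq_pow_val, e, Units.val_one])
    have := Nat.le_of_dvd hk (orderOf_dvd_of_pow_eq_one this)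
    omega
  have e1 := key z hz1 (by simpa using hne 1 one_pos (by omega))
  have e2 := key ((z : F) ^ 2) (by rw [map_pow, ← mul_pow, hz1, one_pow]) (hne 2 two_pos (by omega))
  have : w * (z : F) * ((z : F) - 1) = 0 := by linear_combination e2 - e1
  rcases mul_eq_zero.1 this with e | e
  · exact mul_ne_zero hw0 z.ne_zero e
  · exact hne 1 one_pos (by omega) (by rw [pow_one]; exact sub_eq_zero.1 e)

include hF in
/-- A norm other than zero and one. -/
theorem exists_norm_general (hq : 3 ≤ q) : ∃ t : F, σ t = t ∧ t ≠ 0 ∧ t ≠ 1 := by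
  classical
  obtain ⟨g, hg⟩ := IsCyclic.exists_ofOrder_eq_natCard (α := Fˣ)
  rw [Nat.card_units, Nat.card_eq_fintype_card, hF] at hg
  refine ⟨(g : F) * σ g, by rw [map_mul, frob_frob, mul_comm], norm_ne_zero hF g.ne_zero, fun e => ?_⟩
  rw [frob_apply, ← pow_succ', ← Units.val_pow_eq_pow_val] at e
  have h1 : g ^ (q + 1) = 1 := Units.ext e
  have := Nat.le_of_dvd (by omega) (orderOf_dvd_of_pow_eq_one h1)
  rw [hg] at this
  have h3 : 3 * q ≤ q ^ 2 := by rw [sq]; exact Nat.mul_le_mul_right q hq
  omega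

include hF in
/-- The squared inner products with the unit vectors of an orthonormal pair are not constant. -/
theorem pair_not_const (hq : 3 ≤ q) {a u v : Fin n → F} (hu : h u u = 1) (hv : h v v = 1) (huv : h u v = 0)
    {K : F} (hK : K ≠ 0) (eu : h u a * σ (h u a) = K) (ev : h v a * σ (h v a) = K) :
    ∃ x y : F, h (x • u + y • v) (x • u + y • v) = 1 ∧
      h (x • u + y • v) a * σ (h (x • u + y • v) a) ≠ K := by
  by_contra hh
  push Not at hh
  obtain ⟨t, ht, ht0, ht1⟩ := exists_norm_general hF hq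
  obtain ⟨x, hx⟩ := exists_norm_eq hF (c := t) ht
  obtain ⟨y, hy⟩ := exists_norm_eq hF (c := 1 - t) (by rw [map_sub, map_one, ht])
  have hx0 : x ≠ 0 := fun e => ht0 (by rw [← hx, e, zero_mul])
  have hy0 : y ≠ 0 := fun e => ht1 (by rw [e, zero_mul] at hy; exact (sub_eq_zero.1 hy.symm).symm)
  have hA : h u a ≠ 0 := fun e => hK (by rw [← eu, e, zero_mul])
  have hB : h v a ≠ 0 := fun e => hK (by rw [← ev, e, zero_mul])
  have hvu : h v u = 0 := swap_zero hF huv
  have hunit : ∀ l : F, l * σ l = 1 → h ((l * x) • u + y • v) ((l * x) • u + y • v) = 1 := by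
    intro l hl
    simp only [h_add_left, h_add_right hF, h_smul_left, h_smul_right hF, hu, hv, huv, hvu, map_mul]
    linear_combination (x * σ x) * hl + hx + hy
  have hval : ∀ l : F, h ((l * x) • u + y • v) a = l * (x * h u a) + y * h v a := by
    intro l
    rw [h_add_left, h_smul_left, h_smul_left, mul_assoc]
  obtain ⟨l, hl, hne⟩ := phase hF hq (mul_ne_zero hx0 hA) (mul_ne_zero hy0 hB)
  apply hne
  have e1 := hh _ _ (hunit 1 (by rw [map_one, one_mul]))
  have el := hh _ _ (hunit l hl)
  rw [hval] at el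
  rw [hval, one_mul] at e1
  rw [el, e1]

/-- The projection away from an orthonormal list. -/
def proj {k : ℕ} (f : Fin k → Fin n → F) (q : ℕ) (x : Fin n → F) : Fin n → F :=
  x - ∑ i, Cfsg.hermForm n F q x (f i) • f i

include hF in
/-- A unit vector orthogonal to an orthonormal list. -/
theorem exists_unit_perp {k : ℕ} (hk : k < n) (f : Fin k → Fin n → F)
    (hf : ∀ i j, h (f i) (f j) = if i = j then 1 else 0) :
    ∃ u, h u u = 1 ∧ ∀ i, h u (f i) = 0 := by
  classical
  have hperp : ∀ x i, h (proj f q x) (f i) = 0 := by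
    intro x i
    rw [proj, h_sub_left, h_sum_left hF, Finset.sum_eq_single i (fun j _ hj => by
      rw [h_smul_left, hf, if_neg hj, mul_zero]) (fun hi => absurd (Finset.mem_univ i) hi),
      h_smul_left, hf, if_pos rfl, mul_one, sub_self]
  have hlin : ∀ (c : F) x y, proj f q (x + c • y) = proj f q x + c • proj f q y := by
    intro c x y
    simp only [proj, h_add_left, h_smul_left, add_smul, mul_smul, Finset.sum_add_distrib, smul_sub, Finset.smul_sum]
    abel
  by_cases hex : ∃ x, h (proj f q x) (proj f q x) ≠ 0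
  · obtain ⟨x, hx⟩ := hex
    obtain ⟨c, -, hc⟩ := exists_unit_smul hF hx
    exact ⟨_, hc, fun i => by rw [h_smul_left, hperp, mul_zero]⟩
  exfalso
  push Not at hex
  have hpol : ∀ x y, h (proj f q x) (proj f q y) = 0 := by
    intro x y
    set A := h (proj f q x) (proj f q y) with hA
    have hc : ∀ c : F, σ c * A + c * σ A = 0 := by
      intro c
      have := hex (x + c • y)
      rw [hlin] at this
      simp only [h_add_left, h_add_right hF, h_smul_left, h_smul_right hF, hex, mul_zero, zero_add, add_zero] at this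
      rw [← h_swap hF (proj f q x) (proj f q y), ← hA] at this
      linear_combination this
    obtain ⟨c, hcc⟩ : ∃ c : F, σ c ≠ c := by
      by_contra hcon
      push Not at hcon
      exact frob_ne_id hF (RingHom.ext hcon)
    have h1 := hc 1
    rw [map_one, one_mul, one_mul] at h1
    have h2 : (σ c - c) * A = 0 := by linear_combination hc c - c * h1
    exact (mul_eq_zero.1 h2).resolve_left (sub_ne_zero.2 hcc)
  have hzero : ∀ x, proj f q x = 0 := by
    intro x
    refine h_nondeg hF fun y => ?_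
    have e : y = proj f q y + ∑ i, h y (f i) • f i := by rw [proj]; abel
    rw [e, h_add_right hF, hpol, zero_add, h_sum_right hF]
    exact Finset.sum_eq_zero fun i _ => by rw [h_smul_right hF, hperp, mul_zero]
  let L : (Fin k → F) →ₗ[F] (Fin n → F) := Fintype.linearCombination F f
  have hsurj : Function.Surjective L := fun x => ⟨fun i => h x (f i), by
    rw [Fintype.linearCombination_apply]
    exact (sub_eq_zero.1 (hzero x)).symm⟩
  have := LinearMap.finrank_le_finrank_of_surjective hsurj
  simp only [Module.finrank_fintype_fun_eq_card, Fintype.card_fin] at this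
  omega

include hF in
theorem perp_one (hn : 2 ≤ n) {a : Fin n → F} (ha : h a a = 1) : ∃ u, h u u = 1 ∧ h u a = 0 := by
  obtain ⟨u, hu, hp⟩ := exists_unit_perp hF (k := 1) (by omega) ![a] (by
    intro i j; fin_cases i; fin_cases j; simp [ha])
  exact ⟨u, hu, hp 0⟩

include hF in
theorem perp_two_orth (hn : 3 ≤ n) {a b : Fin n → F} (ha : h a a = 1) (hb : h b b = 1) (hab : h a b = 0) :
    ∃ u, h u u = 1 ∧ h u a = 0 ∧ h u b = 0 := by
  obtain ⟨u, hu, hp⟩ := exists_unit_perp hF (k := 2) (by omega) ![a, b] (by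
    intro i j; fin_cases i <;> fin_cases j <;> simp [ha, hb, hab, swap_zero hF hab])
  exact ⟨u, hu, hp 0, hp 1⟩

include hF in
theorem perp_three_orth (hn : 4 ≤ n) {a b c : Fin n → F} (ha : h a a = 1) (hb : h b b = 1) (hc : h c c = 1)
    (hab : h a b = 0) (hac : h a c = 0) (hbc : h b c = 0) :
    ∃ u, h u u = 1 ∧ h u a = 0 ∧ h u b = 0 ∧ h u c = 0 := by
  obtain ⟨u, hu, hp⟩ := exists_unit_perp hF (k := 3) (by omega) ![a, b, c] (by
    intro i j; fin_cases i <;> fin_cases j <;>
      simp [ha, hb, hc, hab, hac, hbc, swap_zero hF hab, swap_zero hF hac, swap_zero hF hbc])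
  exact ⟨u, hu, hp 0, hp 1, hp 2⟩

include hF in
/-- A unit vector in a nondegenerate plane orthogonal to one of its unit vectors. -/
theorem plane_orth {a b : Fin n → F} (ha : h a a = 1) (hb : h b b = 1) (hab : h b a * σ (h b a) ≠ 1) :
    ∃ c : F, c ≠ 0 ∧ h (c • (b - h b a • a)) (c • (b - h b a • a)) = 1 ∧ h (c • (b - h b a • a)) a = 0 := by
  have e : h (b - h b a • a) a = 0 := by rw [h_sub_left, h_smul_left, ha, mul_one, sub_self]
  have e2 : h (b - h b a • a) (b - h b a • a) = 1 - h b a * σ (h b a) := by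
    have h1 : h (b - h b a • a) (b - h b a • a) = h (b - h b a • a) b := by
      conv_lhs => rw [h_sub_right hF]
      rw [h_smul_right hF, e, mul_zero, sub_zero]
    rw [h1, h_sub_left, h_smul_left, hb, ← h_swap hF b a]
  obtain ⟨c, hc0, hc⟩ := exists_unit_smul hF (v := b - h b a • a) (by rw [e2]; exact sub_ne_zero.2 hab.symm)
  exact ⟨c, hc0, hc, by rw [h_smul_left, e, mul_zero]⟩

include hF in
theorem perp_two_nondeg (hn : 3 ≤ n) {a b : Fin n → F} (ha : h a a = 1) (hb : h b b = 1)
    (hab : h b a * σ (h b a) ≠ 1) : ∃ u, h u u = 1 ∧ h u a = 0 ∧ h u b = 0 := by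
  obtain ⟨c, hc0, hc, hca⟩ := plane_orth hF ha hb hab
  obtain ⟨u, hu, hua, hub⟩ := perp_two_orth hF hn ha hc (swap_zero hF hca)
  refine ⟨u, hu, hua, ?_⟩
  rw [h_smul_right hF, mul_eq_zero] at hub
  have := hub.resolve_left (by simpa using hc0)
  rwa [sub_eq_add_neg, h_add_right hF, h_neg_right hF, h_smul_right hF, hua, mul_zero, neg_zero, add_zero] at this

include hF in
/-- Two further orthogonal unit vectors in the perp of a tangent line. -/
theorem tangent_pair {a r : Fin n → F} (ha : h a a = 1) (hr : h r r = 0) (hr0 : r ≠ 0) (hra : h r a = 0) :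
    ∃ u v : Fin n → F, h u u = 1 ∧ h v v = 1 ∧ h u v = 0 ∧ h u a = 0 ∧ h v a = 0 ∧
      ∀ x, h x u = 0 → h x v = 0 → h x r = 0 := by
  obtain ⟨y, hy⟩ : ∃ y, h y r ≠ 0 := by
    by_contra hh
    push Not at hh
    exact hr0 (h_nondeg hF fun y => swap_zero hF (hh y))
  set w := (h y r)⁻¹ • y with hw
  have hwr : h w r = 1 := by rw [hw, h_smul_left, inv_mul_cancel₀ hy]
  set u₀ := w - h w a • a with hu₀
  have hu0a : h u₀ a = 0 := by simp only [hu₀, h_sub_left, h_smul_left, ha, mul_one, sub_self]
  have hu0r : h u₀ r = 1 := by simp only [hu₀, h_sub_left, h_smul_left, swap_zero hF hra, mul_zero, sub_zero, hwr]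
  obtain ⟨l, hl⟩ := exists_trace hF (c := h u₀ u₀ - 1) (by rw [map_sub, map_one, h_self_fixed hF])
  set u := u₀ + σ l • r with hu
  have hru0 : h r u₀ = 1 := by rw [← h_swap hF u₀ r, hu0r, map_one]
  have huu : h u u = 1 := by
    simp only [hu, h_add_left, h_add_right hF, h_smul_left, h_smul_right hF, hr, hu0r, hru0, frob_frob]
    linear_combination hl
  have hua : h u a = 0 := by rw [hu, h_add_left, h_smul_left, hra, hu0a, mul_zero, add_zero]
  have hur : h u r = 1 := by rw [hu, h_add_left, h_smul_left, hr, mul_zero, add_zero, hu0r]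
  have hru : h r u = 1 := by rw [← h_swap hF u r, hur, map_one]
  set v₀ := r - u with hv₀
  have hv0 : h v₀ v₀ = -1 := by
    rw [hv₀, h_sub_left, h_sub_right hF, h_sub_right hF, hr, hru, hur, huu]
    ring
  obtain ⟨c, hc0, hc⟩ := exists_unit_smul hF (v := v₀) (by rw [hv0]; exact neg_ne_zero.2 one_ne_zero)
  refine ⟨u, c • v₀, huu, hc, ?_, hua, ?_, fun x hxu hxv => ?_⟩
  · rw [h_smul_right hF, hv₀, sub_eq_add_neg r, h_add_right hF, h_neg_right hF, hur, huu, add_neg_cancel, mul_zero]
  · rw [h_smul_left, hv₀, h_sub_left, hra, hua, sub_zero, mul_zero]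
  · rw [h_smul_right hF, mul_eq_zero] at hxv
    have := hxv.resolve_left (by simpa using hc0)
    rwa [hv₀, sub_eq_add_neg r, h_add_right hF, h_neg_right hF, hxu, neg_zero, add_zero] at this

include hF in
/-- A common neighbour. -/
theorem perp_two (hn : 4 ≤ n) {a b : Fin n → F} (ha : h a a = 1) (hb : h b b = 1) :
    ∃ u, h u u = 1 ∧ h u a = 0 ∧ h u b = 0 := by
  by_cases hab : h b a * σ (h b a) = 1
  swap
  · exact perp_two_nondeg hF (by omega) ha hb hab
  set r := b - h b a • a with hr
  have hra : h r a = 0 := by rw [hr, h_sub_left, h_smul_left, ha, mul_one, sub_self]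
  have hrr : h r r = 0 := by
    have h1 : h r r = h r b := by
      conv_lhs => rw [hr]
      rw [← hr]
      nth_rewrite 2 [hr]
      rw [sub_eq_add_neg b, h_add_right hF, h_neg_right hF, h_smul_right hF, hra, mul_zero, neg_zero, add_zero]
    rw [h1, hr, h_sub_left, h_smul_left, hb, ← h_swap hF b a, hab, sub_self]
  by_cases hr0 : r = 0
  · obtain ⟨u, hu, hua⟩ := perp_one hF (by omega) ha
    refine ⟨u, hu, hua, ?_⟩
    rw [sub_eq_zero.1 hr0, h_smul_right hF, hua, mul_zero]
  obtain ⟨u, v, hu, hv, huv, hua, hva, hx⟩ := tangent_pair hF ha hrr hr0 hra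
  obtain ⟨p, hp, hpa, hpu, hpv⟩ := perp_three_orth hF hn ha hu hv (swap_zero hF hua) (swap_zero hF hva) huv
  refine ⟨p, hp, hpa, ?_⟩
  have := hx p hpu hpv
  rwa [hr, sub_eq_add_neg b, h_add_right hF, h_neg_right hF, h_smul_right hF, hpa, mul_zero, neg_zero, add_zero] at this

include hF in
/-- A common neighbour of two orthogonal unit vectors and a third one. -/
theorem perp_three (hn : 4 ≤ n) {a b e : Fin n → F} (ha : h a a = 1) (hb : h b b = 1) (he : h e e = 1)
    (hbe : h b e = 0) (hK : h a b * σ (h a b) + h a e * σ (h a e) ≠ 1) :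
    ∃ u, h u u = 1 ∧ h u a = 0 ∧ h u b = 0 ∧ h u e = 0 := by
  set a' := a - h a b • b - h a e • e with ha'
  have hab : h a' b = 0 := by
    rw [ha', h_sub_left, h_sub_left, h_smul_left, h_smul_left, hb, swap_zero hF hbe]; ring
  have hae : h a' e = 0 := by
    rw [ha', h_sub_left, h_sub_left, h_smul_left, h_smul_left, he, hbe]; ring
  have hea : a = a' + h a b • b + h a e • e := by rw [ha']; abel
  have haa : h a' a' = 1 - (h a b * σ (h a b) + h a e * σ (h a e)) := by
    have h1 : h a' a' = h a' a := by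
      conv_rhs => rw [hea]
      rw [h_add_right hF, h_add_right hF, h_smul_right hF, h_smul_right hF, hab, hae]
      ring
    rw [h1, ha', h_sub_left, h_sub_left, h_smul_left, h_smul_left, ha, ← h_swap hF a b, ← h_swap hF a e]
    ring
  obtain ⟨c, hc0, hc⟩ := exists_unit_smul hF (v := a') (by rw [haa]; exact sub_ne_zero.2 hK.symm)
  obtain ⟨u, hu, hua, hub, hue⟩ := perp_three_orth hF hn hc hb he
    (by rw [h_smul_left, hab, mul_zero]) (by rw [h_smul_left, hae, mul_zero]) hbe
  refine ⟨u, hu, ?_, hub, hue⟩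
  rw [h_smul_right hF, mul_eq_zero] at hua
  rw [hea, h_add_right hF, h_add_right hF, h_smul_right hF, h_smul_right hF, hua.resolve_left (by simpa using hc0),
    hub, hue]
  ring

end CfsgLib.Phan
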