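import Cfsg.Agent.Lib.Phan.Basic
import Cfsg.Agent.Lib.Phan.Perp
import Cfsg.Agent.S0281
import Mathlib.LinearAlgebra.CrossProduct
import Mathlib.LinearAlgebra.Matrix.SchurComplement

/-!
Two `SU 2`-subgroups generating an `SU 3` and containing commuting cyclic tori of order `q + 1`
are the standard pair (Phan's theorem, reduction of S3708 to S3709).
-/

set_option autoImplicit false
set_option linter.unusedSectionVars false

namespace CfsgLib.Phan

open Matrix CfsgLib.UnitaryTransvection CfsgLib.UnitarySimple CfsgLib.SUCover CfsgLib.SUShort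

variable {F : Type*} [Field F] [Fintype F] {q : ℕ} (hF : Fintype.card F = q ^ 2)

local notation "σ" => frob hF
local notation "h" => Cfsg.hermForm 3 F q

/-- The stabiliser of a vector. -/
def Stab (v : Fin 3 → F) : Subgroup (Cfsg.SU 3 F q) where
  carrier := {g | mat g *ᵥ v = v}
  one_mem' := by show mat (1 : Cfsg.SU 3 F q) *ᵥ v = v; rw [mat_one, one_mulVec]
  mul_mem' {a b} ha hb := by
    show mat (a * b) *ᵥ v = v
    rw [mat_mul, ← mulVec_mulVec, show mat b *ᵥ v = v from hb, show mat a *ᵥ v = v from ha]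
  inv_mem' {a} ha := by
    show mat a⁻¹ *ᵥ v = v
    conv_lhs => rw [← show mat a *ᵥ v = v from ha]
    rw [mat_inv_mulVec']

theorem mem_Stab {v : Fin 3 → F} {g : Cfsg.SU 3 F q} : g ∈ Stab v ↔ mat g *ᵥ v = v := Iff.rfl

include hF in
theorem h_dot (v x : Fin 3 → F) : h v x = v ⬝ᵥ fun j => σ (x j) := by
  simp only [Cfsg.hermForm, dotProduct, frob_apply]

/-- The conjugated cross product: orthogonal to both arguments. -/
noncomputable def cv (a b : Fin 3 → F) : Fin 3 → F := (fun j => σ (a j)) ⨯₃ (fun j => σ (b j))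

include hF in
theorem cv_left (a b : Fin 3 → F) : h (cv hF a b) a = 0 := by
  rw [h_dot hF, cv, dotProduct_comm, dot_self_cross]

include hF in
theorem cv_right (a b : Fin 3 → F) : h (cv hF a b) b = 0 := by
  rw [h_dot hF, cv, dotProduct_comm, dot_cross_self]

include hF in
theorem cv_ne {a b : Fin 3 → F} (ha : a ≠ 0) (hb : ∀ t : F, t • a ≠ b) : cv hF a b ≠ 0 := by
  have ha' : (fun j => σ (a j)) ≠ 0 := fun e => ha (funext fun j => by
    have := congrFun e j
    simpa using this)
  rw [cv, crossProduct_ne_zero_iff_linearIndependent, LinearIndependent.pair_iff' ha']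
  intro t e
  refine hb (σ t) (funext fun j => ?_)
  have := congrArg σ (congrFun e j)
  simpa [frob_frob] using this

include hF in
theorem cv_span {a b v : Fin 3 → F} (hab : cv hF a b ≠ 0) (va : h v a = 0) (vb : h v b = 0) :
    ∃ t : F, v = t • cv hF a b := by
  by_contra hcon
  push Not at hcon
  rw [h_dot hF] at va vb
  have h1 : cv hF a b ⨯₃ v ≠ 0 := by
    rw [crossProduct_ne_zero_iff_linearIndependent, LinearIndependent.pair_iff' hab]
    exact fun t e => hcon t e.symm
  refine h1 ?_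
  rw [cv, cross_cross_eq_smul_sub_smul, dotProduct_comm _ v, dotProduct_comm _ v, va, vb]
  simp

include hF in
/-- No totally singular planes in dimension three. -/
theorem iso_dep {a b : Fin 3 → F} (ha : a ≠ 0) (haa : h a a = 0) (hbb : h b b = 0) (hba : h b a = 0) :
    ∃ t : F, t • a = b := by
  by_contra hcon
  push Not at hcon
  have hc := cv_ne hF ha hcon
  obtain ⟨t, ht⟩ := cv_span hF hc haa (swap_zero hF hba)
  obtain ⟨s, hs⟩ := cv_span hF hc hba hbb
  have ht0 : t ≠ 0 := fun e => ha (by rw [ht, e, zero_smul])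
  refine hcon (s / t) ?_
  calc (s / t) • a = (s / t) • (t • cv hF a b) := congrArg _ ht
    _ = s • cv hF a b := by rw [smul_smul, div_mul_cancel₀ s ht0]
    _ = b := hs.symm

theorem pow_mulVec {g : Cfsg.SU 3 F q} (c : Fin 3 → F) (hgc : mat g *ᵥ c = c) {w : Fin 3 → F} {t : F}
    (hw : mat g *ᵥ w = w + t • c) (k : ℕ) : mat (g ^ k) *ᵥ w = w + ((k : F) * t) • c := by
  induction k with
  | zero => simp [mat_one]
  | succ k ih =>
    rw [pow_succ', mat_mul, ← mulVec_mulVec, ih, mulVec_add, mulVec_smul, hgc, hw, add_assoc, ← add_smul]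
    push_cast
    ring_nf

/-- A determinant-one map moving everything along one line is a transvection. -/
theorem pow_char {p : ℕ} [CharP F p] {g : Cfsg.SU 3 F q} {c : Fin 3 → F}
    (hg : ∀ w : Fin 3 → F, ∃ t : F, mat g *ᵥ w = w + t • c) : g ^ p = 1 := by
  choose f hf using fun j => hg (Pi.single j (1 : F))
  have hM : mat g = 1 + vecMulVec c f := by
    ext i j
    have := congrFun (hf j) i
    rw [mulVec_single_one] at this
    simp only [Matrix.col_apply, Pi.add_apply, Pi.smul_apply, smul_eq_mul] at this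
    rw [this, Matrix.add_apply, vecMulVec_apply, mul_comm (f j)]
    simp [Matrix.one_apply, Pi.single_apply]
  have hd : 1 + f ⬝ᵥ c = 1 := by
    rw [← det_one_add_replicateCol_mul_replicateRow (ι := Unit) c f, ← vecMulVec_eq, ← hM]
    exact g.1.2
  have hgc : mat g *ᵥ c = c := by
    rw [hM, add_mulVec, one_mulVec, vecMulVec_mulVec]
    simp only [add_eq_left] at hd
    simp [hd]
  refine su_ext fun w => ?_
  obtain ⟨t, ht⟩ := hg w
  rw [pow_mulVec c hgc ht, CharP.cast_eq_zero, zero_mul, zero_smul, add_zero, mat_one, one_mulVec]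

include hF in
/-- An element fixing two independent vectors is a transvection. -/
theorem fix_two {p : ℕ} [CharP F p] {g : Cfsg.SU 3 F q} {a u : Fin 3 → F} (ha : a ≠ 0)
    (hu : ∀ t : F, t • a ≠ u) (ga : mat g *ᵥ a = a) (gu : mat g *ᵥ u = u) : g ^ p = 1 := by
  have hc := cv_ne hF ha hu
  refine pow_char (c := cv hF a u) fun w => ?_
  have e : ∀ x : Fin 3 → F, mat g *ᵥ x = x → h (mat g *ᵥ w - w) x = 0 := fun x hx => by
    have := su_h g w x
    rw [hx] at this
    rw [h_sub_left, this, sub_self]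
  obtain ⟨t, ht⟩ := cv_span hF hc (e a ga) (e u gu)
  exact ⟨t, by rw [← ht]; abel⟩

theorem eq_one_of_coprime {M : Type*} [Group M] {g : M} {a b : ℕ} (hab : Nat.Coprime a b) (ha : g ^ a = 1)
    (hb : g ^ b = 1) : g = 1 := by
  have := pow_gcd_eq_one.2 ⟨ha, hb⟩
  rwa [hab.gcd_eq_one, pow_one] at this

include hF in
theorem norm_one_smul {a : Fin 3 → F} (ha : h a a = 1) {t : F} (ht : h (t • a) (t • a) = 1) : t ≠ 0 :=
  fun e => one_ne_zero (by rw [← ht, e, zero_smul, h_zero_left hF] : (1 : F) = 0)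

/-! ### The fixed vector of an `SU 2` inside `SU 3` -/

include hF in
theorem su2_commutator (hq : 4 < q) : commutator (Cfsg.SU 2 F q) = ⊤ := by
  classical
  obtain ⟨K, _, _, hK⟩ := exists_K hF
  obtain ⟨e⟩ := Cfsg.Agent.S0281.result (F := F) hF hK
  obtain ⟨a, ha⟩ := Finset.exists_mem_notMem_of_card_lt_card (s := ({0, 1, -1} : Finset K)) (t := Finset.univ)
    (lt_of_le_of_lt Finset.card_le_three (by rw [Finset.card_univ, hK]; omega))
  simp only [Finset.mem_univ, Finset.mem_insert, Finset.mem_singleton, not_or, true_and] at ha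
  have hperf : commutator (Matrix.SpecialLinearGroup (Fin 2) K) = ⊤ :=
    Matrix.SL2.commutator_eq_top ha.1 (fun e' => by
      rcases mul_self_eq_one_iff.1 (show a * a = 1 by rw [← sq]; exact e') with e' | e'
      exacts [ha.2.1 e', ha.2.2 e'])
  have := congrArg (Subgroup.map e.symm.toMonoidHom) hperf
  rw [commutator_def, Subgroup.map_commutator, Subgroup.map_top_of_surjective e.symm.toMonoidHom e.symm.surjective] at this
  rw [commutator_def]
  exact this

include hF in
/-- A perfect group keeping a line fixes it pointwise. -/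
theorem fix_of_line {M : Type*} [Group M] (hM : commutator M = ⊤) (f : M →* Cfsg.SU 3 F q) {a : Fin 3 → F}
    (ha : a ≠ 0) (hf : ∀ x, ∃ t : F, mat (f x) *ᵥ a = t • a) (x : M) : mat (f x) *ᵥ a = a := by
  choose t ht using hf
  have hinj : Function.Injective fun c : F => c • a := smul_left_injective F ha
  let χ : M →* F :=
    { toFun := t
      map_one' := hinj (by show t 1 • a = (1 : F) • a; rw [← ht, map_one, mat_one, one_mulVec, one_smul])
      map_mul' := fun x y => hinj (by
        show t (x * y) • a = (t x * t y) • a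
        rw [← ht, map_mul, mat_mul, ← mulVec_mulVec, ht y, mulVec_smul, ht x, smul_smul, mul_comm]) }
  have h1 := Abelianization.commutator_subset_ker χ.toHomUnits (show x ∈ commutator M by rw [hM]; trivial)
  have h2 : t x = 1 := congrArg Units.val (MonoidHom.mem_ker.1 h1)
  rw [ht, h2, one_smul]

include hF in
/-- Odd characteristic: the fixed line of the central involution. -/
theorem fix_odd (hq : 4 < q) (h2 : (2 : F) ≠ 0) (f : Cfsg.SU 2 F q →* Cfsg.SU 3 F q) (hf : Function.Injective f) :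
    ∃ a : Fin 3 → F, h a a = 1 ∧ ∀ x, mat (f x) *ᵥ a = a := by
  classical
  obtain ⟨p, hp⟩ := CharP.exists F
  obtain ⟨hpp, j, -, hj⟩ := q_pow hF (p := p)
  haveI := Fact.mk hpp
  have hp2 : p ≠ 2 := fun e => h2 (by have := CharP.cast_eq_zero F p; rw [e] at this; exact_mod_cast this)
  obtain ⟨K, _, _, hK⟩ := exists_K hF
  obtain ⟨e⟩ := Cfsg.Agent.S0281.result (F := F) hF hK
  haveI : CharP K p := charP_of_card_eq_prime_pow (f := j) (by rw [hK, hj])
  let m : Matrix.SpecialLinearGroup (Fin 2) K := ⟨-1, by rw [Matrix.det_neg, Matrix.det_one, Fintype.card_fin, mul_one, neg_one_sq]⟩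
  have hm1 : m ≠ 1 := fun e' => by
    have e'' : (-1 : K) = 1 := by
      have := congrArg (fun X : Matrix.SpecialLinearGroup (Fin 2) K => X.1 0 0) e'
      simpa [m] using this
    exact Ring.neg_one_ne_one_of_char_ne_two (by rw [ringChar.eq K p]; exact hp2) e''
  have hm2 : m * m = 1 := Subtype.ext (show (-1 : Matrix (Fin 2) (Fin 2) K) * -1 = 1 by simp)
  have hmc : ∀ x, Commute m x := fun x => Subtype.ext (show (-1 : Matrix (Fin 2) (Fin 2) K) * x.1 = x.1 * -1 by simp)
  set z := f (e.symm m) with hz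
  have hz1 : z ≠ 1 := fun e' => hm1 (e.symm.injective (hf (by rw [← hz, e', map_one, map_one])))
  have hz2 : z * z = 1 := by rw [hz, ← map_mul, ← map_mul, hm2, map_one, map_one]
  have hzc : ∀ x, Commute z (f x) := fun x => by
    have := ((hmc (e x)).map e.symm.toMonoidHom).map f
    simpa using this
  have hzz : ∀ w, mat z *ᵥ (mat z *ᵥ w) = w := fun w => by
    rw [mulVec_mulVec, ← mat_mul, hz2, mat_one, one_mulVec]
  obtain ⟨w, hw⟩ : ∃ w, mat z *ᵥ w + w ≠ 0 := by
    by_contra hcon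
    push Not at hcon
    have hM : mat z = -1 := by
      ext i j
      have := congrFun (hcon (Pi.single j 1)) i
      rw [mulVec_single_one] at this
      simp only [Matrix.col_apply, Pi.add_apply, Pi.zero_apply] at this
      rw [eq_neg_of_add_eq_zero_left this, Matrix.neg_apply]
      simp [Matrix.one_apply, Pi.single_apply]
    have hd : (mat z).det = 1 := z.1.2
    rw [hM, det_neg, det_one, Fintype.card_fin, mul_one] at hd
    exact h2 (by linear_combination -hd)
  set a := mat z *ᵥ w + w with ha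
  have za : mat z *ᵥ a = a := by rw [ha, mulVec_add, hzz, add_comm]
  have uniq : ∀ u, mat z *ᵥ u = u → ∃ t : F, t • a = u := fun u hu => by
    by_contra hcon
    push Not at hcon
    refine hz1 (eq_one_of_coprime (a := p) (b := 2) ?_ (fix_two hF hw hcon za hu) (by rw [sq, hz2]))
    exact (Nat.coprime_primes hpp Nat.prime_two).2 hp2
  have haa : h a a ≠ 0 := fun e' => hw (h_nondeg hF fun v => swap_zero hF (by
    obtain ⟨t, ht⟩ := uniq (mat z *ᵥ v + v) (by rw [mulVec_add, hzz, add_comm])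
    have e1 : h (mat z *ᵥ v) a = h v a := by conv_lhs => rw [← za, su_h]
    have e2 := congrArg (fun u => h u a) ht
    simp only [h_smul_left, e', mul_zero, h_add_left, e1] at e2
    exact (mul_eq_zero.1 (show (2 : F) * h v a = 0 by linear_combination -e2)).resolve_left h2))
  obtain ⟨c, hc0, hc⟩ := exists_unit_smul hF haa
  refine ⟨c • a, hc, fun x => ?_⟩
  rw [mulVec_smul, fix_of_line hF (su2_commutator hF hq) f hw (fun x => ?_) x]
  obtain ⟨t, ht⟩ := uniq (mat (f x) *ᵥ a) (by
    rw [mulVec_mulVec, ← mat_mul, (hzc x).eq, mat_mul, ← mulVec_mulVec, za])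
  exact ⟨t, ht.symm⟩

include hF in
/-- Even characteristic: the centre of an involution. -/
theorem exists_centre (h2 : (2 : F) = 0) {x : Cfsg.SU 3 F q} (hx : x * x = 1) (hx1 : x ≠ 1) :
    ∃ v : Fin 3 → F, v ≠ 0 ∧ h v v = 0 ∧ mat x *ᵥ v = v ∧ (∀ w, ∃ t : F, mat x *ᵥ w = w + t • v) ∧
      ∀ y : Cfsg.SU 3 F q, y * y = 1 → Commute x y → ∀ a, h a v = 0 → mat y *ᵥ a = a := by
  classical
  have neg : ∀ s : F, -s = s := fun s => by linear_combination -s * h2
  have negv : ∀ s : Fin 3 → F, -s = s := fun s => funext fun j => neg (s j)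
  have sym : ∀ y : Cfsg.SU 3 F q, y * y = 1 → ∀ u w, h (mat y *ᵥ u) w = h u (mat y *ᵥ w) := fun y hy u w => by
    conv_lhs => rw [show w = mat y *ᵥ (mat y *ᵥ w) by rw [mulVec_mulVec, ← mat_mul, hy, mat_one, one_mulVec]]
    rw [su_h]
  obtain ⟨u, hu⟩ : ∃ u, mat x *ᵥ u ≠ u := by
    by_contra hcon
    push Not at hcon
    exact hx1 (su_ext fun w => by rw [hcon, mat_one, one_mulVec])
  -- all moved parts are singular and orthogonal
  have key : ∀ y : Cfsg.SU 3 F q, y * y = 1 → ∀ u w, h (mat y *ᵥ u - u) (mat y *ᵥ w - w) = 0 := fun y hy u w => by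
    rw [h_sub_left, h_sub_right hF, h_sub_right hF, su_h, ← sym y hy u w]
    linear_combination (h u w - h (mat y *ᵥ u) w) * h2
  set v := mat x *ᵥ u - u with hv
  have hv0 : v ≠ 0 := sub_ne_zero.2 hu
  have hxx : ∀ w, mat x *ᵥ (mat x *ᵥ w) = w := fun w => by rw [mulVec_mulVec, ← mat_mul, hx, mat_one, one_mulVec]
  refine ⟨v, hv0, key x hx u u, ?_, fun w => ?_, fun y hy hxy a ha => ?_⟩
  · rw [hv, mulVec_sub, hxx]
    conv_rhs => rw [← negv (mat x *ᵥ u - u)]
    abel
  · obtain ⟨t, ht⟩ := iso_dep hF hv0 (key x hx u u) (key x hx w w) (key x hx w u)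
    exact ⟨t, by rw [ht]; abel⟩
  -- `y` fixes `v`
  have hyv : mat y *ᵥ v = v := by
    obtain ⟨t, ht⟩ := iso_dep hF hv0 (key x hx u u) (key x hx (mat y *ᵥ u) (mat y *ᵥ u)) (key x hx (mat y *ᵥ u) u)
    have e : mat y *ᵥ v = t • v := by
      rw [ht, hv, mulVec_sub, mulVec_mulVec, ← mat_mul, ← hxy.eq, mat_mul, ← mulVec_mulVec]
    have e2 : mat y *ᵥ (mat y *ᵥ v) = v := by rw [mulVec_mulVec, ← mat_mul, hy, mat_one, one_mulVec]
    rw [e, mulVec_smul, e, smul_smul] at e2
    have ht1 : t * t = 1 := smul_left_injective F hv0 (by simpa using e2)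
    have : (t - 1) * (t - 1) = 0 := by linear_combination ht1 + (1 - t) * h2
    rw [e, sub_eq_zero.1 (mul_self_eq_zero.1 this), one_smul]
  by_contra hne
  obtain ⟨t, ht⟩ := iso_dep hF hv0 (key x hx u u) (key y hy a a)
    (show h (mat y *ᵥ a - a) v = 0 by rw [h_sub_left, sym y hy, hyv, sub_self])
  obtain ⟨s, hs⟩ : ∃ s : F, s • (mat y *ᵥ a - a) = v := by
    refine ⟨t⁻¹, ?_⟩
    have ht0 : t ≠ 0 := fun e => hne (sub_eq_zero.1 (by rw [← ht, e, zero_smul]))
    rw [← ht, smul_smul, inv_mul_cancel₀ ht0, one_smul]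
  -- `v ⊥ a` forces the moved part to vanish
  refine hne (sub_eq_zero.1 (h_nondeg hF fun w => ?_))
  obtain ⟨r, hr⟩ := iso_dep hF (sub_ne_zero.2 hne) (key y hy a a) (key y hy w w) (key y hy w a)
  rw [h_sub_left, sym y hy, ← h_sub_right hF, ← hr, h_smul_right hF]
  rw [← hs, h_smul_right hF, mul_eq_zero] at ha
  rcases ha with ha | ha
  · exact absurd (show s = 0 by simpa using ha) (fun e => hv0 (by rw [← hs, e, zero_smul]))
  · rw [ha, mul_zero]

include hF in
/-- Even characteristic: the common fixed vector. -/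
theorem fix_even (h2 : (2 : F) = 0) (f : Cfsg.SU 2 F q →* Cfsg.SU 3 F q) (hf : Function.Injective f) :
    ∃ a : Fin 3 → F, h a a = 1 ∧ ∀ x, mat (f x) *ᵥ a = a := by
  classical
  obtain ⟨p, hp⟩ := CharP.exists F
  obtain ⟨hpp, j, -, hj⟩ := q_pow hF (p := p)
  haveI := Fact.mk hpp
  have hp2 : p = 2 := ((Nat.dvd_prime Nat.prime_two).1
    ((CharP.cast_eq_zero_iff F p 2).1 (by exact_mod_cast h2))).resolve_left hpp.ne_one
  obtain ⟨K, _, _, hK⟩ := exists_K hF
  obtain ⟨e⟩ := Cfsg.Agent.S0281.result (F := F) hF hK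
  haveI : CharP K p := charP_of_card_eq_prime_pow (f := j) (by rw [hK, hj])
  have hK2 : (2 : K) = 0 := by have := CharP.cast_eq_zero K p; rw [hp2] at this; exact_mod_cast this
  let T : (i k : Fin 2) → i ≠ k → K → Matrix.SpecialLinearGroup (Fin 2) K := fun i k hik c =>
    Matrix.SpecialLinearGroup.transvection hik c
  have hTmul : ∀ (i k : Fin 2) (hik : i ≠ k) (c d : K), T i k hik c * T i k hik d = T i k hik (c + d) := by
    intro i k hik c d
    refine Subtype.ext ?_
    show Matrix.transvection i k c * Matrix.transvection i k d = Matrix.transvection i k (c + d)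
    rw [Matrix.transvection_mul_transvection_same i k hik]
  have hT2 : ∀ (i k : Fin 2) (hik : i ≠ k) (c : K), T i k hik c * T i k hik c = 1 := by
    intro i k hik c
    rw [hTmul, show c + c = 0 by linear_combination c * hK2]
    exact Subtype.ext (Matrix.transvection_zero i k)
  have hTc : ∀ (i k : Fin 2) (hik : i ≠ k) (c d : K), Commute (T i k hik c) (T i k hik d) := by
    intro i k hik c d
    show _ = _
    rw [hTmul, hTmul, add_comm]
  set g := f.comp e.symm.toMonoidHom with hg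
  have hginj : Function.Injective g := hf.comp e.symm.injective
  set X := g (T 0 1 (by decide) 1) with hX
  set Y := g (T 1 0 (by decide) 1) with hY
  have hXY : X * Y ≠ Y * X := fun e' => by
    rw [hX, hY, ← map_mul, ← map_mul] at e'
    have h' : Matrix.transvection (0 : Fin 2) 1 (1 : K) * Matrix.transvection 1 0 1 =
        Matrix.transvection 1 0 1 * Matrix.transvection 0 1 1 :=
      congrArg (fun M : Matrix.SpecialLinearGroup (Fin 2) K => M.1) (hginj e')
    have := congrFun (congrFun h' 1) 1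
    simp [Matrix.transvection, Matrix.mul_apply, Fin.sum_univ_two] at this
  have hX1 : X ≠ 1 := fun e' => hXY (by rw [e', one_mul, mul_one])
  have hY1 : Y ≠ 1 := fun e' => hXY (by rw [e', one_mul, mul_one])
  obtain ⟨v, hv0, hvv, hXv, hXw, hv⟩ := exists_centre hF h2 (x := X) (by rw [hX, ← map_mul, hT2, map_one]) hX1
  obtain ⟨v', hv0', hvv', hYv', hYw, hv'⟩ := exists_centre hF h2 (x := Y) (by rw [hY, ← map_mul, hT2, map_one]) hY1
  have hXX : X * X = 1 := by rw [hX, ← map_mul, hT2, map_one]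
  have hYY : Y * Y = 1 := by rw [hY, ← map_mul, hT2, map_one]
  -- the centres differ
  have hdiff : ∀ t : F, t • v ≠ v' := fun t ht => hXY (su_ext fun w => by
    have hYv : mat Y *ᵥ v = v := hv' Y hYY (Commute.refl Y) v (by rw [← ht, h_smul_right hF, hvv, mul_zero])
    obtain ⟨r, hr⟩ := hXw w
    obtain ⟨s, hs⟩ := hYw w
    have hXv' : mat X *ᵥ v' = v' := by rw [← ht, mulVec_smul, hXv]
    simp only [mat_mul, ← mulVec_mulVec, hr, hs, mulVec_add, mulVec_smul, hXv', hYv]
    abel)
  set c := cv hF v v' with hc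
  have hc0 : c ≠ 0 := cv_ne hF hv0 hdiff
  have hcc : h c c ≠ 0 := fun e' => by
    obtain ⟨t, ht⟩ := iso_dep hF hv0 hvv e' (cv_left hF v v')
    obtain ⟨s, hs⟩ := iso_dep hF hv0' hvv' e' (cv_right hF v v')
    have hs0 : s ≠ 0 := fun e'' => hc0 (by rw [← hs, e'', zero_smul])
    exact hdiff (t / s) (by rw [div_eq_inv_mul, mul_smul, ht, ← hs, smul_smul, inv_mul_cancel₀ hs0, one_smul])
  obtain ⟨d, hd0, hd⟩ := exists_unit_smul hF hcc
  refine ⟨d • c, hd, fun x => ?_⟩
  suffices ∀ M, mat (g M) *ᵥ c = c by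
    rw [mulVec_smul]
    simpa [hg] using congrArg (d • ·) (this (e x))
  intro M
  refine Matrix.SL2.transvection_induction (fun M => mat (g M) *ᵥ c = c) (fun i k hik r => ?_)
    (fun A B hA hB => ?_) M
  · have hsq : g (T i k hik r) * g (T i k hik r) = 1 := by rw [← map_mul, hT2, map_one]
    fin_cases i <;> fin_cases k
    · exact absurd rfl hik
    · exact hv _ hsq ((hTc _ _ _ _ _).map g) c (cv_left hF v v')
    · exact hv' _ hsq ((hTc _ _ _ _ _).map g) c (cv_right hF v v')
    · exact absurd rfl hik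
  · show mat (g (A * B)) *ᵥ c = c
    rw [map_mul, mat_mul, ← mulVec_mulVec, show mat (g B) *ᵥ c = c from hB, show mat (g A) *ᵥ c = c from hA]

/-! ### Stabilisers of unit vectors -/

include hF in
theorem supp_zero_one : (Supp {0, 1} : Subgroup (Cfsg.SU 3 F q)) = Stab (ev1 2) := by
  ext g
  constructor
  · exact fun hg => hg 2 (by decide)
  · intro hg j hj
    obtain rfl : j = 2 := by
      revert hj; revert j; decide
    exact hg

include hF in
theorem supp_one_two : (Supp {1, 2} : Subgroup (Cfsg.SU 3 F q)) = Stab (ev1 0) := by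
  ext g
  constructor
  · exact fun hg => hg 0 (by decide)
  · intro hg j hj
    obtain rfl : j = 0 := by
      revert hj; revert j; decide
    exact hg

include hF in
theorem stab_conj (g : Cfsg.SU 3 F q) (v : Fin 3 → F) :
    (Stab v).map (MulAut.conj g).toMonoidHom = Stab (mat g *ᵥ v) := by
  ext x
  simp only [Subgroup.mem_map, mem_Stab, MulEquiv.coe_toMonoidHom, MulAut.conj_apply]
  constructor
  · rintro ⟨y, hy, rfl⟩
    rw [mat_mul, mat_mul, ← mulVec_mulVec, ← mulVec_mulVec, mat_inv_mulVec', hy]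
  · intro hx
    refine ⟨g⁻¹ * x * g, ?_, by group⟩
    rw [mat_mul, mat_mul, ← mulVec_mulVec, ← mulVec_mulVec, hx, mat_inv_mulVec']

include hF in
theorem card_stab {a : Fin 3 → F} (ha : h a a = 1) :
    Nat.card (Stab (q := q) a) = Nat.card (Cfsg.SU 2 F q) := by
  obtain ⟨g, hg⟩ := su_move hF (u := ev1 (2 : Fin 3)) (v := a) (norm_one_ne_zero hF (h_ev1_self hF _))
    (norm_one_ne_zero hF ha) (by rw [h_ev1_self hF, ha]) (Or.inr le_rfl)
  rw [← hg, ← stab_conj hF g, ← supp_zero_one hF,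
    Subgroup.card_map_of_injective (MulAut.conj g).injective]
  have hr : (emb hF 2 3 0 (by omega) : Cfsg.SU 2 F q →* Cfsg.SU 3 F q).range = Supp {0, 1} := by
    have hw : wset 2 3 0 = ({0, 1} : Finset (Fin 3)) := by decide
    apply le_antisymm
    · rintro _ ⟨A, rfl⟩
      rw [← hw]
      exact emb_mem hF _ A
    · intro x hx
      rw [← hw] at hx
      obtain ⟨A, hA⟩ := exists_emb hF (by omega) hx
      exact ⟨A, hA⟩
  rw [← hr]
  exact (Nat.card_congr (MonoidHom.ofInjective (emb_injective hF _)).toEquiv).symm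

include hF in
/-- An injective image of `SU 2` in `SU 3` is the stabiliser of a unit vector. -/
theorem range_eq_stab (hq : 4 < q) (f : Cfsg.SU 2 F q →* Cfsg.SU 3 F q) (hf : Function.Injective f) :
    ∃ a : Fin 3 → F, h a a = 1 ∧ f.range = Stab a := by
  obtain ⟨a, ha, hfix⟩ : ∃ a : Fin 3 → F, h a a = 1 ∧ ∀ x, mat (f x) *ᵥ a = a := by
    by_cases h2 : (2 : F) = 0
    · exact fix_even hF h2 f hf
    · exact fix_odd hF hq h2 f hf
  have hle : f.range ≤ Stab a := by
    rintro _ ⟨x, rfl⟩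
    exact hfix x
  refine ⟨a, ha, Subgroup.eq_of_le_of_card_ge hle (le_of_eq ?_)⟩
  rw [card_stab hF ha]
  exact Nat.card_congr (MonoidHom.ofInjective hf).toEquiv

include hF in
/-- An element of order `q + 1` fixing `a` fixes only the line of `a`. -/
theorem torus_line {X : Cfsg.SU 3 F q} (hX : orderOf X = q + 1) {a u : Fin 3 → F} (ha : a ≠ 0)
    (Xa : mat X *ᵥ a = a) (Xu : mat X *ᵥ u = u) : ∃ t : F, t • a = u := by
  by_contra hcon
  push Not at hcon
  obtain ⟨p, hp⟩ := CharP.exists F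
  obtain ⟨hpp, j, hj0, hj⟩ := q_pow hF (p := p)
  have hco : Nat.Coprime p (q + 1) := hpp.coprime_iff_not_dvd.2 fun hd => by
    have hpq : p ∣ q := hj ▸ dvd_pow_self p hj0.ne'
    exact hpp.ne_one (Nat.dvd_one.1 ((Nat.dvd_add_right hpq).1 hd))
  have := eq_one_of_coprime hco (fix_two hF ha hcon Xa Xu) (hX ▸ pow_orderOf_eq_one X)
  rw [this, orderOf_one] at hX
  have := q_gt_one hF
  omega

include hF in
/-- Two `SU 2`-subgroups generating an `SU 3`, with commuting cyclic tori, form a standard pair. -/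
theorem standard_pair {G : Type*} [Group G] (hq : 4 < q) {A B : Subgroup G}
    (eA : Cfsg.SU 2 F q ≃* A) (eB : Cfsg.SU 2 F q ≃* B) {DA DB : Subgroup G} (hA : DA ≤ A) (hB : DB ≤ B)
    (cA : IsCyclic DA) (cB : IsCyclic DB) (nA : Nat.card DA = q + 1) (nB : Nat.card DB = q + 1)
    (hc : ∀ x ∈ DA, ∀ y ∈ DB, x * y = y * x) (h3 : Nonempty (↥(A ⊔ B) ≃* Cfsg.SU 3 F q)) :
    Cfsg.IsStandardUnitaryPair (A ⊔ B) A B F q := by
  obtain ⟨φ⟩ := h3
  set fA : Cfsg.SU 2 F q →* Cfsg.SU 3 F q :=
    φ.toMonoidHom.comp ((Subgroup.inclusion le_sup_left).comp eA.toMonoidHom) with hfA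
  set fB : Cfsg.SU 2 F q →* Cfsg.SU 3 F q :=
    φ.toMonoidHom.comp ((Subgroup.inclusion le_sup_right).comp eB.toMonoidHom) with hfB
  have hAi : Function.Injective fA :=
    φ.injective.comp ((Subgroup.inclusion_injective (le_sup_left : A ≤ A ⊔ B)).comp eA.injective)
  have hBi : Function.Injective fB :=
    φ.injective.comp ((Subgroup.inclusion_injective (le_sup_right : B ≤ A ⊔ B)).comp eB.injective)
  obtain ⟨a, ha, hAr⟩ := range_eq_stab hF hq fA hAi
  obtain ⟨b, hb, hBr⟩ := range_eq_stab hF hq fB hBi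
  have ha0 : a ≠ 0 := norm_one_ne_zero hF ha
  have hb0 : b ≠ 0 := norm_one_ne_zero hF hb
  -- back in `G`
  set ι : Cfsg.SU 3 F q →* G := (A ⊔ B).subtype.comp φ.symm.toMonoidHom with hι
  have hιA : fA.range.map ι = A := by
    rw [MonoidHom.map_range, show ι.comp fA = A.subtype.comp eA.toMonoidHom from MonoidHom.ext fun x => by
      simp [hι, hfA]]
    rw [MonoidHom.range_comp, MonoidHom.range_eq_top.2 eA.surjective, ← MonoidHom.range_eq_map, Subgroup.range_subtype]
  have hιB : fB.range.map ι = B := by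
    rw [MonoidHom.map_range, show ι.comp fB = B.subtype.comp eB.toMonoidHom from MonoidHom.ext fun x => by
      simp [hι, hfB]]
    rw [MonoidHom.range_comp, MonoidHom.range_eq_top.2 eB.surjective, ← MonoidHom.range_eq_map, Subgroup.range_subtype]
  -- the two lines differ
  have hne : ∀ t : F, t • b ≠ a := fun t ht => by
    have ht0 : t ≠ 0 := fun e => ha0 (by rw [← ht, e, zero_smul])
    have hS : Stab (q := q) a = Stab b := by
      ext g
      rw [mem_Stab, mem_Stab, ← ht, mulVec_smul]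
      exact (smul_right_injective (Fin 3 → F) ht0).eq_iff
    have hAB : A = B := by rw [← hιA, hAr, hS, ← hBr, hιB]
    have hsurj : Function.Surjective fA := fun y => by
      have hy : (φ.symm y : G) ∈ A := by
        have := (φ.symm y).2
        simp only [← hAB, sup_idem] at this
        exact this
      refine ⟨eA.symm ⟨_, hy⟩, ?_⟩
      show φ (Subgroup.inclusion le_sup_left (eA (eA.symm ⟨_, hy⟩))) = y
      rw [MulEquiv.apply_symm_apply, ← φ.eq_symm_apply]
      rfl
    obtain ⟨ω, hω1, hω⟩ := exists_omega hF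
    obtain ⟨g, hg⟩ := su_move hF (u := a) (v := ω • a) ha0
      (norm_one_ne_zero hF (by rw [h_smul_left, h_smul_right hF, ha, mul_one, hω]))
      (by rw [ha, h_smul_left, h_smul_right hF, ha, mul_one, hω]) (Or.inr le_rfl)
    obtain ⟨x, hx⟩ := hsurj g
    have : mat g *ᵥ a = a := mem_Stab.1 (hAr ▸ ⟨x, hx⟩)
    exact hω1 (smul_left_injective F ha0 (by show ω • a = (1 : F) • a; rw [← hg, this, one_smul]))
  -- the tori
  obtain ⟨⟨x₀, hx₀⟩, hxo⟩ := IsCyclic.exists_ofOrder_eq_natCard (α := DA)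
  obtain ⟨⟨y₀, hy₀⟩, hyo⟩ := IsCyclic.exists_ofOrder_eq_natCard (α := DB)
  rw [nA, ← Subgroup.orderOf_coe] at hxo
  rw [nB, ← Subgroup.orderOf_coe] at hyo
  set X := φ ⟨x₀, Subgroup.mem_sup_left (hA hx₀)⟩ with hX
  set Y := φ ⟨y₀, Subgroup.mem_sup_right (hB hy₀)⟩ with hY
  have hXa : mat X *ᵥ a = a := mem_Stab.1 (hAr ▸ ⟨eA.symm ⟨x₀, hA hx₀⟩, by simp [hfA, hX]; rfl⟩)
  have hYb : mat Y *ᵥ b = b := mem_Stab.1 (hBr ▸ ⟨eB.symm ⟨y₀, hB hy₀⟩, by simp [hfB, hY]; rfl⟩)
  have hXo : orderOf X = q + 1 := by rw [hX, MulEquiv.orderOf_eq, ← Subgroup.orderOf_coe]; exact hxo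
  have hYo : orderOf Y = q + 1 := by rw [hY, MulEquiv.orderOf_eq, ← Subgroup.orderOf_coe]; exact hyo
  have hXY : X * Y = Y * X := by
    rw [hX, hY, ← map_mul, ← map_mul]
    exact congrArg φ (Subtype.ext (hc x₀ hx₀ y₀ hy₀))
  obtain ⟨m, hm⟩ := torus_line hF hXo ha0 hXa (u := mat Y *ᵥ a)
    (by rw [mulVec_mulVec, ← mat_mul, hXY, mat_mul, ← mulVec_mulVec, hXa])
  have hab : h a b = 0 := by
    by_cases hm1 : m = 1
    · exfalso
      obtain ⟨t, ht⟩ := torus_line hF hYo hb0 hYb (u := a) (by rw [← hm, hm1, one_smul])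
      exact hne t ht
    · have e := su_h Y a b
      rw [← hm, hYb, h_smul_left] at e
      exact (mul_eq_zero.1 (show (m - 1) * h a b = 0 by linear_combination e)).resolve_left (sub_ne_zero.2 hm1)
  -- the frame
  obtain ⟨g₁, hg₁⟩ := su_move hF (u := ev1 (0 : Fin 3)) (v := b) (norm_one_ne_zero hF (h_ev1_self hF _)) hb0
    (by rw [h_ev1_self hF, hb]) (Or.inr le_rfl)
  set w := mat g₁⁻¹ *ᵥ a with hw
  have hw0 : w 0 = 0 := by
    rw [← h_ev1 hF w 0, ← su_h g₁, hw, mat_inv_mulVec, hg₁, hab]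
  have hww : h w w = 1 := by rw [hw, su_h, ha]
  obtain ⟨k, hk, hkw⟩ := supp_move hF ({1, 2} : Finset (Fin 3)) (u := w) (v := ev1 2)
    (fun j hj => by
      obtain rfl : j = 0 := by
        revert hj; revert j; decide
      exact hw0)
    (vs_ev1 (by decide)) (norm_one_ne_zero hF hww) (norm_one_ne_zero hF (h_ev1_self hF _))
    (by rw [hww, h_ev1_self hF]) (Or.inl ⟨by rw [hww]; exact one_ne_zero, by decide⟩)
  set g := g₁ * k⁻¹ with hg
  have hg2 : mat g *ᵥ ev1 2 = a := by
    rw [hg, mat_mul, ← mulVec_mulVec, ← hkw, mat_inv_mulVec', hw, mat_inv_mulVec]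
  have hg0 : mat g *ᵥ ev1 0 = b := by
    rw [hg, mat_mul, ← mulVec_mulVec, (inv_mem hk : k⁻¹ ∈ Supp _) 0 (by decide), hg₁]
  refine Or.inl ⟨(MulAut.conj g).trans φ.symm, ?_, ?_⟩
  · rw [show ({0, 1} : Set (Fin 3)) = ↑({0, 1} : Finset (Fin 3)) by simp, suBlock_eq hF, supp_zero_one hF]
    conv_rhs => rw [← hιA, hAr, ← hg2, ← stab_conj hF g, Subgroup.map_map]
    rfl
  · rw [show ({1, 2} : Set (Fin 3)) = ↑({1, 2} : Finset (Fin 3)) by simp, suBlock_eq hF, supp_one_two hF]
    conv_rhs => rw [← hιB, hBr, ← hg0, ← stab_conj hF g, Subgroup.map_map]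
    rfl

end CfsgLib.Phan
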