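import Cfsg.Agent.Lib.Phan.Step
import Cfsg.Agent.S2530

/-!
Permutation matrices in characteristic two, and homomorphisms from the symmetric group.
-/

set_option autoImplicit false
set_option linter.unusedSectionVars false

namespace CfsgLib.Phan

open Equiv Matrix CfsgLib.UnitaryTransvection CfsgLib.UnitarySimple CfsgLib.SUCover CfsgLib.SUShort

/-- The adjacent transpositions above a bound generate the permutations fixing what is below. -/
theorem perm_window {N : ℕ} (H : Subgroup (Perm (Fin N))) (a : ℕ) :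
    ∀ k, (∀ j, ∀ h : j + 1 < N, a ≤ j → j + 1 < a + k → swap (⟨j, by omega⟩ : Fin N) ⟨j + 1, h⟩ ∈ H) →
      ∀ s : Perm (Fin N), (∀ x : Fin N, ((x : ℕ) < a ∨ a + k ≤ x) → s x = x) → s ∈ H := by
  intro k
  induction k with
  | zero =>
    intro _ s hs
    rw [show s = 1 from Perm.ext fun x => hs x (by omega)]
    exact one_mem H
  | succ k ih =>
    intro hH s hs
    have IH := ih (fun j h h1 h2 => hH j h h1 (by omega))
    by_cases hN : a + k < N
    swap
    · exact IH s fun x hx => hs x (by omega)
    set t : Fin N := ⟨a + k, hN⟩ with ht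
    -- all transpositions with the top
    have tr : ∀ d, ∀ i : Fin N, a ≤ (i : ℕ) → (i : ℕ) + d = a + k → swap i t ∈ H := by
      intro d
      induction d with
      | zero =>
        intro i _ hi
        rw [show i = t from Fin.ext (by simpa using hi), swap_self]
        exact one_mem H
      | succ d ihd =>
        intro i hia hid
        have h1 : (i : ℕ) + 1 < N := by omega
        have hadj := hH i h1 hia (by omega)
        have hrec := ihd ⟨i + 1, h1⟩ (show a ≤ (i : ℕ) + 1 by omega) (show (i : ℕ) + 1 + d = a + k by omega)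
        rcases Nat.eq_zero_or_pos d with rfl | hd
        · rwa [show t = ⟨(i : ℕ) + 1, h1⟩ from Fin.ext (show a + k = (i : ℕ) + 1 by omega)]
        · have hne1 : t ≠ i := fun e => by have := congrArg Fin.val e; simp [ht] at this; omega
          have hne2 : t ≠ (⟨(i : ℕ) + 1, h1⟩ : Fin N) := fun e => by
            have := congrArg Fin.val e; simp [ht] at this; omega
          have := mul_mem (mul_mem hadj hrec) (inv_mem hadj)
          rwa [← swap_apply_apply, swap_apply_right, swap_apply_of_ne_of_ne hne1 hne2] at this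
    by_cases hst : s t = t
    · exact IH s fun x hx => if e : x = t then e ▸ hst else hs x (by
        rcases hx with hx | hx
        · exact Or.inl hx
        · have : (x : ℕ) ≠ a + k := fun e' => e (Fin.ext e')
          exact Or.inr (by omega))
    have hwin : a ≤ (s t : ℕ) ∧ (s t : ℕ) ≤ a + k := by
      by_contra hcon
      exact hst (s.injective (hs (s t) (by omega)))
    have h' : swap (s t) t * s ∈ H := IH _ fun x hx => by
      by_cases e : x = t
      · subst e; simp
      · have hxk : (x : ℕ) < a ∨ a + (k + 1) ≤ x := by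
          rcases hx with hx | hx
          · exact Or.inl hx
          · have : (x : ℕ) ≠ a + k := fun e' => e (Fin.ext e')
            exact Or.inr (by omega)
        rw [Perm.mul_apply, hs x hxk, swap_apply_of_ne_of_ne (fun e' => by rw [e'] at hxk; omega) e]
    have hsw := tr (a + k - (s t : ℕ)) (s t) hwin.1 (by omega)
    have := mul_mem (inv_mem hsw) h'
    rwa [inv_mul_cancel_left] at this

/-- Coxeter relations give a homomorphism from the symmetric group. -/
theorem exists_sym_hom {G : Type*} [Group G] (n : ℕ) (v : ℕ → G) (hsq : ∀ i, i < n → v i * v i = 1)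
    (hadj : ∀ i, i + 1 < n → (v i * v (i + 1)) ^ 3 = 1)
    (hfar : ∀ i j, i + 2 ≤ j → j < n → Commute (v i) (v j)) :
    ∃ φ : Perm (Fin (n + 1)) →* G, ∀ i, ∀ h : i < n,
      φ (swap (⟨i, by omega⟩ : Fin (n + 1)) ⟨i + 1, by omega⟩) = v i := by
  obtain ⟨cs, hcs⟩ := Cfsg.Agent.S2530.result n
  have hlift : (CoxeterMatrix.A n).IsLiftable (fun i : Fin n => v i) := by
    intro i j
    rcases eq_or_ne i j with rfl | hij
    · simp [CoxeterMatrix.A, hsq i i.isLt]
    · have hij' : i.val ≠ j.val := fun e => hij (Fin.ext e)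
      by_cases h1 : i.val + 1 = j.val ∨ j.val + 1 = i.val
      · have hM : (CoxeterMatrix.A n) i j = 3 := by simp [CoxeterMatrix.A, hij]; omega
        rw [hM]
        show (v i * v j) ^ 3 = 1
        rcases h1 with h1 | h1
        · rw [← h1]; exact hadj i (by omega)
        · have e := hadj j (by omega)
          rw [h1] at e
          calc (v i * v j) ^ 3 = (v j)⁻¹ * (v j * v i) ^ 3 * v j := by simp only [pow_succ, pow_zero, one_mul]; group
            _ = 1 := by rw [e, mul_one, inv_mul_cancel]
      · have hM : (CoxeterMatrix.A n) i j = 2 := by simp [CoxeterMatrix.A, hij]; omega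
        rw [hM]
        have hc : Commute (v i) (v j) := by
          rcases Nat.lt_or_ge i.val j.val with h2 | h2
          exacts [hfar i j (by omega) j.isLt, (hfar j i (by omega) i.isLt).symm]
        rw [hc.mul_pow, sq, sq, hsq i i.isLt, hsq j j.isLt, mul_one]
  refine ⟨cs.lift ⟨fun i : Fin n => v i, hlift⟩, fun i h => ?_⟩
  rw [show swap (⟨i, by omega⟩ : Fin (n + 1)) ⟨i + 1, by omega⟩ = cs.simple ⟨i, h⟩ from (hcs ⟨i, h⟩).symm]
  exact cs.lift_apply_simple hlift ⟨i, h⟩

variable {F : Type*} [Field F] [Fintype F] {q : ℕ} (hF : Fintype.card F = q ^ 2) (hq : q = 2)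

include hF hq in
theorem two_eq_zero : (2 : F) = 0 := by
  obtain ⟨p, _⟩ := CharP.exists F
  obtain ⟨hp, j, hj, hpj⟩ := q_pow (F := F) hF (p := p)
  have hp2 : p = 2 := (Nat.prime_dvd_prime_iff_eq hp Nat.prime_two).1
    (by rw [← hq, hpj]; exact dvd_pow_self p (by omega))
  have h0 := CharP.cast_eq_zero F p
  rw [hp2] at h0
  exact_mod_cast h0

include hF hq in
theorem sign_one {n : ℕ} (s : Perm (Fin n)) : ((Perm.sign s : ℤ) : F) = 1 := by
  rcases Int.units_eq_one_or (Perm.sign s) with e | e <;> rw [e]
  · simp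
  · simp only [Units.val_neg, Units.val_one, Int.cast_neg, Int.cast_one]
    linear_combination -(two_eq_zero hF hq)

/-- The permutation matrices. -/
noncomputable def perm2 (n : ℕ) : Perm (Fin n) →* Cfsg.SU n F q :=
  MonoidHom.mk' (fun s => permSU hF s⁻¹ (sign_one hF hq _)) fun s t => by
    rw [permSU_mul]
    exact su_eq_of_mat (by rw [mat_permSU, mat_permSU, _root_.mul_inv_rev])

theorem perm2_ev1 {n : ℕ} (s : Perm (Fin n)) (j : Fin n) :
    mat (perm2 hF hq n s) *ᵥ (ev1 j : Fin n → F) = ev1 (s j) := by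
  funext i
  show ((1 : Matrix (Fin n) (Fin n) F).submatrix ⇑s⁻¹ id *ᵥ Pi.single j 1) i = _
  rw [Matrix.mulVec_single_one, Matrix.col_apply, Matrix.submatrix_apply, id_eq, Matrix.one_apply, ev1,
    Pi.single_apply]
  simp [Equiv.Perm.inv_eq_iff_eq, Equiv.symm_apply_eq]

theorem pmA_eq_perm2 {n : ℕ} (s : alternatingGroup (Fin n)) : pmA hF s = perm2 hF hq n s := by
  refine su_ext fun x => ?_
  rw [sum_ev1 x, mulVec_sum, mulVec_sum]
  refine Finset.sum_congr rfl fun j _ => ?_
  rw [mulVec_smul, mulVec_smul, pmA_ev1, perm2_ev1]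

include hF in
theorem su_ext_ev1 {n : ℕ} {g k : Cfsg.SU n F q} (h : ∀ j, mat g *ᵥ (ev1 j : Fin n → F) = mat k *ᵥ ev1 j) : g = k := by
  refine su_ext fun x => ?_
  rw [sum_ev1 x, mulVec_sum, mulVec_sum]
  exact Finset.sum_congr rfl fun j _ => by rw [mulVec_smul, mulVec_smul, h j]

/-- A permutation of a window, embedded. -/
theorem emb_perm2 {k n i : ℕ} (h : i + k ≤ n) (s : Perm (Fin k)) (t : Perm (Fin n))
    (hin : ∀ a, t (win k n i h a) = win k n i h (s a)) (hout : ∀ x, x ∉ wset k n i → t x = x) :
    emb hF k n i h (perm2 hF hq k s) = perm2 hF hq n t := by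
  refine su_ext_ev1 hF fun j => ?_
  by_cases hj : j ∈ wset k n i
  · rw [← map_win h, Finset.mem_map] at hj
    obtain ⟨a, -, rfl⟩ := hj
    rw [perm2_ev1, hin]
    have := (emb_ev hF h (perm2 hF hq k s) a (s a) 1).2 (by rw [one_smul, perm2_ev1])
    rwa [one_smul] at this
  · rw [perm2_ev1, hout j hj, emb_fix hF h _ hj]

end CfsgLib.Phan
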