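import Cfsg.Agent.Lib.Phan.Basic
import Cfsg.Agent.Lib.Phan.Cover

/-!
Phan's induction step: homomorphisms of `SU m` on the last `m` coordinates and of `SU 3` on the first
three, agreeing on the common block and with commuting outer blocks, extend to `SU (m + 1)`.
-/

set_option autoImplicit false
set_option linter.unusedSectionVars false

namespace CfsgLib.Phan

open Matrix CfsgLib.UnitaryTransvection CfsgLib.UnitarySimple CfsgLib.SUCover CfsgLib.SUShort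

variable {F : Type*} [Field F] [Fintype F] {q : ℕ} (hF : Fintype.card F = q ^ 2)

/-! ### Lines and windows -/

theorem Par.mulVec {n : ℕ} (g : Cfsg.SU n F q) {u v : Fin n → F} (e : Par u v) :
    Par (mat g *ᵥ u) (mat g *ᵥ v) := by
  obtain ⟨c, hc, rfl⟩ := e
  exact ⟨c, hc, by rw [mulVec_smul]⟩

theorem mat_mul_mulVec {n : ℕ} (a b : Cfsg.SU n F q) (v : Fin n → F) :
    mat (a * b) *ᵥ v = mat a *ᵥ (mat b *ᵥ v) := by rw [mat_mul, mulVec_mulVec]

theorem mat_mulVec_inv' {n : ℕ} (g : Cfsg.SU n F q) (v : Fin n → F) : mat g *ᵥ (mat g⁻¹ *ᵥ v) = v := by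
  rw [← mat_mul_mulVec, mul_inv_cancel, mat_one, one_mulVec]

theorem Par.cancel {n : ℕ} (g : Cfsg.SU n F q) {u v : Fin n → F} (e : Par (mat g *ᵥ u) (mat g *ᵥ v)) : Par u v := by
  have := e.mulVec g⁻¹
  rwa [mat_inv_mulVec', mat_inv_mulVec'] at this

theorem ev1_comp {k n : ℕ} (f : Fin k ↪ Fin n) (i : Fin k) : (ev1 (f i) : Fin n → F) ∘ f = ev1 i := by
  funext c
  simp [ev1, Pi.single_apply]

include hF in
theorem emb_vec {k n i : ℕ} (h : i + k ≤ n) (A : Cfsg.SU k F q) {v w : Fin n → F}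
    (e : mat A *ᵥ (v ∘ win k n i h) = w ∘ win k n i h) (o : ∀ j, j ∉ wset k n i → v j = w j) :
    mat (emb hF k n i h A) *ᵥ v = w := by
  funext j
  by_cases hj : j ∈ wset k n i
  · rw [← map_win h, Finset.mem_map] at hj
    obtain ⟨a, -, rfl⟩ := hj
    rw [emb_mulVec, e]
    rfl
  · rw [supp_coord hF (emb_mem hF h A) v hj]
    exact o j hj

include hF in
theorem emb_ev {k n i : ℕ} (h : i + k ≤ n) (A : Cfsg.SU k F q) (a b : Fin k) (c : F) :
    mat (emb hF k n i h A) *ᵥ ev1 (win k n i h a) = c • ev1 (win k n i h b) ↔ mat A *ᵥ ev1 a = c • ev1 b := by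
  constructor
  · intro e
    funext x
    have := congrFun e (win k n i h x)
    rw [emb_mulVec, ev1_comp] at this
    rw [this]
    simp [ev1, Pi.single_apply]
  · intro e
    refine emb_vec hF h A ?_ fun j hj => ?_
    · rw [ev1_comp, e]
      funext x
      simp [ev1, Pi.single_apply]
    · have hne : ∀ x, j ≠ win k n i h x := fun x ex => hj (by
        rw [← map_win h]; exact Finset.mem_map.2 ⟨x, Finset.mem_univ _, ex.symm⟩)
      simp [ev1, hne a, hne b]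

/-! ### The data -/

/-- The two homomorphisms to be glued. -/
structure StepData (m : ℕ) (G : Type*) [Group G] where
  hm : 3 ≤ m
  hq : 4 ≤ q ∨ (q = 3 ∧ 4 ≤ m)
  T : Cfsg.SU m F q →* G
  W : Cfsg.SU 3 F q →* G
  agree : ∀ x, T (emb hF 2 m 0 (by omega) x) = W (emb hF 2 3 1 (by omega) x)
  comm : ∀ x ∈ (Supp (wset 2 3 0) : Subgroup (Cfsg.SU 3 F q)),
    ∀ y ∈ (Supp (wset (m - 1) m 1) : Subgroup (Cfsg.SU m F q)), Commute (W x) (T y)

namespace StepData

variable {hF} {m : ℕ} {G : Type*} [Group G] (D : StepData hF m G)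

local notation "N" => m + 1
local notation "P" => G × Cfsg.SU N F q

include D in
theorem three_le : 3 ≤ m := D.hm

/-- The first coordinate. -/
def i0 (_D : StepData hF m G) : Fin N := ⟨0, by omega⟩

/-- The second coordinate. -/
def i1 : Fin N := ⟨1, by have := D.hm; omega⟩

/-- The third coordinate. -/
def i2 : Fin N := ⟨2, by have := D.hm; omega⟩

/-- The first coordinate of the tail. -/
def t0 : Fin m := ⟨0, by have := D.hm; omega⟩

/-- The second coordinate of the tail. -/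
def t1 : Fin m := ⟨1, by have := D.hm; omega⟩

/-- The tail embedding. -/
noncomputable def ι (_D : StepData hF m G) : Cfsg.SU m F q →* Cfsg.SU N F q := emb hF m N 1 (by omega)

/-- The head embedding. -/
noncomputable def κ : Cfsg.SU 3 F q →* Cfsg.SU N F q := emb hF 3 N 0 (by have := D.hm; omega)

/-- The tail in the product. -/
noncomputable def gT : Cfsg.SU m F q →* P := D.T.prod D.ι

/-- The head in the product. -/
noncomputable def gW : Cfsg.SU 3 F q →* P := D.W.prod D.κ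

theorem win_t0 : win m N 1 (by omega) D.t0 = D.i1 := rfl

theorem win_t1 : win m N 1 (by omega) D.t1 = D.i2 := rfl

theorem win_z : win 3 N 0 (by have := D.hm; omega) 0 = D.i0 := rfl

theorem win_o : win 3 N 0 (by have := D.hm; omega) 1 = D.i1 := rfl

theorem win_w : win 3 N 0 (by have := D.hm; omega) 2 = D.i2 := rfl

theorem κ_ev (w : Cfsg.SU 3 F q) (a b : Fin 3) (c : F) :
    mat (D.κ w) *ᵥ ev1 (win 3 N 0 (by have := D.hm; omega) a) = c • ev1 (win 3 N 0 (by have := D.hm; omega) b) ↔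
      mat w *ᵥ ev1 a = c • ev1 b := emb_ev hF _ w a b c

theorem ι_i0 (a : Cfsg.SU m F q) : mat (D.ι a) *ᵥ ev1 D.i0 = ev1 D.i0 :=
  emb_fix hF _ a (by rw [mem_wset]; simp [i0])

theorem gW_T (x : Cfsg.SU 2 F q) :
    D.gT (emb hF 2 m 0 (by have := D.hm; omega) x) = D.gW (emb hF 2 3 1 (by omega) x) := by
  refine Prod.ext (D.agree x) ?_
  show D.ι _ = D.κ _
  rw [ι, κ, emb_emb, emb_emb]

theorem mem_gT_of_tail {w : Cfsg.SU 3 F q} (hw : w ∈ (Supp (wset 2 3 1) : Subgroup (Cfsg.SU 3 F q))) :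
    D.gW w ∈ D.gT.range := by
  obtain ⟨x, rfl⟩ := exists_emb hF (by omega) hw
  exact ⟨_, D.gW_T x⟩

theorem tail_shrink {a : Cfsg.SU m F q} (h : mat a *ᵥ ev1 D.t0 = ev1 D.t0) :
    a ∈ (Supp (wset (m - 1) m 1) : Subgroup (Cfsg.SU m F q)) := by
  intro j hj
  rw [mem_wset] at hj
  have : j = D.t0 := Fin.ext (show (j : ℕ) = 0 by omega)
  rw [this, h]

theorem head_shrink {w : Cfsg.SU 3 F q} (h : mat w *ᵥ ev1 0 = ev1 0) :
    w ∈ (Supp (wset 2 3 1) : Subgroup (Cfsg.SU 3 F q)) := by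
  intro j hj
  rw [mem_wset] at hj
  have : j = 0 := Fin.ext (show (j : ℕ) = 0 by omega)
  rw [this, h]

theorem outer_commute {x : Cfsg.SU 3 F q} (hx : x ∈ (Supp (wset 2 3 0) : Subgroup (Cfsg.SU 3 F q)))
    {y : Cfsg.SU m F q} (hy : y ∈ (Supp (wset (m - 1) m 1) : Subgroup (Cfsg.SU m F q))) :
    Commute (D.gW x) (D.gT y) := by
  have hm := D.hm
  refine Prod.ext (D.comm x hx y hy).eq ?_
  obtain ⟨x', rfl⟩ := exists_emb hF (by omega) hx
  obtain ⟨y', rfl⟩ := exists_emb hF (by omega) hy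
  show D.κ _ * D.ι _ = D.ι _ * D.κ _
  rw [ι, κ, emb_emb, emb_emb]
  exact (emb_commute hF _ _ (by omega) x' y').eq

/-! ### The point stabiliser -/

/-- The stabiliser of the first point in the first block. -/
def T0 (_D : StepData hF m G) : Subgroup (Cfsg.SU 3 F q) where
  carrier := {x | x ∈ (Supp (wset 2 3 0) : Subgroup (Cfsg.SU 3 F q)) ∧ Par (ev1 0) (mat x *ᵥ ev1 0)}
  one_mem' := ⟨one_mem _, by rw [mat_one, one_mulVec]; exact Par.rfl⟩
  mul_mem' {a b} ha hb := ⟨mul_mem ha.1 hb.1, by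
    rw [mat_mul_mulVec]; exact ha.2.trans (hb.2.mulVec a)⟩
  inv_mem' {a} ha := ⟨inv_mem ha.1, by
    have := (ha.2.mulVec a⁻¹).symm
    rwa [mat_inv_mulVec'] at this⟩

theorem T0_other {t : Cfsg.SU 3 F q} (ht : t ∈ D.T0) : Par (ev1 1) (mat t *ᵥ ev1 1) := by
  obtain ⟨c, hc, e⟩ := ht.2
  have hs : (wset 2 3 0 : Finset (Fin 3)) = {0, 1} := by decide
  obtain ⟨d, hd, e'⟩ := pair_other hF (show (0 : Fin 3) ≠ 1 by decide) (Or.inl ⟨rfl, rfl⟩) (hs ▸ ht.1) e
  exact ⟨d, hd, e'⟩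

include D in
theorem tail_gen (a : Cfsg.SU m F q) :
    a ∈ (Supp (wset 2 m 0) : Subgroup (Cfsg.SU m F q)) ⊔ Supp (wset (m - 1) m 1) := by
  have hm := D.hm
  have hmem : a ∈ (Supp Finset.univ : Subgroup (Cfsg.SU m F q)) := fun j hj => absurd (Finset.mem_univ j) hj
  by_cases h4 : 4 ≤ m
  · have hu : (Finset.univ : Finset (Fin m)) = insert D.t0 (wset (m - 1) m 1) := by
      ext j
      have := j.isLt
      simp only [Finset.mem_univ, Finset.mem_insert, mem_wset, true_iff]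
      by_cases hj : (j : ℕ) = 0
      · exact Or.inl (Fin.ext hj)
      · exact Or.inr (by omega)
    have hp : ({D.t1, D.t0} : Finset (Fin m)) = wset 2 m 0 := by
      ext j
      simp only [Finset.mem_insert, Finset.mem_singleton, mem_wset, Fin.ext_iff, t0, t1]
      omega
    have hc : 3 ≤ (wset (m - 1) m 1).card := by
      rw [← map_win (show 1 + (m - 1) ≤ m by omega), Finset.card_map, Finset.card_univ, Fintype.card_fin]
      omega
    rw [hu] at hmem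
    have := supp_gen hF (S := wset (m - 1) m 1) (b := D.t1) (l := D.t0)
      (by rw [mem_wset]; simp [t1]; omega) (by rw [mem_wset]; simp [t0]) hc hmem
    rwa [hp, sup_comm] at this
  · obtain rfl : m = 3 := by omega
    have hu : (Finset.univ : Finset (Fin 3)) = {0, 1, 2} := by decide
    rw [hu] at hmem
    have := supp_gen_two hF (a := (0 : Fin 3)) (b := 1) (l := 2) (by decide) (by decide) (by decide)
      (by rcases D.hq with h | ⟨h, -⟩ <;> omega) hmem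
    rwa [show (wset 2 3 0 : Finset (Fin 3)) = {0, 1} by decide,
      show (wset (3 - 1) 3 1 : Finset (Fin 3)) = {1, 2} by decide]

theorem T0_conj {t : Cfsg.SU 3 F q} (ht : t ∈ D.T0) (a : Cfsg.SU m F q) :
    D.gW t * D.gT a * (D.gW t)⁻¹ ∈ D.gT.range := by
  have key : (Supp (wset 2 m 0) : Subgroup (Cfsg.SU m F q)) ⊔ Supp (wset (m - 1) m 1) ≤
      D.gT.range.comap ((MulAut.conj (D.gW t)).toMonoidHom.comp D.gT) := by
    refine sup_le (fun b hb => ?_) (fun b hb => ?_)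
    · obtain ⟨x, rfl⟩ := exists_emb hF (by have := D.hm; omega) hb
      rw [Subgroup.mem_comap, MonoidHom.comp_apply, MulEquiv.coe_toMonoidHom, MulAut.conj_apply, gW_T,
        ← map_inv, ← map_mul, ← map_mul]
      refine D.mem_gT_of_tail (head_shrink ?_)
      obtain ⟨c, hc, e⟩ := ht.2
      have hf := emb_fix hF (show 1 + 2 ≤ 3 by omega) x (j := (0 : Fin 3)) (by decide)
      have e' : mat t⁻¹ *ᵥ (ev1 0 : Fin 3 → F) = c⁻¹ • ev1 0 := by
        have := congrArg (fun v => c⁻¹ • (mat t⁻¹ *ᵥ v)) e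
        simp only [mat_inv_mulVec', mulVec_smul, smul_smul, inv_mul_cancel₀ hc, one_smul] at this
        exact this.symm
      rw [mat_mul_mulVec, mat_mul_mulVec, e', mulVec_smul, hf, mulVec_smul, e, smul_smul,
        inv_mul_cancel₀ hc, one_smul]
    · rw [Subgroup.mem_comap, MonoidHom.comp_apply, MulEquiv.coe_toMonoidHom, MulAut.conj_apply,
        (D.outer_commute ht.1 hb).eq, mul_inv_cancel_right]
      exact ⟨b, rfl⟩
  exact key (D.tail_gen a)

/-- The stabiliser of the first point in the product. -/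
def Stab : Subgroup P where
  carrier := {γ | ∃ t ∈ D.T0, ∃ a, γ = D.gW t * D.gT a}
  one_mem' := ⟨1, one_mem _, 1, by rw [map_one, map_one, one_mul]⟩
  mul_mem' := by
    rintro _ _ ⟨t, ht, a, rfl⟩ ⟨t', ht', a', rfl⟩
    obtain ⟨b, hb⟩ := D.T0_conj (inv_mem ht') a
    rw [map_inv, inv_inv] at hb
    refine ⟨t * t', mul_mem ht ht', b * a', ?_⟩
    rw [map_mul, map_mul, hb]
    group
  inv_mem' := by
    rintro _ ⟨t, ht, a, rfl⟩
    obtain ⟨b, hb⟩ := D.T0_conj ht a⁻¹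
    refine ⟨t⁻¹, inv_mem ht, b, ?_⟩
    rw [map_inv, hb, map_inv]
    group

theorem gT_mem_stab (a : Cfsg.SU m F q) : D.gT a ∈ D.Stab := ⟨1, one_mem _, a, by rw [map_one, one_mul]⟩

theorem stab_line {γ : P} (h : γ ∈ D.Stab) : Par (ev1 D.i0) (mat γ.2 *ᵥ ev1 D.i0) := by
  obtain ⟨t, ht, a, rfl⟩ := h
  obtain ⟨c, hc, e⟩ := ht.2
  refine ⟨c, hc, ?_⟩
  show mat (D.κ t * D.ι a) *ᵥ ev1 D.i0 = _
  rw [mat_mul_mulVec, D.ι_i0, ← D.win_z]
  exact (D.κ_ev t 0 0 c).2 e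

theorem W_stab {w : Cfsg.SU 3 F q} (h : Par (ev1 0) (mat w *ᵥ ev1 0)) : D.gW w ∈ D.Stab := by
  obtain ⟨c, hc, e⟩ := h
  have h0 : (0 : Fin 3) ∈ wset 2 3 0 := by decide
  have hv : Vs (wset 2 3 0) (c • ev1 0 : Fin 3 → F) := fun j hj => by
    rw [Pi.smul_apply, vs_ev1 h0 j hj, smul_zero]
  have hcc : Cfsg.hermForm 3 F q (c • ev1 0) (c • ev1 0) = 1 := by rw [← e, su_h, h_ev1_self hF]
  obtain ⟨t, ht, hte⟩ := supp_move hF (wset 2 3 0) (vs_ev1 h0) hv
    (norm_one_ne_zero hF (h_ev1_self hF (0 : Fin 3))) (norm_one_ne_zero hF hcc)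
    (by rw [h_ev1_self hF, hcc]) (Or.inl ⟨by rw [h_ev1_self hF]; exact one_ne_zero, by decide⟩)
  have hx : mat (t⁻¹ * w) *ᵥ ev1 0 = (ev1 0 : Fin 3 → F) := by
    rw [mat_mul_mulVec, e, ← hte, mat_inv_mulVec']
  obtain ⟨a, ha⟩ := D.mem_gT_of_tail (head_shrink hx)
  exact ⟨t, ⟨ht, c, hc, hte⟩, a, by rw [ha, ← map_mul, mul_inv_cancel_left]⟩

theorem stab_inj {γ : P} (h : γ ∈ D.Stab) (h1 : γ.2 = 1) : γ = 1 := by
  obtain ⟨t, ht, a, rfl⟩ := h
  have hκι : D.κ t * D.ι a = 1 := h1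
  have hfix : mat t *ᵥ ev1 0 = (1 : F) • ev1 0 := by
    rw [← D.κ_ev, D.win_z, one_smul]
    have := congrArg (fun g => mat g *ᵥ (ev1 D.i0 : Fin N → F)) hκι
    simp only [mat_mul_mulVec, D.ι_i0, mat_one, one_mulVec] at this
    exact this
  rw [one_smul] at hfix
  have ht1 : t = 1 := supp_single hF (1 : Fin 3) (fun j hj => by
    by_cases h0 : j = 0
    · rw [h0, hfix]
    · refine ht.1 j ?_
      simp only [Finset.mem_singleton, Fin.ext_iff] at hj
      simp only [Fin.ext_iff] at h0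
      rw [mem_wset]
      simp at hj h0 ⊢
      omega)
  subst ht1
  rw [map_one, one_mul] at hκι
  have ha : a = 1 := emb_injective hF _ (by rw [map_one]; exact hκι)
  rw [ha, map_one, map_one, one_mul]

include hF in
theorem exists_s0 : ∃ x ∈ (Supp (wset 2 3 0) : Subgroup (Cfsg.SU 3 F q)), mat x *ᵥ ev1 0 = ev1 1 :=
  supp_move hF (wset 2 3 0) (vs_ev1 (by decide)) (vs_ev1 (by decide))
    (norm_one_ne_zero hF (h_ev1_self hF (0 : Fin 3))) (norm_one_ne_zero hF (h_ev1_self hF (1 : Fin 3)))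
    (by rw [h_ev1_self hF, h_ev1_self hF]) (Or.inl ⟨by rw [h_ev1_self hF]; exact one_ne_zero, by decide⟩)

include hF in
theorem exists_s1 : ∃ x ∈ (Supp (wset 2 3 1) : Subgroup (Cfsg.SU 3 F q)), mat x *ᵥ ev1 1 = ev1 2 :=
  supp_move hF (wset 2 3 1) (vs_ev1 (by decide)) (vs_ev1 (by decide))
    (norm_one_ne_zero hF (h_ev1_self hF (1 : Fin 3))) (norm_one_ne_zero hF (h_ev1_self hF (2 : Fin 3)))
    (by rw [h_ev1_self hF, h_ev1_self hF]) (Or.inl ⟨by rw [h_ev1_self hF]; exact one_ne_zero, by decide⟩)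

/-- An element of the first block moving the first point to the second. -/
noncomputable def s0 (_D : StepData hF m G) : Cfsg.SU 3 F q := (exists_s0 (hF := hF)).choose

/-- An element of the second block moving the second point to the third. -/
noncomputable def s1 (_D : StepData hF m G) : Cfsg.SU 3 F q := (exists_s1 (hF := hF)).choose

theorem s0_mem : D.s0 ∈ (Supp (wset 2 3 0) : Subgroup (Cfsg.SU 3 F q)) := (exists_s0 (hF := hF)).choose_spec.1

theorem s0_0 : mat D.s0 *ᵥ ev1 0 = ev1 1 := (exists_s0 (hF := hF)).choose_spec.2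

theorem s0_1 : Par (ev1 0) (mat D.s0 *ᵥ ev1 1) := by
  have hs : (wset 2 3 0 : Finset (Fin 3)) = {0, 1} := by decide
  obtain ⟨d, hd, e⟩ := pair_other hF (show (0 : Fin 3) ≠ 1 by decide) (Or.inr ⟨rfl, rfl⟩) (hs ▸ D.s0_mem)
    (c := 1) (by rw [one_smul]; exact D.s0_0)
  exact ⟨d, hd, e⟩

theorem s1_mem : D.s1 ∈ (Supp (wset 2 3 1) : Subgroup (Cfsg.SU 3 F q)) := (exists_s1 (hF := hF)).choose_spec.1

theorem s1_1 : mat D.s1 *ᵥ ev1 1 = ev1 2 := (exists_s1 (hF := hF)).choose_spec.2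

theorem s1_0 : mat D.s1 *ᵥ ev1 0 = ev1 0 := D.s1_mem 0 (by decide)

/-- The step. -/
noncomputable def s : P := D.gW D.s0

theorem s_i0 : mat D.s.2 *ᵥ ev1 D.i0 = ev1 D.i1 := by
  have := (D.κ_ev D.s0 0 1 1).2 (by rw [one_smul]; exact D.s0_0)
  rwa [one_smul] at this

theorem gT_s {a : Cfsg.SU m F q} (ha : a ∈ (Supp (wset (m - 1) m 1) : Subgroup (Cfsg.SU m F q))) :
    Commute D.s (D.gT a) := D.outer_commute D.s0_mem ha

theorem s_sq : D.s * D.s ∈ D.Stab := by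
  rw [s, ← map_mul]
  exact D.W_stab (by rw [mat_mul_mulVec, D.s0_0]; exact D.s0_1)

/-- The elements fixing two orthogonal lines. -/
theorem stab_conj {l : P} (hl : l ∈ D.Stab) (h1 : Par (ev1 D.i1) (mat l.2 *ᵥ ev1 D.i1)) :
    D.s⁻¹ * l * D.s ∈ D.Stab := by
  have hm := D.hm
  obtain ⟨t, ht, a, rfl⟩ := hl
  obtain ⟨d, hd, ed⟩ := D.T0_other ht
  have hκ : Par (mat (D.κ t) *ᵥ ev1 D.i1) (ev1 D.i1) := by
    refine (Par.symm ?_)
    exact ⟨d, hd, by rw [← D.win_o]; exact (D.κ_ev t 1 1 d).2 ed⟩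
  have h1' : Par (mat (D.κ t) *ᵥ ev1 D.i1) (mat (D.κ t) *ᵥ (mat (D.ι a) *ᵥ ev1 D.i1)) := by
    rw [← mat_mul_mulVec]; exact hκ.trans h1
  obtain ⟨c, hc, ec⟩ := h1'.cancel
  have ea : mat a *ᵥ ev1 D.t0 = c • ev1 D.t0 := by
    rw [← emb_ev hF (show 1 + m ≤ N by omega)]
    exact ec
  have h0 : D.t0 ∈ wset 2 m 0 := by rw [mem_wset]; simp [t0]
  have hcc : Cfsg.hermForm m F q (c • ev1 D.t0) (c • ev1 D.t0) = 1 := by rw [← ea, su_h, h_ev1_self hF]
  obtain ⟨a', ha', hae⟩ := supp_move hF (wset 2 m 0) (vs_ev1 h0)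
    (fun j hj => by rw [Pi.smul_apply, vs_ev1 h0 j hj, smul_zero] : Vs (wset 2 m 0) (c • ev1 D.t0 : Fin m → F))
    (norm_one_ne_zero hF (h_ev1_self hF D.t0)) (norm_one_ne_zero hF hcc) (by rw [h_ev1_self hF, hcc])
    (Or.inl ⟨by rw [h_ev1_self hF]; exact one_ne_zero, by
      rw [← map_win (show 0 + 2 ≤ m by omega), Finset.card_map, Finset.card_univ, Fintype.card_fin]⟩)
  have hb : a'⁻¹ * a ∈ (Supp (wset (m - 1) m 1) : Subgroup (Cfsg.SU m F q)) :=
    D.tail_shrink (by rw [mat_mul_mulVec, ea, ← hae, mat_inv_mulVec'])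
  obtain ⟨x, rfl⟩ := exists_emb hF (show 0 + 2 ≤ m by omega) ha'
  have hx : mat (emb hF 2 3 1 (by omega) x) *ᵥ ev1 1 = c • ev1 1 := by
    have hx2 : mat x *ᵥ ev1 0 = c • ev1 0 := (emb_ev hF (show 0 + 2 ≤ m by omega) x 0 0 c).1 hae
    exact (emb_ev hF (show 1 + 2 ≤ 3 by omega) x 0 0 c).2 hx2
  set b := (emb hF 2 m 0 (by omega) x)⁻¹ * a with hbdef
  have ha2 : a = emb hF 2 m 0 (by omega) x * b := by rw [hbdef, mul_inv_cancel_left]
  set y := emb hF 2 3 1 (by omega) x with hy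
  have e1 : D.gT a = D.gW y * D.gT b := by
    rw [ha2, map_mul, D.gW_T]
  have e2 : D.s⁻¹ * (D.gW t * D.gT a) * D.s = D.gW (D.s0⁻¹ * t * y * D.s0) * D.gT b := by
    rw [e1, mul_assoc D.s⁻¹, mul_assoc (D.gW t), mul_assoc (D.gW y), ← (D.gT_s hb).eq, s]
    simp only [map_mul, map_inv, mul_assoc]
  rw [e2]
  refine mul_mem (D.W_stab ?_) (D.gT_mem_stab _)
  rw [mat_mul_mulVec, mat_mul_mulVec, D.s0_0, mat_mul_mulVec, hx, mulVec_smul, ed, mulVec_smul, mulVec_smul]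
  have := ((D.s0_1.mulVec D.s0⁻¹).symm)
  rw [mat_inv_mulVec'] at this
  obtain ⟨k, hk, ek⟩ := (show Par (ev1 0) (mat D.s0⁻¹ *ᵥ ev1 1) by
    rw [← D.s0_0, mat_inv_mulVec']; exact Par.rfl)
  exact ⟨c * (d * k), mul_ne_zero hc (mul_ne_zero hd hk), by rw [ek, smul_smul, smul_smul, mul_assoc]⟩

/-! ### The covering -/

/-- The point below a coset. -/
noncomputable def vec (x : P ⧸ D.Stab) : Fin N → F := mat x.out.2 *ᵥ ev1 D.i0

theorem vec_mk (γ : P) : Par (D.vec (γ : P ⧸ D.Stab)) (mat γ.2 *ᵥ ev1 D.i0) := by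
  obtain ⟨⟨l, hl⟩, e⟩ := QuotientGroup.mk_out_eq_mul D.Stab γ
  refine Par.symm ?_
  rw [vec, e]
  show Par _ (mat (γ.2 * l.2) *ᵥ ev1 D.i0)
  rw [mat_mul_mulVec]
  exact (D.stab_line hl).mulVec γ.2

theorem mk_mul_stab (γ : P) {l : P} (hl : l ∈ D.Stab) : ((γ * l : P) : P ⧸ D.Stab) = (γ : P ⧸ D.Stab) := by
  rw [QuotientGroup.eq, _root_.mul_inv_rev, inv_mul_cancel_right]
  exact inv_mem hl

/-- Adjacency of cosets. -/
def Adj (x y : P ⧸ D.Stab) : Prop := ∃ γ : P, x = (γ : P ⧸ D.Stab) ∧ y = ((γ * D.s : P) : P ⧸ D.Stab)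

theorem adj_symm {x y : P ⧸ D.Stab} : D.Adj x y → D.Adj y x := by
  rintro ⟨γ, rfl, rfl⟩
  exact ⟨γ * D.s, rfl, by rw [mul_assoc, D.mk_mul_stab γ D.s_sq]⟩

theorem adj_left {x y : P ⧸ D.Stab} (γ : P) :
    D.Adj x y → D.Adj (γ • x) (γ • y) := by
  rintro ⟨η, rfl, rfl⟩
  exact ⟨γ * η, rfl, by rw [mul_assoc]; rfl⟩

theorem vec_step (γ : P) : Par (D.vec ((γ * D.s : P) : P ⧸ D.Stab)) (mat γ.2 *ᵥ ev1 D.i1) := by
  have := D.vec_mk (γ * D.s)
  rwa [show (γ * D.s).2 = γ.2 * D.s.2 from rfl, mat_mul_mulVec, D.s_i0] at this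

theorem step_eq {γ l l' : P} (hl : l ∈ D.Stab) (hl' : l' ∈ D.Stab)
    (h : Par (mat l.2 *ᵥ ev1 D.i1) (mat l'.2 *ᵥ ev1 D.i1)) :
    ((γ * l * D.s : P) : P ⧸ D.Stab) = ((γ * l' * D.s : P) : P ⧸ D.Stab) := by
  have := D.stab_conj (mul_mem (inv_mem hl) hl') (by
    show Par _ (mat (l.2⁻¹ * l'.2) *ᵥ ev1 D.i1)
    rw [mat_mul_mulVec]
    have := h.mulVec l.2⁻¹
    rwa [mat_inv_mulVec'] at this)
  rw [QuotientGroup.eq, show (γ * l * D.s)⁻¹ * (γ * l' * D.s) = D.s⁻¹ * (l⁻¹ * l') * D.s by group]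
  exact this

theorem adj_uniq {x y y' : P ⧸ D.Stab} (h : D.Adj x y) (h' : D.Adj x y') (hp : Par (D.vec y) (D.vec y')) :
    y = y' := by
  obtain ⟨γ, rfl, rfl⟩ := h
  obtain ⟨γ', e, rfl⟩ := h'
  have hl : γ⁻¹ * γ' ∈ D.Stab := QuotientGroup.eq.1 e
  have hp' : Par (mat γ.2 *ᵥ ev1 D.i1) (mat γ'.2 *ᵥ ev1 D.i1) :=
    ((D.vec_step γ).symm.trans hp).trans (D.vec_step γ')
  have := D.step_eq (γ := γ) (one_mem _) hl (by
    show Par (mat (1 : Cfsg.SU N F q) *ᵥ _) (mat (γ.2⁻¹ * γ'.2) *ᵥ ev1 D.i1)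
    rw [mat_one, one_mulVec, mat_mul_mulVec]
    have := hp'.mulVec γ.2⁻¹
    rwa [mat_inv_mulVec'] at this)
  rwa [mul_one, mul_inv_cancel_left] at this

/-- Orthogonal points of one head are adjacent. -/
theorem head_adj (δ : P) {w1 w2 : Cfsg.SU 3 F q}
    (h : Cfsg.hermForm 3 F q (mat w2 *ᵥ ev1 0) (mat w1 *ᵥ ev1 0) = 0) :
    D.Adj ((δ * D.gW w1 : P) : P ⧸ D.Stab) ((δ * D.gW w2 : P) : P ⧸ D.Stab) := by
  set v := mat w1⁻¹ *ᵥ (mat w2 *ᵥ ev1 0) with hv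
  have hv1 : Cfsg.hermForm 3 F q v v = 1 := by rw [hv, su_h, su_h, h_ev1_self hF]
  have hv0 : v 0 = 0 := by
    rw [← h_ev1 hF v 0, ← su_h w1, hv, mat_mulVec_inv']
    exact h
  have hvv : Vs (wset 2 3 1) v := fun j hj => by
    rw [mem_wset] at hj
    rw [show j = 0 from Fin.ext (show (j : ℕ) = 0 by omega), hv0]
  obtain ⟨a, ha, hae⟩ := supp_move hF (wset 2 3 1) (vs_ev1 (by decide : (1 : Fin 3) ∈ wset 2 3 1)) hvv
    (norm_one_ne_zero hF (h_ev1_self hF (1 : Fin 3))) (norm_one_ne_zero hF hv1)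
    (by rw [h_ev1_self hF, hv1]) (Or.inl ⟨by rw [h_ev1_self hF]; exact one_ne_zero, by decide⟩)
  have haS : D.gW a ∈ D.Stab := by
    obtain ⟨b, hb⟩ := D.mem_gT_of_tail ha
    rw [← hb]
    exact D.gT_mem_stab b
  refine ⟨δ * D.gW w1 * D.gW a, (D.mk_mul_stab _ haS).symm, ?_⟩
  rw [QuotientGroup.eq, s, show (δ * D.gW w2)⁻¹ * (δ * D.gW w1 * D.gW a * D.gW D.s0) =
    D.gW (w2⁻¹ * w1 * a * D.s0) by simp only [map_mul, map_inv]; group]
  refine D.W_stab ?_
  rw [mat_mul_mulVec, mat_mul_mulVec, mat_mul_mulVec, D.s0_0, hae, hv, mat_mulVec_inv', mat_inv_mulVec']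
  exact Par.rfl

theorem adj_lift (x : P ⧸ D.Stab) (v : Fin N → F) (hv : Cfsg.hermForm N F q v v = 1)
    (ho : Cfsg.hermForm N F q v (D.vec x) = 0) : ∃ y, D.Adj x y ∧ Par (D.vec y) v := by
  obtain ⟨γ, rfl⟩ := QuotientGroup.mk_surjective x
  have hm := D.hm
  set v' := mat γ.2⁻¹ *ᵥ v with hv'
  have h0 : v' D.i0 = 0 := by
    rw [← h_ev1 hF v' D.i0, ← su_h γ.2, hv', mat_mulVec_inv']
    exact (D.vec_mk γ).orth_right hF ho
  have hsup : Vs (Finset.univ.map (win m N 1 (by omega))) v' := fun j hj => by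
    rw [map_win, mem_wset] at hj
    rw [show j = D.i0 from Fin.ext (show (j : ℕ) = 0 by have := j.isLt; omega), h0]
  have h1 : Cfsg.hermForm m F q (v' ∘ win m N 1 (by omega)) (v' ∘ win m N 1 (by omega)) = 1 := by
    rw [← h_restrict hF _ hsup, hv', su_h, hv]
  obtain ⟨a, ha⟩ := su_move hF (norm_one_ne_zero hF (h_ev1_self hF D.t0)) (norm_one_ne_zero hF h1)
    (by rw [h_ev1_self hF, h1]) (Or.inr (by omega))
  refine ⟨_, ⟨γ * D.gT a, (D.mk_mul_stab γ (D.gT_mem_stab a)).symm, rfl⟩, ?_⟩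
  refine (D.vec_step _).trans ?_
  show Par (mat (γ.2 * D.ι a) *ᵥ ev1 D.i1) v
  rw [mat_mul_mulVec, show mat (D.ι a) *ᵥ ev1 D.i1 = v' from emb_vec hF _ a
    (by rw [← D.win_t0, ev1_comp, ha]) (fun j hj => by
      rw [vs_ev1 (S := wset m N 1) (by rw [mem_wset]; simp [i1]; omega) j hj]
      exact (hsup j (by rwa [map_win])).symm), hv', mat_mulVec_inv']
  exact Par.rfl

/-- An element of the outer tail sending the third coordinate to a given vector. -/
theorem tail_move (v : Fin N → F) (hv : Cfsg.hermForm N F q v v = 1) (h0 : v D.i0 = 0) (h1 : v D.i1 = 0) :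
    ∃ g ∈ (Supp (wset (m - 1) m 1) : Subgroup (Cfsg.SU m F q)), mat (D.ι g) *ᵥ ev1 D.i2 = v ∧
      mat (D.ι g) *ᵥ ev1 D.i1 = ev1 D.i1 := by
  have hm := D.hm
  have hsup : Vs (Finset.univ.map (win m N 1 (by omega))) v := fun j hj => by
    rw [map_win, mem_wset] at hj
    rw [show j = D.i0 from Fin.ext (show (j : ℕ) = 0 by have := j.isLt; omega), h0]
  have hn : Cfsg.hermForm m F q (v ∘ win m N 1 (by omega)) (v ∘ win m N 1 (by omega)) = 1 := by
    rw [← h_restrict hF _ hsup, hv]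
  have hvs : Vs (wset (m - 1) m 1) (v ∘ win m N 1 (by omega)) := fun j hj => by
    rw [mem_wset] at hj
    show v (win m N 1 (by omega) j) = 0
    rw [show j = D.t0 from Fin.ext (show (j : ℕ) = 0 by have := j.isLt; omega), D.win_t0, h1]
  have ht1 : D.t1 ∈ wset (m - 1) m 1 := by rw [mem_wset]; simp [t1]; omega
  obtain ⟨g, hg, hge⟩ := supp_move hF (wset (m - 1) m 1) (vs_ev1 ht1) hvs
    (norm_one_ne_zero hF (h_ev1_self hF D.t1)) (norm_one_ne_zero hF hn) (by rw [h_ev1_self hF, hn])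
    (Or.inl ⟨by rw [h_ev1_self hF]; exact one_ne_zero, by
      rw [← map_win (show 1 + (m - 1) ≤ m by omega), Finset.card_map, Finset.card_univ, Fintype.card_fin]; omega⟩)
  refine ⟨g, hg, emb_vec hF _ g (by rw [← D.win_t1, ev1_comp, hge]) (fun j hj => ?_), ?_⟩
  · rw [vs_ev1 (S := wset m N 1) (by rw [mem_wset]; simp [i2]; omega) j hj]
    exact (hsup j (by rwa [map_win])).symm
  · have := (emb_ev hF (show 1 + m ≤ N by omega) g D.t0 D.t0 1).2 (by
      rw [one_smul]; exact hg _ (by rw [mem_wset]; simp [t0]))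
    rwa [one_smul] at this

theorem gW_s1_mem : D.gW D.s1 ∈ D.Stab := D.W_stab (by rw [D.s1_0]; exact Par.rfl)

theorem κ_s1_i1 : mat (D.κ D.s1) *ᵥ ev1 D.i1 = ev1 D.i2 := by
  have := (D.κ_ev D.s1 1 2 1).2 (by rw [one_smul]; exact D.s1_1)
  rwa [one_smul] at this

theorem adj_tri {x y z : P ⧸ D.Stab} (hxy : D.Adj x y) (hyz : D.Adj y z)
    (ho : Cfsg.hermForm N F q (D.vec x) (D.vec z) = 0) : D.Adj x z := by
  obtain ⟨γ, rfl, rfl⟩ := D.adj_symm hxy
  obtain ⟨γ', e, rfl⟩ := hyz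
  obtain ⟨l, hl, rfl⟩ : ∃ l ∈ D.Stab, γ' = γ * l := ⟨γ⁻¹ * γ', QuotientGroup.eq.1 e, (mul_inv_cancel_left _ _).symm⟩
  set r := mat l.2 *ᵥ ev1 D.i1 with hr
  have hr1 : Cfsg.hermForm N F q r r = 1 := by rw [hr, su_h, h_ev1_self hF]
  have hr0 : r D.i0 = 0 := by
    rw [← h_ev1 hF r D.i0]
    refine (D.stab_line hl).symm.orth_right hF ?_
    rw [hr, su_h, h_ev1 hF]
    simp [ev1, i0, i1]
  have hr1' : r D.i1 = 0 := by
    rw [← h_ev1 hF r D.i1, ← su_h γ.2, hr, ← mat_mul_mulVec]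
    exact swap_zero hF ((D.vec_step (γ * l)).orth_right hF ((D.vec_step γ).orth_left ho))
  obtain ⟨g, hg, hge, -⟩ := D.tail_move r hr1 hr0 hr1'
  have hu : D.gT g * D.gW D.s1 ∈ D.Stab := mul_mem (D.gT_mem_stab g) D.gW_s1_mem
  rw [D.step_eq hl hu (by
    show Par r (mat (D.ι g * D.κ D.s1) *ᵥ ev1 D.i1)
    rw [mat_mul_mulVec, D.κ_s1_i1, hge]
    exact Par.rfl)]
  have h1 : ((γ * D.s : P) : P ⧸ D.Stab) = ((γ * D.gT g * D.gW D.s0 : P) : P ⧸ D.Stab) := by
    rw [← s, mul_assoc γ, ← (D.gT_s hg).eq, ← mul_assoc, D.mk_mul_stab _ (D.gT_mem_stab g)]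
  rw [h1, show γ * (D.gT g * D.gW D.s1) * D.s = γ * D.gT g * D.gW (D.s1 * D.s0) by
    rw [s, map_mul]; group]
  refine D.head_adj _ ?_
  rw [mat_mul_mulVec, D.s0_0, D.s1_1, h_ev1 hF]
  simp [ev1]

theorem adj_square {x y z y' : P ⧸ D.Stab} (hxy : D.Adj x y) (hyz : D.Adj y z) (hxy' : D.Adj x y')
    (hN : Cfsg.hermForm N F q (D.vec z) (D.vec x) * frob hF (Cfsg.hermForm N F q (D.vec z) (D.vec x)) ≠ 1)
    (ho : Cfsg.hermForm N F q (D.vec y') (D.vec z) = 0) : D.Adj y' z := by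
  have hm := D.hm
  obtain ⟨γ, rfl, rfl⟩ := hxy
  have hx : Par (D.vec (γ : P ⧸ D.Stab)) (mat γ.2 *ᵥ ev1 D.i0) := D.vec_mk γ
  have hy := D.vec_step γ
  have unit : ∀ w : P ⧸ D.Stab, Cfsg.hermForm N F q (D.vec w) (D.vec w) = 1 := fun w => by
    rw [vec, su_h, h_ev1_self hF]
  have orth : ∀ u w : P ⧸ D.Stab, D.Adj u w → Cfsg.hermForm N F q (D.vec u) (D.vec w) = 0 := by
    rintro u w ⟨η, rfl, rfl⟩
    refine (D.vec_mk η).symm.orth_left ((D.vec_step η).symm.orth_right hF ?_)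
    rw [su_h, h_ev1 hF]
    simp [ev1, i0, i1]
  set b := mat γ.2⁻¹ *ᵥ D.vec z with hb
  have hb1 : Cfsg.hermForm N F q b b = 1 := by rw [hb, su_h, unit]
  have hbi1 : b D.i1 = 0 := by
    rw [← h_ev1 hF b D.i1, ← su_h γ.2, hb, mat_mulVec_inv']
    exact hy.orth_right hF (swap_zero hF (orth _ _ hyz))
  have hbN : b D.i0 * frob hF (b D.i0) ≠ 1 := by
    have h1 : Cfsg.hermForm N F q (mat γ.2 *ᵥ ev1 D.i0) (mat γ.2 *ᵥ ev1 D.i0) = 1 := by
      rw [su_h, h_ev1_self hF]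
    rw [← CoverData.nrm (hF := hF) (unit z) (unit z) (unit _) h1 Par.rfl hx] at hN
    rwa [← h_ev1 hF b D.i0, ← su_h γ.2, hb, mat_mulVec_inv']
  set p := b - b D.i0 • ev1 D.i0 with hp
  have hpp : Cfsg.hermForm N F q p p ≠ 0 := by
    rw [show Cfsg.hermForm N F q p p = 1 - b D.i0 * frob hF (b D.i0) by
      rw [hp, h_sub_left, h_sub_right hF, h_sub_right hF, h_smul_left, h_smul_right hF, h_smul_left,
        h_smul_right hF, hb1, h_ev1 hF, h_ev1_left hF, h_ev1_self hF]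
      ring]
    exact sub_ne_zero.2 (fun e => hbN e.symm)
  obtain ⟨c, hc, hcp⟩ := exists_unit_smul hF hpp
  have hp0 : (c • p) D.i0 = 0 := by simp [hp, ev1]
  have hp1 : (c • p) D.i1 = 0 := by
    rw [Pi.smul_apply, hp, Pi.sub_apply, Pi.smul_apply, hbi1, ev1, Pi.single_eq_of_ne (by simp [i0, i1]),
      smul_zero, sub_zero, smul_zero]
  -- a frame with the diagonal in the first block
  set f := win m N 1 (by omega) with hf
  have hsupp : ∀ w : Fin N → F, w D.i0 = 0 → Vs (Finset.univ.map f) w := fun w hw j hj => by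
    rw [hf, map_win, mem_wset] at hj
    rw [show j = D.i0 from Fin.ext (show (j : ℕ) = 0 by have := j.isLt; omega), hw]
  have hPn : Cfsg.hermForm m F q ((c • p) ∘ f) ((c • p) ∘ f) = 1 := by
    rw [← h_restrict hF f (hsupp _ hp0), hcp]
  obtain ⟨a₁, ha1⟩ := su_move hF (norm_one_ne_zero hF (h_ev1_self hF D.t0)) (norm_one_ne_zero hF hPn)
    (by rw [h_ev1_self hF, hPn]) (Or.inr (by omega))
  set w := mat a₁⁻¹ *ᵥ (ev1 D.t0 : Fin m → F) with hw
  have hw1 : Cfsg.hermForm m F q w w = 1 := by rw [hw, su_h, h_ev1_self hF]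
  have hw0 : w D.t0 = 0 := by
    rw [← h_ev1 hF w D.t0, ← su_h a₁, hw, mat_mulVec_inv', ha1, h_ev1_left hF]
    show frob hF ((c • p) D.i1) = 0
    rw [hp1, map_zero]
  have hws : Vs (wset (m - 1) m 1) w := fun j hj => by
    rw [mem_wset] at hj
    rw [show j = D.t0 from Fin.ext (show (j : ℕ) = 0 by have := j.isLt; omega), hw0]
  have ht1 : D.t1 ∈ wset (m - 1) m 1 := by rw [mem_wset]; simp [t1]; omega
  obtain ⟨a₂, ha2, ha2e⟩ := supp_move hF (wset (m - 1) m 1) (vs_ev1 ht1) hws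
    (norm_one_ne_zero hF (h_ev1_self hF D.t1)) (norm_one_ne_zero hF hw1) (by rw [h_ev1_self hF, hw1])
    (Or.inl ⟨by rw [h_ev1_self hF]; exact one_ne_zero, by
      rw [← map_win (show 1 + (m - 1) ≤ m by omega), Finset.card_map, Finset.card_univ, Fintype.card_fin]; omega⟩)
  set a := a₁ * a₂ with ha
  have hai1 : mat (D.ι a) *ᵥ ev1 D.i1 = c • p := by
    refine emb_vec hF _ a ?_ (fun j hj => ?_)
    · rw [← D.win_t0, ev1_comp, ha, mat_mul_mulVec,
        ha2 D.t0 (by rw [mem_wset]; simp [t0]), ha1]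
    · rw [vs_ev1 (S := wset m N 1) (by rw [mem_wset]; simp [i1]; omega) j hj]
      exact (hsupp _ hp0 j (by rwa [hf, map_win])).symm
  have hai2 : mat (D.ι a) *ᵥ ev1 D.i2 = ev1 D.i1 := by
    have := (emb_ev hF (show 1 + m ≤ N by omega) a D.t1 D.t0 1).2 (by
      rw [one_smul, ha, mat_mul_mulVec, ha2e, hw, mat_mulVec_inv'])
    rwa [one_smul] at this
  set δ := γ * D.gT a with hδ
  have hδx : ((δ * D.gW 1 : P) : P ⧸ D.Stab) = (γ : P ⧸ D.Stab) := by
    rw [map_one, mul_one, hδ, D.mk_mul_stab _ (D.gT_mem_stab a)]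
  have hδ2 : ∀ j, mat δ.2 *ᵥ ev1 j = mat γ.2 *ᵥ (mat (D.ι a) *ᵥ ev1 j) := fun j => by
    show mat (γ.2 * D.ι a) *ᵥ ev1 j = _
    rw [mat_mul_mulVec]
  have hsv : mat (D.s1 * D.s0) *ᵥ ev1 0 = (ev1 2 : Fin 3 → F) := by rw [mat_mul_mulVec, D.s0_0, D.s1_1]
  -- the second vertex
  have hy2 : ((γ * D.s : P) : P ⧸ D.Stab) = ((δ * D.gW (D.s1 * D.s0) : P) : P ⧸ D.Stab) := by
    have hadj := D.head_adj δ (w1 := 1) (w2 := D.s1 * D.s0) (by
      rw [hsv, mat_one, one_mulVec, h_ev1 hF]; simp [ev1])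
    rw [hδx] at hadj
    refine D.adj_uniq ⟨γ, rfl, rfl⟩ hadj ((hy.trans ?_).trans (D.vec_mk _).symm)
    show Par _ (mat (δ.2 * D.κ (D.s1 * D.s0)) *ᵥ ev1 D.i0)
    rw [mat_mul_mulVec, map_mul, mat_mul_mulVec]
    have h0 := (D.κ_ev D.s0 0 1 1).2 (by rw [one_smul]; exact D.s0_0)
    rw [one_smul] at h0
    rw [show mat (D.κ D.s0) *ᵥ ev1 D.i0 = ev1 D.i1 from h0, D.κ_s1_i1, hδ2, hai2]
    exact Par.rfl
  -- the third vertex
  set bb := b D.i0 • (ev1 D.i0 : Fin N → F) + c⁻¹ • ev1 D.i1 with hbb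
  have hδb : mat δ.2 *ᵥ bb = D.vec z := by
    rw [hbb, mulVec_add, mulVec_smul, mulVec_smul, hδ2, hδ2, D.ι_i0, hai1, ← mulVec_smul, ← mulVec_smul,
      ← mulVec_add, smul_smul, inv_mul_cancel₀ hc, one_smul, hp, add_sub_cancel, hb, mat_mulVec_inv']
  have hbb1 : Cfsg.hermForm N F q bb bb = 1 := by rw [← su_h δ.2, hδb, unit]
  set f3 := win 3 N 0 (by omega) with hf3
  have hs3 : Vs (Finset.univ.map f3) bb := fun j hj => by
    rw [hf3, map_win, mem_wset] at hj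
    simp only [hbb, Pi.add_apply, Pi.smul_apply, ev1, Pi.single_apply, Fin.ext_iff, i0, i1]
    rw [if_neg (by omega), if_neg (by omega), smul_zero, smul_zero, add_zero]
  have hb3 : Cfsg.hermForm 3 F q (bb ∘ f3) (bb ∘ f3) = 1 := by rw [← h_restrict hF f3 hs3, hbb1]
  have hb32 : (bb ∘ f3) 2 = 0 := by
    simp [hbb, hf3, ev1, i0, i1, Pi.single_apply, Fin.ext_iff]
  have hbs : Vs (wset 2 3 0) (bb ∘ f3) := fun j hj => by
    rw [mem_wset] at hj
    rw [show j = 2 from Fin.ext (show (j : ℕ) = 2 by have := j.isLt; omega), hb32]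
  obtain ⟨u, hu, hue⟩ := supp_move hF (wset 2 3 0) (vs_ev1 (by decide : (0 : Fin 3) ∈ wset 2 3 0)) hbs
    (norm_one_ne_zero hF (h_ev1_self hF (0 : Fin 3))) (norm_one_ne_zero hF hb3)
    (by rw [h_ev1_self hF, hb3]) (Or.inl ⟨by rw [h_ev1_self hF]; exact one_ne_zero, by decide⟩)
  have horth : Cfsg.hermForm 3 F q (mat u *ᵥ ev1 0) (mat (D.s1 * D.s0) *ᵥ ev1 0) = 0 := by
    rw [hsv, hue, h_ev1 hF, hb32]
  have hκu : mat (D.κ u) *ᵥ ev1 D.i0 = bb := emb_vec hF _ u (by rw [← D.win_z, ev1_comp, hue]) (fun j hj => by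
    rw [vs_ev1 (S := wset 3 N 0) (by rw [mem_wset]; simp [i0]) j hj]
    exact (hs3 j (by rwa [hf3, map_win])).symm)
  have hz : z = ((δ * D.gW u : P) : P ⧸ D.Stab) := by
    refine D.adj_uniq hyz (hy2 ▸ D.head_adj δ horth) ?_
    refine Par.trans ?_ (D.vec_mk _).symm
    show Par _ (mat (δ.2 * D.κ u) *ᵥ ev1 D.i0)
    rw [mat_mul_mulVec, hκu, hδb]
    exact Par.rfl
  -- the fourth vertex
  set d := mat δ.2⁻¹ *ᵥ D.vec y' with hd
  have hd1 : Cfsg.hermForm N F q d d = 1 := by rw [hd, su_h, unit]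
  have hd0 : d D.i0 = 0 := by
    rw [← h_ev1 hF d D.i0, ← su_h δ.2, hd, mat_mulVec_inv', hδ2, D.ι_i0]
    exact hx.orth_right hF (swap_zero hF (orth _ _ hxy'))
  have hdi1 : d D.i1 = 0 := by
    have := ho
    rw [← hδb, ← su_h δ.2⁻¹, mat_inv_mulVec', ← hd, hbb, h_add_right hF, h_smul_right hF, h_smul_right hF,
      h_ev1 hF, h_ev1 hF, hd0, mul_zero, zero_add, mul_eq_zero] at this
    exact this.resolve_left (by rw [map_eq_zero]; exact inv_ne_zero hc)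
  obtain ⟨g, hg, hge, -⟩ := D.tail_move d hd1 hd0 hdi1
  have hδ'x : ((δ * D.gT g * D.gW 1 : P) : P ⧸ D.Stab) = (γ : P ⧸ D.Stab) := by
    rw [← hδx, map_one, mul_one, mul_one, D.mk_mul_stab _ (D.gT_mem_stab g)]
  have hy' : y' = ((δ * D.gT g * D.gW (D.s1 * D.s0) : P) : P ⧸ D.Stab) := by
    have hadj := D.head_adj (δ * D.gT g) (w1 := 1) (w2 := D.s1 * D.s0) (by
      rw [hsv, mat_one, one_mulVec, h_ev1 hF]; simp [ev1])
    rw [hδ'x] at hadj
    refine D.adj_uniq hxy' hadj (Par.trans ?_ (D.vec_mk _).symm)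
    show Par _ (mat (δ.2 * D.ι g * D.κ (D.s1 * D.s0)) *ᵥ ev1 D.i0)
    have h0 := (D.κ_ev D.s0 0 1 1).2 (by rw [one_smul]; exact D.s0_0)
    rw [one_smul] at h0
    rw [mat_mul_mulVec, mat_mul_mulVec, map_mul, mat_mul_mulVec,
      show mat (D.κ D.s0) *ᵥ ev1 D.i0 = ev1 D.i1 from h0, D.κ_s1_i1, hge, hd, mat_mulVec_inv']
    exact Par.rfl
  have hz' : z = ((δ * D.gT g * D.gW u : P) : P ⧸ D.Stab) := by
    rw [hz, mul_assoc δ, ← (D.outer_commute hu hg).eq, ← mul_assoc, D.mk_mul_stab _ (D.gT_mem_stab g)]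
  rw [hy', hz']
  exact D.head_adj _ horth

/-- The covering. -/
noncomputable def cover : CoverData (n := N) hF (P ⧸ D.Stab) where
  vec := D.vec
  unit x := by rw [vec, su_h, h_ev1_self hF]
  Adj := D.Adj
  symm _ _ h := D.adj_symm h
  orth x y h := by
    obtain ⟨η, rfl, rfl⟩ := h
    refine (D.vec_mk η).symm.orth_left ((D.vec_step η).symm.orth_right hF ?_)
    rw [su_h, h_ev1 hF]
    simp [ev1, i0, i1]
  lift := D.adj_lift
  uniq _ _ _ h h' hp := D.adj_uniq h h' hp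
  tri _ _ _ h h' ho := D.adj_tri h h' ho
  square _ _ _ _ h h' h'' hn ho := D.adj_square h h' h'' hn ho

/-- Reachability from the base vertex. -/
def Reach (γ : P) : Prop := Relation.ReflTransGen D.Adj ((1 : P) : P ⧸ D.Stab) (γ : P ⧸ D.Stab)

theorem reach_of_stab {γ : P} (h : γ ∈ D.Stab) : D.Reach γ := by
  show Relation.ReflTransGen D.Adj _ _
  rw [show ((γ : P) : P ⧸ D.Stab) = ((1 : P) : P ⧸ D.Stab) by
    rw [← D.mk_mul_stab 1 h, one_mul]]

theorem translate (γ : P) {x y : P ⧸ D.Stab} (h : Relation.ReflTransGen D.Adj x y) :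
    Relation.ReflTransGen D.Adj (γ • x) (γ • y) :=
  by
  induction h with
  | refl => exact Relation.ReflTransGen.refl
  | tail _ h ih => exact ih.tail (D.adj_left γ h)

theorem reach_symm {x y : P ⧸ D.Stab} (h : Relation.ReflTransGen D.Adj x y) :
    Relation.ReflTransGen D.Adj y x :=
  by
  induction h with
  | refl => exact Relation.ReflTransGen.refl
  | tail _ h ih => exact (Relation.ReflTransGen.single (D.adj_symm h)).trans ih

/-- The elements reaching their coset. -/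
def reachGrp : Subgroup P where
  carrier := {γ | D.Reach γ}
  one_mem' := Relation.ReflTransGen.refl
  mul_mem' {γ η} hγ hη := by
    have := D.translate γ hη
    rw [MulAction.Quotient.smul_mk, MulAction.Quotient.smul_mk, smul_eq_mul, smul_eq_mul, mul_one] at this
    exact hγ.trans this
  inv_mem' {γ} hγ := by
    have := D.translate γ⁻¹ (D.reach_symm hγ)
    rw [MulAction.Quotient.smul_mk, MulAction.Quotient.smul_mk, smul_eq_mul, smul_eq_mul, mul_one,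
      inv_mul_cancel] at this
    exact this

/-- The graph of the hom to be built. -/
noncomputable def Γ : Subgroup P := D.gT.range ⊔ D.gW.range

theorem Γ_reach : D.Γ ≤ D.reachGrp := by
  have hT : D.gT.range ≤ D.reachGrp := by
    rintro _ ⟨a, rfl⟩
    exact D.reach_of_stab (D.gT_mem_stab a)
  refine sup_le hT ?_
  rintro _ ⟨w, rfl⟩
  have hle : (Supp Finset.univ : Subgroup (Cfsg.SU 3 F q)) ≤ D.reachGrp.comap D.gW := by
    rw [show (Finset.univ : Finset (Fin 3)) = {0, 1, 2} by decide]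
    refine (supp_gen_two hF (a := (0 : Fin 3)) (b := 1) (l := 2) (by decide) (by decide) (by decide)
      (by rcases D.hq with h | ⟨h, -⟩ <;> omega)).trans (sup_le (fun u hu => ?_) (fun u hu => ?_))
    · show D.Reach (D.gW u)
      have hu' : u ∈ (Supp (wset 2 3 0) : Subgroup (Cfsg.SU 3 F q)) := by
        rwa [show (wset 2 3 0 : Finset (Fin 3)) = {0, 1} by decide]
      have hsv : mat (D.s1 * D.s0) *ᵥ ev1 0 = (ev1 2 : Fin 3 → F) := by rw [mat_mul_mulVec, D.s0_0, D.s1_1]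
      have h1 := D.head_adj 1 (w1 := 1) (w2 := D.s1 * D.s0) (by
        rw [hsv, mat_one, one_mulVec, h_ev1 hF]; simp [ev1])
      have h2 := D.head_adj 1 (w1 := D.s1 * D.s0) (w2 := u) (by
        rw [hsv, h_ev1 hF]; exact supp_vs hF hu' (vs_ev1 (by decide)) 2 (by decide))
      rw [one_mul, one_mul, map_one] at h1
      rw [one_mul, one_mul] at h2
      exact (Relation.ReflTransGen.single h1).tail h2
    · show D.gW u ∈ D.reachGrp
      obtain ⟨a, ha⟩ := D.mem_gT_of_tail (w := u) (by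
        rwa [show (wset 2 3 1 : Finset (Fin 3)) = {1, 2} by decide])
      exact ha ▸ hT ⟨a, rfl⟩
  exact hle (fun j hj => absurd (Finset.mem_univ j) hj)

theorem Γ_inj {γ : P} (hγ : γ ∈ D.Γ) (h1 : γ.2 = 1) : γ = 1 := by
  have hp : Par (D.vec ((1 : P) : P ⧸ D.Stab)) (D.vec (γ : P ⧸ D.Stab)) := by
    refine (D.vec_mk 1).trans ?_
    have := D.vec_mk γ
    rw [h1] at this
    exact this.symm
  have e := D.cover.inj (by have := D.hm; omega) (D.hq.imp id fun h => ⟨h.1, by omega⟩) Relation.ReflTransGen.refl (D.Γ_reach hγ) hp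
  refine D.stab_inj ?_ h1
  have := QuotientGroup.eq.1 e
  rwa [inv_one, one_mul] at this

theorem Γ_surj (g : Cfsg.SU N F q) : ∃ γ ∈ D.Γ, γ.2 = g := by
  have hm := D.hm
  have hu : (Finset.univ : Finset (Fin N)) = insert D.i0 (wset m N 1) := by
    ext j
    have := j.isLt
    simp only [Finset.mem_univ, Finset.mem_insert, mem_wset, true_iff]
    by_cases hj : (j : ℕ) = 0
    · exact Or.inl (Fin.ext hj)
    · exact Or.inr (by omega)
  have hp : ({D.i1, D.i0} : Finset (Fin N)) = wset 2 N 0 := by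
    ext j
    simp only [Finset.mem_insert, Finset.mem_singleton, mem_wset, Fin.ext_iff, i0, i1]
    omega
  have hle : (Supp Finset.univ : Subgroup (Cfsg.SU N F q)) ≤ D.Γ.map (MonoidHom.snd G (Cfsg.SU N F q)) := by
    rw [hu]
    refine (supp_gen hF (S := wset m N 1) (b := D.i1) (l := D.i0) (by rw [mem_wset]; simp [i1]; omega)
      (by rw [mem_wset]; simp [i0]) (by
        rw [← map_win (show 1 + m ≤ N by omega), Finset.card_map, Finset.card_univ, Fintype.card_fin]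
        omega)).trans (sup_le (fun x hx => ?_) (fun x hx => ?_))
    · obtain ⟨a, rfl⟩ := exists_emb hF (by omega) hx
      exact ⟨D.gT a, Subgroup.mem_sup_left ⟨a, rfl⟩, rfl⟩
    · rw [hp] at hx
      obtain ⟨y, rfl⟩ := exists_emb hF (by omega) hx
      exact ⟨D.gW (emb hF 2 3 0 (by omega) y), Subgroup.mem_sup_right ⟨_, rfl⟩, emb_emb hF _ _ y⟩
  obtain ⟨γ, hγ, e⟩ := hle (show g ∈ Supp Finset.univ from fun j hj => absurd (Finset.mem_univ j) hj)
  exact ⟨γ, hγ, e⟩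

/-- The extension. -/
theorem exists_hom : ∃ Ψ : Cfsg.SU N F q →* G, (∀ a, Ψ (D.ι a) = D.T a) ∧ ∀ w, Ψ (D.κ w) = D.W w := by
  have hbij : Function.Bijective ((MonoidHom.snd G (Cfsg.SU N F q)).comp D.Γ.subtype) := by
    refine ⟨(injective_iff_map_eq_one _).2 fun x hx => Subtype.ext (D.Γ_inj x.2 hx), fun g => ?_⟩
    obtain ⟨γ, hγ, e⟩ := D.Γ_surj g
    exact ⟨⟨γ, hγ⟩, e⟩
  set e := MulEquiv.ofBijective _ hbij
  refine ⟨((MonoidHom.fst G (Cfsg.SU N F q)).comp D.Γ.subtype).comp e.symm.toMonoidHom, fun a => ?_, fun w => ?_⟩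
  · have : e.symm (D.ι a) = ⟨D.gT a, Subgroup.mem_sup_left ⟨a, rfl⟩⟩ := e.symm_apply_eq.2 rfl
    simp only [MonoidHom.comp_apply, MulEquiv.coe_toMonoidHom, this]
    rfl
  · have : e.symm (D.κ w) = ⟨D.gW w, Subgroup.mem_sup_right ⟨w, rfl⟩⟩ := e.symm_apply_eq.2 rfl
    simp only [MonoidHom.comp_apply, MulEquiv.coe_toMonoidHom, this]
    rfl

end StepData

end CfsgLib.Phan
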