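import Cfsg.Agent.Lib.Phan.LiftThree

/-!
Recognition from a weak Phan system over the field with nine elements.
-/

set_option autoImplicit false
set_option linter.unusedSectionVars false

namespace CfsgLib.Phan

open Matrix CfsgLib.UnitaryTransvection CfsgLib.UnitarySimple CfsgLib.SUCover CfsgLib.SUShort

universe u v

variable {F : Type u} [Field F] [Fintype F] {q : ℕ} (hF : Fintype.card F = q ^ 2)

/-- Two compatible windows in `SU 4` are the standard ones up to an automorphism. -/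
def FramedFour : Prop :=
  ∀ a b : Cfsg.SU 3 F q →* Cfsg.SU 4 F q, Function.Injective a → Function.Injective b →
    (∀ x, a (e1 hF x) = b (e0 hF x)) → (∀ x y, Commute (a (e0 hF x)) (b (e1 hF y))) →
    ∃ th : Cfsg.SU 4 F q ≃* Cfsg.SU 4 F q, (∀ w, a w = th (emb hF 3 4 0 (by omega) w)) ∧
      ∀ w, b w = th (emb hF 3 4 1 (by omega) w)

variable {G : Type v} [Group G]

include hF in
theorem window_range {A B V : Subgroup G} (hq : 3 ≤ q) {ψ : Cfsg.SU 3 F q →* G} (w : IsWindow hF A B V ψ) :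
    ψ.range ≤ A ⊔ B := by
  rintro _ ⟨x, rfl⟩
  have hle : (Supp Finset.univ : Subgroup (Cfsg.SU 3 F q)) ≤ (A ⊔ B).comap ψ := by
    rw [show (Finset.univ : Finset (Fin 3)) = {0, 1, 2} by decide]
    refine (supp_gen_two hF (a := (0 : Fin 3)) (b := 1) (l := 2) (by decide) (by decide) (by decide) hq).trans
      (sup_le (fun g hg => ?_) (fun g hg => ?_))
    · rw [show ({0, 1} : Finset (Fin 3)) = wset 2 3 0 by decide] at hg
      obtain ⟨y, rfl⟩ := exists_emb hF (show 0 + 2 ≤ 3 by omega) hg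
      exact Subgroup.mem_sup_left (w.left ▸ ⟨y, rfl⟩)
    · rw [show ({1, 2} : Finset (Fin 3)) = wset 2 3 1 by decide] at hg
      obtain ⟨y, rfl⟩ := exists_emb hF (show 1 + 2 ≤ 3 by omega) hg
      exact Subgroup.mem_sup_right (w.right ▸ ⟨y, rfl⟩)
  exact hle (fun j hj => absurd (Finset.mem_univ j) hj)

include hF in
theorem standard_pair_le {V A B : Subgroup G} (h : Cfsg.IsStandardUnitaryPair V A B F q) : A ≤ V ∧ B ≤ V := by
  rcases h with ⟨ψ, rfl, rfl⟩ | ⟨ψ, rfl, rfl⟩ <;> constructor <;> rintro _ ⟨x, -, rfl⟩ <;> exact SetLike.coe_mem _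

include hF in
/-- Recognition over the field with nine elements. -/
theorem weak_phan_three (hq : q = 3) (hfour : FramedFour hF) {n : ℕ} (hn : 3 ≤ n) (U : Fin n → Subgroup G)
    (V : Fin n → Fin n → Subgroup G) (h1 : ∀ i j : Fin n, (i : ℕ) + 2 ≤ j → ∀ x ∈ U i, ∀ y ∈ U j, x * y = y * x)
    (h2 : ∀ i j : Fin n, (i : ℕ) + 1 = j → Cfsg.IsStandardUnitaryPair (V i j) (U i) (U j) F q)
    (hgen : (⨆ i, U i) ⊔ (⨆ (i : Fin n) (j : Fin n) (_ : (i : ℕ) + 1 = j), V i j) = ⊤)
    (h4 : ∀ i j k : Fin n, (i : ℕ) + 1 = j → (j : ℕ) + 1 = k →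
      ∃ g : Cfsg.SU 4 F q →* (V i j ⊔ V j k : Subgroup G), Function.Surjective g) :
    ∃ f : Cfsg.SU (n + 1) F q →* G, Function.Surjective f := by
  refine weak_phan_from hF (M := 4) (by omega) (Or.inr ⟨hq, le_rfl⟩) (extends_of_two_le hF (by omega)) (by omega)
    U V (fun f hw hc i hi => ?_) h1 h2 hgen
  set a0 : Fin n := ⟨i, by omega⟩ with ha0
  set a1 : Fin n := ⟨i + 1, by omega⟩ with ha1
  set a2 : Fin n := ⟨i + 1 + 1, by omega⟩ with ha2
  obtain ⟨g₀, hg₀⟩ := h4 a0 a1 a2 rfl rfl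
  set g : Cfsg.SU 4 F q →* G := (V a0 a1 ⊔ V a1 a2).subtype.comp g₀ with hg
  have hgr : g.range = V a0 a1 ⊔ V a1 a2 := by
    rw [hg, MonoidHom.range_comp, MonoidHom.range_eq_top.2 hg₀, ← MonoidHom.range_eq_map, Subgroup.range_subtype]
  have wψ := hw i (by omega)
  have wφ := hw (i + 1) (by omega)
  have hp := standard_pair_le hF (h2 a0 a1 rfl)
  have hp' := standard_pair_le hF (h2 a1 a2 rfl)
  have hψr : (f i).range ≤ g.range :=
    (window_range hF (by omega) wψ).trans (hgr ▸ sup_le (hp.1.trans le_sup_left) (hp.2.trans le_sup_left))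
  have hφr : (f (i + 1)).range ≤ g.range :=
    (window_range hF (by omega) wφ).trans (hgr ▸ sup_le (hp'.1.trans le_sup_right) (hp'.2.trans le_sup_right))
  have inj : ∀ {A B W : Subgroup G} {ψ : Cfsg.SU 3 F q →* G}, IsWindow hF A B W ψ → Function.Injective ψ :=
    fun w => (MonoidHom.ker_eq_bot_iff _).1 (le_bot_iff.1 (center_three hF hq ▸ w.ker))
  have hg1 : g ≠ 1 := by
    intro e
    have hr : (f i).range ≤ ⊥ := by
      refine hψr.trans ?_
      rw [e]
      rintro _ ⟨x, rfl⟩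
      exact Subgroup.mem_bot.2 rfl
    obtain ⟨w, z, hw1, -, hz1, -⟩ := exists_diag hF (show 2 ≤ q by omega)
    have h1 : e0 hF w = 1 := inj wψ (by rw [Subgroup.mem_bot.1 (hr ⟨_, rfl⟩), map_one])
    have h2 : w = 1 := emb_injective hF _ (h1.trans (map_one _).symm)
    have := congrFun (congrFun (congrArg mat h2) 0) 0
    rw [hw1, mat_one] at this
    exact hz1 (by simpa using this)
  have hker := ker_le_center hF g hg1
  obtain ⟨a, ha⟩ := exists_lift_window hF hq g hker _ hψr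
  obtain ⟨b, hb⟩ := exists_lift_window hF hq g hker _ hφr
  obtain ⟨hag, hco⟩ := lifts_compatible hF hq g hker (hc i (by omega)) (fun x y =>
    h1 a0 a2 (by show i + 2 ≤ i + 1 + 1; omega) _ (wψ.left.le ⟨x, rfl⟩) _ (wφ.right.le ⟨y, rfl⟩)) ha hb
  have hai : Function.Injective a := fun x y e => inj wψ (by rw [← ha, MonoidHom.comp_apply, e]; rfl)
  have hbi : Function.Injective b := fun x y e => inj wφ (by rw [← hb, MonoidHom.comp_apply, e]; rfl)
  obtain ⟨th, tha, thb⟩ := hfour a b hai hbi hag hco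
  refine ⟨g.comp th.toMonoidHom, fun j hj w => ?_⟩
  obtain rfl | rfl : j = 0 ∨ j = 1 := by omega
  · rw [MonoidHom.comp_apply, MulEquiv.coe_toMonoidHom, ← tha, Nat.add_zero, ← ha]; rfl
  · rw [MonoidHom.comp_apply, MulEquiv.coe_toMonoidHom, ← thb, ← hb]; rfl

end CfsgLib.Phan
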