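import Cfsg.Agent.Lib.Phan.Torus
import Cfsg.Agent.Lib.PSL2Subfield
import Cfsg.Agent.Lib.PSL2.Aut
import Cfsg.Agent.Lib.StSL.Two
import Cfsg.Agent.Lib.Homogeneous.SD.SLAut

/-!
Automorphisms of `SU 2` preserving the diagonal torus, and their extensions to `SU 3`.
-/

set_option autoImplicit false
set_option linter.unusedSectionVars false

namespace CfsgLib.Phan

open Matrix CfsgLib.UnitaryTransvection CfsgLib.UnitarySimple CfsgLib.SUCover CfsgLib.SUShort

/-- `SU 2` as a conjugate of `SL 2` over the fixed field (the construction of S0281). -/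
theorem exists_sl_model {F K : Type*} [Field F] [Fintype F] [Field K] [Fintype K] {q : ℕ}
    (hF : Fintype.card F = q ^ 2) (hK : Fintype.card K = q) :
    ∃ (φ : K →+* F) (B : Matrix (Fin 2) (Fin 2) F), IsUnit B.det ∧
      ∃ Φ : Matrix.SpecialLinearGroup (Fin 2) K ≃* Cfsg.SU 2 F q, ∀ A, mat (Φ A) = B * A.1.map φ * B⁻¹ := by
  classical
  obtain ⟨φ⟩ := CfsgLib.PSL2Subfield.exists_emb (F := F) (K := K) 2 (by norm_num) (by rw [hK, hF])
  let σ := CfsgLib.UnitaryTransvection.frob hF
  have hσ : ∀ x, σ x = x ^ q := CfsgLib.UnitaryTransvection.frob_apply hF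
  have hσσ : ∀ x, σ (σ x) = x := CfsgLib.UnitaryTransvection.frob_frob hF
  have hq : 1 < q := (CfsgLib.UnitaryBasic.frob_exists hF).1
  -- the fixed field
  have hfix : ∀ x : F, σ x = x ↔ ∃ k, φ k = x := by
    intro x
    constructor
    · intro hx
      by_contra hne
      push Not at hne
      let T : Finset F := insert x (Finset.univ.image φ)
      have hT : T.card = q + 1 := by
        rw [Finset.card_insert_of_notMem (by simpa using hne), Finset.card_image_of_injective _ φ.injective,
          Finset.card_univ, hK]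
      have hle : T.card ≤ (Polynomial.X ^ q - Polynomial.X : Polynomial F).natDegree := by
        refine Polynomial.card_le_degree_of_subset_roots fun y hy => ?_
        rw [Polynomial.mem_roots (FiniteField.X_pow_card_sub_X_ne_zero F hq)]
        have hy' : y ^ q = y := by
          have hy2 : y ∈ T := hy
          simp only [T, Finset.mem_insert, Finset.mem_image, Finset.mem_univ, true_and] at hy2
          rcases hy2 with rfl | ⟨k, rfl⟩
          · rw [← hσ]; exact hx
          · rw [← map_pow, ← hK, FiniteField.pow_card]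
        simp [hy']
      rw [FiniteField.X_pow_card_sub_X_natDegree_eq F hq] at hle
      omega
    · rintro ⟨k, rfl⟩
      rw [hσ, ← map_pow, ← hK, FiniteField.pow_card]
  -- a hyperbolic basis
  obtain ⟨δ, hδ0, hδ⟩ := CfsgLib.UnitaryTransvection.exists_skew hF
  obtain ⟨i, hi⟩ := CfsgLib.UnitaryTransvection.exists_norm_eq hF (c := (-1 : F)) (by rw [map_neg, map_one])
  change δ + σ δ = 0 at hδ
  change i * σ i = -1 at hi
  obtain ⟨ζ, hζ⟩ := CfsgLib.UnitaryBasic.exists_zeta hF
  have hζn : (ζ : F) * σ (ζ : F) = 1 := by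
    rw [hσ, ← pow_succ', ← Units.val_pow_eq_pow_val, ← hζ, pow_orderOf_eq_one, Units.val_one]
  have hζ1 : (ζ : F) ≠ 1 := fun e => by
    rw [Units.val_eq_one] at e
    rw [e, orderOf_one] at hζ
    omega
  have hi0 : i ≠ 0 := fun e => by rw [e, zero_mul] at hi; exact neg_ne_zero.mpr one_ne_zero hi.symm
  obtain ⟨j, hj⟩ : ∃ j, j = i * (ζ : F) := ⟨_, rfl⟩
  have hjn : j * σ j = -1 := by rw [hj, map_mul]; linear_combination ((ζ : F) * σ (ζ : F)) * hi - hζn
  have hji : j - i ≠ 0 := fun e => hζ1 (mul_left_cancel₀ hi0 (by linear_combination e - hj))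
  have hη : 1 + i * σ j ≠ 0 := fun e => hji (by linear_combination j * e - i * hjn)
  obtain ⟨c, hc⟩ : ∃ c, c = σ (δ / (1 + i * σ j)) := ⟨_, rfl⟩
  have hc0 : c ≠ 0 := by
    rw [hc]
    exact (map_ne_zero σ).mpr (div_ne_zero hδ0 hη)
  have hcη : σ c * (1 + i * σ j) = δ := by rw [hc, hσσ, div_mul_cancel₀ _ hη]
  have hcη' : c * (1 + j * σ i) = -δ := by
    have e := congrArg σ hcη
    rw [map_mul, map_add, map_one, map_mul, hσσ, hσσ] at e
    linear_combination e + hδ
  let B : Matrix (Fin 2) (Fin 2) F := !![1, c; i, c * j]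
  let J : Matrix (Fin 2) (Fin 2) F := !![0, 1; -1, 0]
  have hB : B.det ≠ 0 := by
    rw [show B.det = c * (j - i) by simp only [B, Matrix.det_fin_two_of]; ring]
    exact mul_ne_zero hc0 hji
  have hBu : IsUnit B.det := isUnit_iff_ne_zero.mpr hB
  have hG : B.transpose * B.map σ = δ • J := by
    ext a b
    fin_cases a <;> fin_cases b <;> simp [B, J, Matrix.mul_apply, Fin.sum_univ_two]
    · linear_combination hi
    · linear_combination hcη
    · linear_combination hcη'
    · linear_combination (c * σ c) * hjn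
  have hJ : J * J = -1 := by
    ext a b
    fin_cases a <;> fin_cases b <;> simp [J, Matrix.mul_apply, Fin.sum_univ_two]
  have hJdet : ∀ N : Matrix (Fin 2) (Fin 2) F, N.transpose * J * N = N.det • J := by
    intro N
    ext a b
    fin_cases a <;> fin_cases b <;> simp [J, Matrix.mul_apply, Fin.sum_univ_two, Matrix.det_fin_two] <;> ring
  have hherm : ∀ M : Matrix (Fin 2) (Fin 2) F,
      (∀ u v, Cfsg.hermForm 2 F q (M *ᵥ u) (M *ᵥ v) = Cfsg.hermForm 2 F q u v) ↔ M.transpose * M.map σ = 1 := by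
    intro M
    have e : ∀ u v : Fin 2 → F, Cfsg.hermForm 2 F q (M *ᵥ u) (M *ᵥ v) = u ⬝ᵥ ((M.transpose * M.map σ) *ᵥ fun t => σ (v t)) := by
      intro u v
      simp only [Cfsg.hermForm, ← hσ, dotProduct, Matrix.mulVec, Matrix.mul_apply, Fin.sum_univ_two,
        Matrix.transpose_apply, Matrix.map_apply, map_add, map_mul]
      ring
    constructor
    · intro hM
      refine Matrix.ext fun a b => ?_
      have := hM (Pi.single a 1) (Pi.single b 1)
      rw [e] at this
      have hs : (fun t => σ ((Pi.single b (1 : F) : Fin 2 → F) t)) = Pi.single b 1 := by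
        funext t
        by_cases ht : t = b <;> simp [ht]
      rw [hs] at this
      simp only [Cfsg.hermForm, ← hσ, Fin.sum_univ_two] at this
      simp at this
      rw [this]
      fin_cases a <;> fin_cases b <;> simp
    · intro hM u v
      rw [e, hM, Matrix.one_mulVec]
      simp only [Cfsg.hermForm, ← hσ, dotProduct]
  have hmap : ∀ X Y : Matrix (Fin 2) (Fin 2) F, (X * Y).map σ = X.map σ * Y.map σ := fun X Y => Matrix.map_mul
  have hBt : IsUnit B.transpose.det := by rwa [Matrix.det_transpose]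
  have hBs : IsUnit (B.map σ).det := by
    rw [← RingHom.mapMatrix_apply, ← RingHom.map_det]
    exact hBu.map σ
  have hkey : ∀ N : Matrix (Fin 2) (Fin 2) F, N.det = 1 →
      ((B * N * B⁻¹).transpose * (B * N * B⁻¹).map σ = 1 ↔ N.map σ = N) := by
    intro N hN
    set Bi := B⁻¹
    have h1 : Bi * B = 1 := Matrix.nonsing_inv_mul B hBu
    have h1' : B * Bi = 1 := Matrix.mul_nonsing_inv B hBu
    have h2 : (B * N * Bi).transpose * (B * N * Bi).map σ =
        δ • (Bi.transpose * (N.transpose * J * N.map σ) * Bi.map σ) := by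
      rw [hmap, hmap, Matrix.transpose_mul, Matrix.transpose_mul]
      calc Bi.transpose * (N.transpose * B.transpose) * (B.map σ * N.map σ * Bi.map σ)
          = Bi.transpose * (N.transpose * (B.transpose * B.map σ) * N.map σ) * Bi.map σ := by
            simp only [Matrix.mul_assoc]
        _ = _ := by rw [hG]; simp [Matrix.mul_assoc]
    have h3 : δ • (Bi.transpose * J * Bi.map σ) = 1 := by
      calc δ • (Bi.transpose * J * Bi.map σ) = Bi.transpose * (B.transpose * B.map σ) * Bi.map σ := by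
            rw [hG]; simp [Matrix.mul_assoc]
        _ = (B * Bi).transpose * (B * Bi).map σ := by rw [hmap, Matrix.transpose_mul]; simp only [Matrix.mul_assoc]
        _ = 1 := by rw [h1']; simp
    rw [h2]
    constructor
    · intro h
      have h4 := congrArg (fun X => B.transpose * X * B.map σ) (h.trans h3.symm)
      have e1 : B.transpose * Bi.transpose = 1 := by rw [← Matrix.transpose_mul, h1, Matrix.transpose_one]
      have e2 : Bi.map σ * B.map σ = 1 := by rw [← hmap, h1]; simp
      have e3 : ∀ X, B.transpose * (δ • (Bi.transpose * X * Bi.map σ)) * B.map σ = δ • X := fun X => by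
        rw [Matrix.mul_smul, Matrix.smul_mul, ← Matrix.mul_assoc, ← Matrix.mul_assoc, e1, Matrix.one_mul,
          Matrix.mul_assoc, e2, Matrix.mul_one]
      simp only [e3] at h4
      have h5 : N.transpose * J * N.map σ = N.transpose * J * N := by
        rw [hJdet, hN, one_smul]
        exact smul_right_injective _ hδ0 h4
      have hu : IsUnit (N.transpose * J).det := by
        rw [Matrix.det_mul, Matrix.det_transpose, hN, show J.det = 1 by simp [J, Matrix.det_fin_two_of]]
        simp
      have := congrArg (fun X => (N.transpose * J)⁻¹ * X) h5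
      simp only [← Matrix.mul_assoc, Matrix.nonsing_inv_mul _ hu, Matrix.one_mul] at this
      exact this
    · intro h
      rw [h, hJdet, hN, one_smul, h3]
  -- the isomorphism
  let f : Matrix.SpecialLinearGroup (Fin 2) K →* Cfsg.SU 2 F q :=
    { toFun := fun g => ⟨⟨B * g.1.map φ * B⁻¹, by
          rw [Matrix.det_conj ((Matrix.isUnit_iff_isUnit_det B).mpr hBu), ← RingHom.mapMatrix_apply, ← RingHom.map_det, g.2, map_one]⟩,
        (hherm _).mpr ((hkey _ (by rw [← RingHom.mapMatrix_apply, ← RingHom.map_det, g.2, map_one])).mpr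
          (Matrix.ext fun a b => (hfix _).mpr ⟨_, rfl⟩))⟩
      map_one' := Subtype.ext (Subtype.ext (by
        show B * (1 : Matrix (Fin 2) (Fin 2) K).map φ * B⁻¹ = 1
        simp [Matrix.mul_nonsing_inv B hBu]))
      map_mul' := fun g k => Subtype.ext (Subtype.ext (by
        show B * (g.1 * k.1).map φ * B⁻¹ = (B * g.1.map φ * B⁻¹) * (B * k.1.map φ * B⁻¹)
        rw [Matrix.map_mul]
        simp only [Matrix.mul_assoc]
        rw [← Matrix.mul_assoc B⁻¹ B, Matrix.nonsing_inv_mul B hBu, Matrix.one_mul])) }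
  refine ⟨φ, B, hBu, MulEquiv.ofBijective f ⟨fun g k e => ?_, fun M => ?_⟩, fun A => rfl⟩
  · have e' : B * g.1.map φ * B⁻¹ = B * k.1.map φ * B⁻¹ := congrArg (fun x : Cfsg.SU 2 F q => x.1.1) e
    have e'' := congrArg (fun X => B⁻¹ * X * B) e'
    simp [Matrix.mul_assoc, Matrix.nonsing_inv_mul B hBu, ← Matrix.mul_assoc B⁻¹] at e''
    exact Subtype.ext (Matrix.ext fun a b => φ.injective (congrFun (congrFun e'' a) b))
  · set N := B⁻¹ * M.1.1 * B with hNdef
    have hBNB : B * N * B⁻¹ = M.1.1 := by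
      simp only [hNdef, Matrix.mul_assoc, Matrix.mul_nonsing_inv B hBu, Matrix.mul_one]
      rw [← Matrix.mul_assoc, Matrix.mul_nonsing_inv B hBu, Matrix.one_mul]
    have hNd : N.det = 1 := by
      rw [hNdef, Matrix.det_conj' ((Matrix.isUnit_iff_isUnit_det B).mpr hBu)]
      exact M.1.2
    have hN := (hkey N hNd).mp (by rw [hBNB]; exact (hherm _).mp M.2)
    choose g hg using fun a b => (hfix (N a b)).mp (congrFun (congrFun hN a) b)
    have hgN : (Matrix.of g).map φ = N := Matrix.ext fun a b => hg a b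
    refine ⟨⟨Matrix.of g, φ.injective ?_⟩, Subtype.ext (Subtype.ext ?_)⟩
    · rw [RingHom.map_det, RingHom.mapMatrix_apply, hgN, hNd, map_one]
    · show B * (Matrix.of g).map φ * B⁻¹ = M.1.1
      rw [hgN, hBNB]

variable {F : Type*} [Field F] [Fintype F] {q : ℕ} (hF : Fintype.card F = q ^ 2)

/-- Every automorphism of `SL 2` is a conjugation times a field automorphism. -/
theorem sl_aut {K : Type*} [Field K] [Fintype K]
    (ψ : MulAut (Matrix.SpecialLinearGroup (Fin 2) K)) :
    ∃ (g : GL (Fin 2) K) (e : K ≃+* K), ψ = PSL2.conjSL g * PSL2.fieldSL e := by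
  classical
  by_cases h2 : (2 : K) ≠ 0
  · exact Homogeneous.SD.exists_conj_field h2 ψ
  obtain ⟨p, hp⟩ := CharP.exists K
  haveI : Fact p.Prime := ⟨CharP.char_is_prime K p⟩
  obtain ⟨g, e, hge⟩ := PSL2.exists_diag_field p (PSL2.centreQuotAut _ ψ)
  refine ⟨g, e, MulEquiv.ext fun A => ?_⟩
  set ψ₀ : MulAut (Matrix.SpecialLinearGroup (Fin 2) K) := PSL2.conjSL g * PSL2.fieldSL e with hψ₀
  have hdiff : ∀ A : Matrix.SpecialLinearGroup (Fin 2) K,
      (ψ₀ A)⁻¹ * ψ A ∈ Subgroup.center (Matrix.SpecialLinearGroup (Fin 2) K) := by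
    intro A
    rw [← QuotientGroup.eq]
    exact (DFunLike.congr_fun hge (PSL2.mk A)).symm
  -- in characteristic two the centre is trivial
  push Not at h2
  rcases Homogeneous.SD.center_cases (hdiff A) with h | h
  · exact (inv_mul_eq_one.1 h).symm
  · refine (inv_mul_eq_one.1 (h.trans (Subtype.ext ?_))).symm
    rw [SpecialLinearGroup.coe_neg]
    ext i j
    simp only [Matrix.neg_apply, SpecialLinearGroup.coe_one]
    linear_combination -((1 : Matrix (Fin 2) (Fin 2) K) i j) * h2

include hF in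
/-- Automorphisms of `SU 2` are semilinear. -/
theorem su2_semilinear (α : Cfsg.SU 2 F q ≃* Cfsg.SU 2 F q) :
    ∃ (P : Matrix (Fin 2) (Fin 2) F) (τ : F ≃+* F), IsUnit P.det ∧
      ∀ x, mat (α x) = P * (mat x).map τ * P⁻¹ := by
  classical
  obtain ⟨K, _, _, hK⟩ := exists_K hF
  obtain ⟨φ, B, hB, Φ, hΦ⟩ := exists_sl_model hF hK
  obtain ⟨g, e, he⟩ := sl_aut (K := K) ((Φ.trans α).trans Φ.symm)
  obtain ⟨p, hp⟩ := CharP.exists K
  haveI : Fact p.Prime := ⟨CharP.char_is_prime K p⟩
  haveI hpF : CharP F p := charP_of_injective_ringHom φ.injective p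
  obtain ⟨i, -, hi⟩ := Homogeneous.SD.exists_frobenius_pow e
  let τ : F ≃+* F := RingEquiv.ofBijective (iterateFrobenius F p i)
    (Finite.injective_iff_bijective.1 (iterateFrobenius_inj F p i))
  have hτ : ∀ k : K, φ (e k) = τ (φ k) := fun k => by
    rw [hi, map_pow]
    exact (iterateFrobenius_def p i (φ k)).symm
  set H : Matrix (Fin 2) (Fin 2) F := g.1.map φ with hH
  set Hi : Matrix (Fin 2) (Fin 2) F := (g⁻¹).1.map φ with hHi
  have hHH : H * Hi = 1 := by
    rw [hH, hHi, ← Matrix.map_mul, ← Units.val_mul, mul_inv_cancel, Units.val_one,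
      Matrix.map_one _ (map_zero _) (map_one _)]
  have hBτ : IsUnit (B.map τ).det := by
    rw [← RingEquiv.coe_toRingHom, ← RingHom.mapMatrix_apply, ← RingHom.map_det]
    exact hB.map _
  have hBi : (B⁻¹).map τ = (B.map τ)⁻¹ := by
    refine (Matrix.inv_eq_left_inv ?_).symm
    rw [← Matrix.map_mul, Matrix.nonsing_inv_mul B hB, Matrix.map_one _ (map_zero _) (map_one _)]
  refine ⟨B * H * (B.map τ)⁻¹, τ, ?_, fun x => ?_⟩
  · rw [Matrix.det_mul, Matrix.det_mul]
    refine (hB.mul ?_).mul ((Matrix.isUnit_nonsing_inv_det _ hBτ))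
    have := congrArg Matrix.det hHH
    rw [Matrix.det_mul, Matrix.det_one] at this
    exact IsUnit.of_mul_eq_one _ this
  obtain ⟨A, rfl⟩ := Φ.surjective x
  have h1 : α (Φ A) = Φ (((PSL2.conjSL g * PSL2.fieldSL e) : MulAut _) A) := by
    rw [← he]
    simp
  have h2 : (((PSL2.conjSL g * PSL2.fieldSL e) : MulAut _) A).1.map φ = H * (A.1.map φ).map τ * Hi := by
    show (g.1 * (A.1.map e) * (g⁻¹).1).map φ = _
    rw [Matrix.map_mul, Matrix.map_mul, hH, hHi, Matrix.map_map, Matrix.map_map]
    congr 2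
    ext a b
    exact hτ _
  have hinv : (B * H * (B.map τ)⁻¹)⁻¹ = B.map τ * Hi * B⁻¹ := by
    refine Matrix.inv_eq_right_inv ?_
    simp only [Matrix.mul_assoc]
    rw [Matrix.nonsing_inv_mul_cancel_left _ _ hBτ, ← Matrix.mul_assoc H, hHH, Matrix.one_mul,
      Matrix.mul_nonsing_inv B hB]
  rw [h1, hΦ, hΦ, h2, hinv, Matrix.map_mul, Matrix.map_mul, hBi]
  simp only [Matrix.mul_assoc]
  rw [Matrix.nonsing_inv_mul_cancel_left _ _ hBτ, Matrix.nonsing_inv_mul_cancel_left _ _ hBτ]

/-- The twist of `SU n` by a diagonal unitary matrix and a field automorphism. -/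
theorem exists_twist {n : ℕ} (d : Fin n → F) (hd : ∀ i, d i * frob hF (d i) = 1) (τ : F ≃+* F) :
    ∃ β : Cfsg.SU n F q ≃* Cfsg.SU n F q, ∀ x i j, mat (β x) i j = d i * τ (mat x i j) * (d j)⁻¹ := by
  classical
  have hd0 : ∀ i, d i ≠ 0 := fun i e => by simpa [e] using hd i
  have hsd : ∀ i, frob hF (d i) = (d i)⁻¹ := fun i => eq_inv_of_mul_eq_one_right (hd i)
  have hcomm : ∀ z : F, frob hF (τ z) = τ (frob hF z) := fun z => by rw [frob_apply, frob_apply, map_pow]
  let M : Cfsg.SU n F q → Matrix (Fin n) (Fin n) F := fun x =>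
    Matrix.diagonal d * (mat x).map τ * Matrix.diagonal fun i => (d i)⁻¹
  have hM : ∀ x i j, M x i j = d i * τ (mat x i j) * (d j)⁻¹ := fun x i j => by
    simp [M, Matrix.diagonal_mul, Matrix.mul_diagonal]
  have hu : ∀ x, UMat hF (M x) := fun x => by
    unfold UMat
    have hx : (mat x)ᵀ * (mat x).map (frob hF) = 1 := umat_su hF x
    ext i j
    have e := congrArg τ (congrFun (congrFun hx i) j)
    simp only [Matrix.mul_apply, Matrix.transpose_apply, Matrix.map_apply, map_sum, map_mul] at e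
    rw [show τ ((1 : Matrix (Fin n) (Fin n) F) i j) = (1 : Matrix (Fin n) (Fin n) F) i j by
      rw [Matrix.one_apply]; split <;> simp] at e
    simp only [Matrix.mul_apply, Matrix.transpose_apply, Matrix.map_apply, hM, map_mul, map_inv₀, hsd, inv_inv,
      hcomm]
    rw [Finset.sum_congr rfl (fun k _ => show d k * τ (mat x k i) * (d i)⁻¹ *
        ((d k)⁻¹ * τ (frob hF (mat x k j)) * d j) = ((d i)⁻¹ * d j) * (τ (mat x k i) * τ (frob hF (mat x k j))) by
      field_simp [hd0 k]), ← Finset.mul_sum, e, Matrix.one_apply]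
    split
    · next h => subst h; rw [inv_mul_cancel₀ (hd0 i), mul_one]
    · rw [mul_zero]
  have hdd : (Matrix.diagonal fun i => (d i)⁻¹) * Matrix.diagonal d = 1 := by
    rw [Matrix.diagonal_mul_diagonal, ← Matrix.diagonal_one]
    exact congrArg _ (funext fun i => inv_mul_cancel₀ (hd0 i))
  have hdet : ∀ x, (M x).det = 1 := fun x => by
    rw [Matrix.det_mul, Matrix.det_mul, mul_comm (Matrix.diagonal d).det, mul_assoc,
      ← RingEquiv.coe_toRingHom, ← RingHom.mapMatrix_apply, ← RingHom.map_det, show (mat x).det = 1 from x.1.2,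
      map_one, one_mul, ← Matrix.det_mul]
    rw [Matrix.diagonal_mul_diagonal, Matrix.det_diagonal]
    exact Finset.prod_eq_one fun i _ => mul_inv_cancel₀ (hd0 i)
  let f : Cfsg.SU n F q →* Cfsg.SU n F q := MonoidHom.mk' (fun x => toSU hF (M x) (hu x) (hdet x))
    fun x y => su_eq_of_mat (by
      show M (x * y) = M x * M y
      simp only [M, mat_mul, Matrix.map_mul, Matrix.mul_assoc]
      rw [← Matrix.mul_assoc (Matrix.diagonal fun i => (d i)⁻¹) (Matrix.diagonal d), hdd, Matrix.one_mul])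
  have hf : Function.Injective f := fun x y e => su_eq_of_mat (by
    have e' : M x = M y := congrArg mat e
    ext i j
    have := congrFun (congrFun e' i) j
    rw [hM, hM] at this
    exact τ.injective (mul_left_cancel₀ (hd0 i) (mul_right_cancel₀ (inv_ne_zero (hd0 j)) this)))
  exact ⟨MulEquiv.ofBijective f (Finite.injective_iff_bijective.1 hf), fun x => hM x⟩

include hF in
/-- The automorphisms preserving the diagonal torus. -/
theorem su2_aut_torus (hq : 2 ≤ q) (α : Cfsg.SU 2 F q ≃* Cfsg.SU 2 F q) (hα : ∀ g, Diag2 g → Diag2 (α g)) :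
    ∃ (ζ : F) (τ : F ≃+* F), ζ * frob hF ζ = 1 ∧
      ∀ x i j, mat (α x) i j = ![1, ζ] i * τ (mat x i j) * (![1, ζ] j)⁻¹ := by
  classical
  obtain ⟨P, τ, hP, hPx⟩ := su2_semilinear hF α
  have hmul : ∀ x, mat (α x) * P = P * (mat x).map τ := fun x => by
    rw [hPx, Matrix.mul_assoc, Matrix.nonsing_inv_mul P hP, Matrix.mul_one]
  obtain ⟨t, z, ht, hz0, hz1, hzz⟩ := exists_diag hF (by omega)
  obtain ⟨hd1, hd2⟩ := hα t (by constructor <;> simp [ht])
  have et := hmul t
  rw [ht] at et
  have t00 := congrFun (congrFun et 0) 0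
  have t01 := congrFun (congrFun et 0) 1
  have t10 := congrFun (congrFun et 1) 0
  have t11 := congrFun (congrFun et 1) 1
  simp [Matrix.mul_apply, Fin.sum_univ_two, hd1, hd2] at t00 t01 t10 t11
  have hne : τ z ≠ τ z⁻¹ := fun e => hzz (by
    have := τ.injective e
    field_simp at this
    rw [← sq]; exact this)
  have hPd : P 0 0 * P 1 1 - P 0 1 * P 1 0 ≠ 0 := by
    rw [← Matrix.det_fin_two]; exact hP.ne_zero
  have mono : (P 0 1 = 0 ∧ P 1 0 = 0) ∨ (P 0 0 = 0 ∧ P 1 1 = 0) := by
    have a : P 0 0 * P 0 1 = 0 := by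
      by_contra h
      obtain ⟨h0, h1⟩ := mul_ne_zero_iff.1 h
      refine hne ?_
      rw [map_inv₀]
      have e0 : mat (α t) 0 0 = τ z := mul_right_cancel₀ h0 (by rw [t00, mul_comm])
      have e1 : mat (α t) 0 0 = (τ z)⁻¹ := mul_right_cancel₀ h1 (by rw [t01, mul_comm])
      exact e0.symm.trans e1
    have b : P 1 0 * P 1 1 = 0 := by
      by_contra h
      obtain ⟨h0, h1⟩ := mul_ne_zero_iff.1 h
      refine hne ?_
      rw [map_inv₀]
      have e0 : mat (α t) 1 1 = τ z := mul_right_cancel₀ h0 (by rw [t10, mul_comm])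
      have e1 : mat (α t) 1 1 = (τ z)⁻¹ := mul_right_cancel₀ h1 (by rw [t11, mul_comm])
      exact e0.symm.trans e1
    rcases mul_eq_zero.1 a with a | a <;> rcases mul_eq_zero.1 b with b | b
    · exact absurd (by rw [a, b]; ring) hPd
    · exact Or.inr ⟨a, b⟩
    · exact Or.inl ⟨a, b⟩
    · exact absurd (by rw [a, b]; ring) hPd
  -- a diagonal normal form
  suffices ∃ (c₀ c₁ : F) (τ' : F ≃+* F), c₀ ≠ 0 ∧ c₁ ≠ 0 ∧
      ∀ x i j, mat (α x) i j = ![c₀, c₁] i * τ' (mat x i j) * (![c₀, c₁] j)⁻¹ by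
    obtain ⟨c₀, c₁, τ', h0, h1, hform⟩ := this
    have hform' : ∀ x i j, mat (α x) i j = ![1, c₁ / c₀] i * τ' (mat x i j) * (![1, c₁ / c₀] j)⁻¹ := by
      intro x i j
      rw [hform]
      fin_cases i <;> fin_cases j <;> simp <;> field_simp
    refine ⟨c₁ / c₀, τ', ?_, hform'⟩
    have hu : UMat hF (!![0, 1; -1, 0] : Matrix (Fin 2) (Fin 2) F) := by
      unfold UMat
      ext i j
      fin_cases i <;> fin_cases j <;> simp [Matrix.mul_apply, Fin.sum_univ_two]
    let w : Cfsg.SU 2 F q := toSU hF _ hu (by simp [Matrix.det_fin_two])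
    have hw : mat w = !![0, 1; -1, 0] := rfl
    have e := congrFun (congrFun (umat_su hF (α w)) 0) 0
    simp [Matrix.mul_apply, Fin.sum_univ_two, hform', hw] at e
    rw [map_div₀]
    exact e
  rcases mono with ⟨p01, p10⟩ | ⟨p00, p11⟩
  · rw [p01, zero_mul, sub_zero] at hPd
    obtain ⟨h0, h1⟩ := mul_ne_zero_iff.1 hPd
    refine ⟨P 0 0, P 1 1, τ, h0, h1, fun x i j => ?_⟩
    have e := congrFun (congrFun (hmul x) i) j
    have hd : P = Matrix.diagonal ![P 0 0, P 1 1] := by
      ext a b
      fin_cases a <;> fin_cases b <;> simp [p01, p10]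
    rw [hd, Matrix.mul_diagonal, Matrix.diagonal_mul, Matrix.map_apply] at e
    rw [eq_mul_inv_iff_mul_eq₀ (by fin_cases j <;> assumption)]
    exact e
  · rw [p00, zero_mul, zero_sub, neg_ne_zero] at hPd
    obtain ⟨h0, h1⟩ := mul_ne_zero_iff.1 hPd
    let τ' : F ≃+* F := τ.trans (RingEquiv.ofBijective (frob hF)
      (Finite.injective_iff_bijective.1 (frob hF).injective))
    refine ⟨P 0 1, -P 1 0, τ', h0, neg_ne_zero.2 h1, fun x i j => ?_⟩
    have hx := umat_su hF x
    have hdet : mat x 0 0 * mat x 1 1 - mat x 0 1 * mat x 1 0 = 1 := by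
      rw [← Matrix.det_fin_two]; exact x.1.2
    have c00 := congrFun (congrFun hx 0) 0
    have c01 := congrFun (congrFun hx 0) 1
    have c10 := congrFun (congrFun hx 1) 0
    have c11 := congrFun (congrFun hx 1) 1
    simp [Matrix.mul_apply, Fin.sum_univ_two] at c00 c01 c10 c11
    have s00 : frob hF (mat x 0 0) = mat x 1 1 := by
      linear_combination mat x 1 1 * c00 - mat x 1 0 * c10 - frob hF (mat x 0 0) * hdet
    have s10 : frob hF (mat x 1 0) = -mat x 0 1 := by
      linear_combination mat x 0 0 * c10 - mat x 0 1 * c00 - frob hF (mat x 1 0) * hdet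
    have s11 : frob hF (mat x 1 1) = mat x 0 0 := by rw [← s00, frob_frob]
    have s01 : frob hF (mat x 0 1) = -mat x 1 0 := by
      have := congrArg (frob hF) s10
      rw [frob_frob, map_neg] at this
      rw [this, neg_neg]
    have hc : ∀ y, τ' y = τ (frob hF y) := fun y => by
      show frob hF (τ y) = τ (frob hF y)
      rw [frob_apply, frob_apply, map_pow]
    rw [hc, eq_mul_inv_iff_mul_eq₀ (by fin_cases j <;> first | assumption | exact neg_ne_zero.2 h1)]
    have e0 := congrFun (congrFun (hmul x) i) 0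
    have e1 := congrFun (congrFun (hmul x) i) 1
    fin_cases i <;> fin_cases j <;>
      simp [Matrix.mul_apply, Fin.sum_univ_two, p00, p11, s00, s01, s10, s11] at e0 e1 ⊢ <;>
      first | linear_combination e0 | linear_combination e1 | linear_combination -e0 | linear_combination -e1

end CfsgLib.Phan
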